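import Cfsg.Agent.Lib.Suzuki.Sylow
import Cfsg.Prelude.Def_Sz

/-! The two definitions of the Suzuki group agree; the action on the cosets of a Sylow normalizer. -/

set_option autoImplicit false

open Matrix
open scoped Pointwise

namespace Cfsg.Agent.Suzuki

variable {F : Type*} [Field F] [Fintype F] {m : ℕ}

/-- The defining conditions on a matrix. -/
def SzSet (m : ℕ) (M : Matrix (Fin 4) (Fin 4) F) : Prop :=
  (∀ u v, Cfsg.Lie.altForm4 (M *ᵥ u) (M *ᵥ v) = Cfsg.Lie.altForm4 u v) ∧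
    Cfsg.Lie.star4 M = M.map (sg m)

namespace SzHyp

variable (hs : SzHyp F m)

include hs

theorem col_sum {M : Matrix (Fin 4) (Fin 4) F}
    (hM : ∀ u v, Cfsg.Lie.altForm4 (M *ᵥ u) (M *ᵥ v) = Cfsg.Lie.altForm4 u v) (i j : Fin 4) :
    M 0 i * M 3 j + M 1 i * M 2 j + M 2 i * M 1 j + M 3 i * M 0 j =
      Cfsg.Lie.altForm4 (Pi.single i (1 : F)) (Pi.single j 1) := by
  rw [← hM, Matrix.mulVec_single_one, Matrix.mulVec_single_one]
  rfl

theorem star4_mul {A B : Matrix (Fin 4) (Fin 4) F}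
    (hA : ∀ p, A (Cfsg.Lie.pairOf p).1 0 * A (Cfsg.Lie.pairOf p).2 3 + A (Cfsg.Lie.pairOf p).2 0 * A (Cfsg.Lie.pairOf p).1 3
      + (A (Cfsg.Lie.pairOf p).1 1 * A (Cfsg.Lie.pairOf p).2 2 + A (Cfsg.Lie.pairOf p).2 1 * A (Cfsg.Lie.pairOf p).1 2) = 0)
    (hB : ∀ u v, Cfsg.Lie.altForm4 (B *ᵥ u) (B *ᵥ v) = Cfsg.Lie.altForm4 u v) :
    Cfsg.Lie.star4 (A * B) = Cfsg.Lie.star4 A * Cfsg.Lie.star4 B := by
  ext p r
  have hr : Cfsg.Lie.altForm4 (Pi.single (Cfsg.Lie.pairOf r).1 (1 : F)) (Pi.single (Cfsg.Lie.pairOf r).2 1) = 0 := by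
    fin_cases r <;> simp [Cfsg.Lie.pairOf, Cfsg.Lie.altForm4]
  have hb := (hs.col_sum hB (Cfsg.Lie.pairOf r).1 (Cfsg.Lie.pairOf r).2).trans hr
  have ha := hA p
  simp only [Cfsg.Lie.star4, Matrix.of_apply, Matrix.mul_apply, Fin.sum_univ_four, hs.sub_eq]
  have e0 : Cfsg.Lie.pairOf 0 = ((0 : Fin 4), (1 : Fin 4)) := rfl
  have e1 : Cfsg.Lie.pairOf 1 = ((0 : Fin 4), (2 : Fin 4)) := rfl
  have e2 : Cfsg.Lie.pairOf 2 = ((1 : Fin 4), (3 : Fin 4)) := rfl
  have e3 : Cfsg.Lie.pairOf 3 = ((2 : Fin 4), (3 : Fin 4)) := rfl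
  simp only [e0, e1, e2, e3]
  generalize (Cfsg.Lie.pairOf p).1 = k at *
  generalize (Cfsg.Lie.pairOf p).2 = l at *
  generalize (Cfsg.Lie.pairOf r).1 = i at *
  generalize (Cfsg.Lie.pairOf r).2 = j at *
  linear_combination (A k 0 * A l 3 + A l 0 * A k 3) * hb + (B 1 i * B 2 j + B 2 i * B 1 j) * ha
    + (A k 0 * A l 0 * B 0 i * B 0 j + A k 1 * A l 1 * B 1 i * B 1 j + A k 2 * A l 2 * B 2 i * B 2 j
      + A k 3 * A l 3 * B 3 i * B 3 j - (A k 0 * A l 3 + A l 0 * A k 3) * (B 1 i * B 2 j + B 2 i * B 1 j)) * hs.two_eq_zero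

theorem map_mul_sg (A B : Matrix (Fin 4) (Fin 4) F) : (A * B).map (sg m) = A.map (sg m) * B.map (sg m) := by
  ext i j
  simp only [Matrix.map_apply, Matrix.mul_apply, Fin.sum_univ_four, hs.sg_add, sg_mul]

theorem szSet_mul {A B : Matrix (Fin 4) (Fin 4) F}
    (hA : ∀ p, A (Cfsg.Lie.pairOf p).1 0 * A (Cfsg.Lie.pairOf p).2 3 + A (Cfsg.Lie.pairOf p).2 0 * A (Cfsg.Lie.pairOf p).1 3
      + (A (Cfsg.Lie.pairOf p).1 1 * A (Cfsg.Lie.pairOf p).2 2 + A (Cfsg.Lie.pairOf p).2 1 * A (Cfsg.Lie.pairOf p).1 2) = 0)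
    (hA' : SzSet m A) (hB : SzSet m B) : SzSet m (A * B) := by
  refine ⟨fun u v => ?_, ?_⟩
  · rw [← Matrix.mulVec_mulVec, ← Matrix.mulVec_mulVec, hA'.1, hB.1]
  · rw [hs.star4_mul hA hB.1, hA'.2, hB.2, hs.map_mul_sg]

/-- Left multiplication by the matrix preserves the defining conditions. -/
def Good (_ : SzHyp F m) (A : Matrix (Fin 4) (Fin 4) F) : Prop := SzSet m A ∧ ∀ B, SzSet m B → SzSet m (A * B)

theorem good_mul {A B : Matrix (Fin 4) (Fin 4) F} (hA : hs.Good A) (hB : hs.Good B) : hs.Good (A * B) :=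
  ⟨hA.2 _ hB.1, fun C hC => by rw [mul_assoc]; exact hA.2 _ (hB.2 _ hC)⟩

theorem good_tMat (a b : F) : hs.Good (tMat m a b) := by
  have hr : ∀ p, tMat m a b (Cfsg.Lie.pairOf p).1 0 * tMat m a b (Cfsg.Lie.pairOf p).2 3
      + tMat m a b (Cfsg.Lie.pairOf p).2 0 * tMat m a b (Cfsg.Lie.pairOf p).1 3
      + (tMat m a b (Cfsg.Lie.pairOf p).1 1 * tMat m a b (Cfsg.Lie.pairOf p).2 2
      + tMat m a b (Cfsg.Lie.pairOf p).2 1 * tMat m a b (Cfsg.Lie.pairOf p).1 2) = 0 := by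
    intro p
    fin_cases p <;> simp [tMat, Cfsg.Lie.pairOf, fSz]
    all_goals first
      | linear_combination b * hs.two_eq_zero
      | linear_combination a * hs.two_eq_zero
      | linear_combination (sg m a * a + b) * hs.two_eq_zero
  have h : SzSet m (tMat m a b) := by
    refine ⟨fun u v => ?_, ?_⟩
    · simp [tMat, Cfsg.Lie.altForm4, Matrix.mulVec, dotProduct, Fin.sum_univ_succ, fSz]
      linear_combination (a * (u 1 * v 3 + u 3 * v 1) + (b + sg m a * a) * (u 2 * v 3 + u 3 * v 2)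
        + (a * b + sg m a * a ^ 2 + sg m b) * (u 3 * v 3) + sg m a * (u 2 * v 2)
        + a * b * (u 3 * v 3)) * hs.two_eq_zero
    · ext p r
      fin_cases p <;> fin_cases r <;>
        simp [tMat, Cfsg.Lie.star4, Cfsg.Lie.pairOf, Matrix.map_apply, fSz, sg_zero, sg_one, hs.sg_add, sg_mul,
          hs.sg_sg, hs.sub_eq, show sg m (a ^ 2) = sg m a ^ 2 by rw [sq, sg_mul, sq]]
      all_goals first
        | ring1
        | linear_combination (a * b) * hs.two_eq_zero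
        | linear_combination (b * a + sg m a * a ^ 2) * hs.two_eq_zero
        | linear_combination (b * sg m a * a) * hs.two_eq_zero
        | linear_combination (sg m a * a) * hs.two_eq_zero
        | linear_combination (a * b + sg m a * a ^ 2) * hs.two_eq_zero
        | linear_combination (sg m a * a * b) * hs.two_eq_zero
  exact ⟨h, fun B hB => hs.szSet_mul hr h hB⟩

theorem good_dMat (s : Fˣ) : hs.Good (dMat m (s : F)) := by
  have h0 := s.ne_zero
  have h1 := sg_ne_zero (m := m) h0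
  have hr : ∀ p, dMat m (s : F) (Cfsg.Lie.pairOf p).1 0 * dMat m (s : F) (Cfsg.Lie.pairOf p).2 3
      + dMat m (s : F) (Cfsg.Lie.pairOf p).2 0 * dMat m (s : F) (Cfsg.Lie.pairOf p).1 3
      + (dMat m (s : F) (Cfsg.Lie.pairOf p).1 1 * dMat m (s : F) (Cfsg.Lie.pairOf p).2 2
      + dMat m (s : F) (Cfsg.Lie.pairOf p).2 1 * dMat m (s : F) (Cfsg.Lie.pairOf p).1 2) = 0 := by
    intro p
    fin_cases p <;> simp [dMat, Cfsg.Lie.pairOf]
  have h : SzSet m (dMat m (s : F)) := by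
    refine ⟨fun u v => ?_, ?_⟩
    · simp [dMat, Cfsg.Lie.altForm4, Matrix.mulVec, dotProduct, Fin.sum_univ_succ]
      field_simp
    · ext p r
      fin_cases p <;> fin_cases r <;>
        simp [dMat, Cfsg.Lie.star4, Cfsg.Lie.pairOf, Matrix.map_apply, sg_zero, sg_mul, sg_inv, hs.sg_sg,
          show sg m ((s : F) ^ 2) = sg m (s : F) ^ 2 by rw [sq, sg_mul, sq]]
      all_goals field_simp
  exact ⟨h, fun B hB => hs.szSet_mul hr h hB⟩

theorem good_wMat : hs.Good (wMat F) := by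
  have hr : ∀ p, wMat F (Cfsg.Lie.pairOf p).1 0 * wMat F (Cfsg.Lie.pairOf p).2 3
      + wMat F (Cfsg.Lie.pairOf p).2 0 * wMat F (Cfsg.Lie.pairOf p).1 3
      + (wMat F (Cfsg.Lie.pairOf p).1 1 * wMat F (Cfsg.Lie.pairOf p).2 2
      + wMat F (Cfsg.Lie.pairOf p).2 1 * wMat F (Cfsg.Lie.pairOf p).1 2) = 0 := by
    intro p
    fin_cases p <;> simp [wMat, Cfsg.Lie.pairOf]
  have h : SzSet m (wMat F) := by
    refine ⟨fun u v => ?_, ?_⟩
    · simp [wMat, Cfsg.Lie.altForm4, Matrix.mulVec, dotProduct, Fin.sum_univ_succ]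
      ring
    · ext p r
      fin_cases p <;> fin_cases r <;>
        simp [wMat, Cfsg.Lie.star4, Cfsg.Lie.pairOf, Matrix.map_apply, sg_zero, sg_one, hs.sub_eq, hs.neg_eq]
  exact ⟨h, fun B hB => hs.szSet_mul hr h hB⟩

theorem good_of_mem (g : ↥(Cfsg.Sz F m)) :
    hs.Good ((g : Matrix.SpecialLinearGroup (Fin 4) F) : Matrix (Fin 4) (Fin 4) F) := by
  rcases hs.decomp g with ⟨a, b, s, rfl⟩ | ⟨a, b, c, d, s, rfl⟩
  · exact hs.good_mul (hs.good_tMat a b) (hs.good_dMat s)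
  · exact hs.good_mul (hs.good_mul (hs.good_tMat a b) hs.good_wMat) (hs.good_mul (hs.good_tMat c d) (hs.good_dMat s))

theorem col_eq {v : Fin 4 → F} {P : F}
    (e1 : v 0 * P + v 1 * sg m (v 1) + v 2 * sg m (v 0) = 0)
    (e2 : v 0 * sg m (v 2) + v 1 * P + v 3 * sg m (v 0) = 0)
    (e3 : v 0 * sg m (v 3) + v 2 * P + v 3 * sg m (v 1) = 0)
    (e4 : v 1 * sg m (v 3) + v 2 * sg m (v 2) + v 3 * P = 0) :
    (∃ c : F, v = c • ![1, 0, 0, 0]) ∨ ∃ c x y : F, v = c • vSz m x y := by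
  by_cases h3 : v 3 = 0
  · left
    rw [h3, sg_zero, mul_zero, zero_add, zero_mul, add_zero] at e4
    have h2 : v 2 = 0 := (mul_eq_zero.mp e4).elim id sg_eq_zero.mp
    rw [h3, h2, sg_zero, zero_mul, mul_zero, zero_add, add_zero] at e2
    rw [h2, zero_mul, add_zero] at e1
    have h1 : v 1 = 0 := by
      by_contra h1
      rw [(mul_eq_zero.mp e2).resolve_left h1, mul_zero, zero_add] at e1
      exact mul_ne_zero h1 (sg_ne_zero h1) e1
    exact ⟨v 0, by ext i; fin_cases i <;> simp [h1, h2, h3]⟩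
  · right
    have hσ := sg_ne_zero (m := m) h3
    refine ⟨v 3, v 2 / v 3, v 1 / v 3, ?_⟩
    ext i; fin_cases i
    · simp [vSz, fSz, div_eq_mul_inv, sg_mul, sg_inv]
      field_simp
      linear_combination v 3 * e3 + v 2 * e4 - (v 2 * v 3 * P + v 1 * v 2 * sg m (v 3) + v 3 ^ 2 * sg m (v 1)
        + sg m (v 2) * v 2 ^ 2) * hs.two_eq_zero
    · simp [vSz]; field_simp
    · simp [vSz]; field_simp
    · simp [vSz]

theorem fst_col {M : Matrix (Fin 4) (Fin 4) F} (hM : SzSet m M) :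
    (∃ c : F, M.col 0 = c • ![1, 0, 0, 0]) ∨ ∃ c x y : F, M.col 0 = c • vSz m x y := by
  obtain ⟨hf, hstar⟩ := hM
  have q : ∀ p, _ := fun p => congrFun (congrFun hstar p) 0
  have q0 := q 0
  have q1 := q 1
  have q2 := q 2
  have q3 := q 3
  simp [Cfsg.Lie.star4, Cfsg.Lie.pairOf, Matrix.map_apply, hs.sub_eq] at q0 q1 q2 q3
  have hb := hs.col_sum hf 0 1
  simp [Cfsg.Lie.altForm4] at hb
  refine hs.col_eq (P := M 1 0 * M 2 1 + M 2 0 * M 1 1) ?_ ?_ ?_ ?_ <;> simp only [Matrix.col_apply]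
  · rw [← q0, ← q1]
    linear_combination (M 0 0 * M 1 0 * M 2 1 + M 0 0 * M 2 0 * M 1 1 + M 1 0 * M 2 0 * M 0 1) * hs.two_eq_zero
  · rw [← q0, ← q2]
    linear_combination M 1 0 * hb + (M 0 0 * M 1 0 * (0 : F) + M 0 0 * M 3 0 * M 1 1) * hs.two_eq_zero
  · rw [← q1, ← q3]
    linear_combination M 2 0 * hb + (M 0 0 * M 3 0 * M 2 1) * hs.two_eq_zero
  · rw [← q2, ← q3]
    linear_combination (M 1 0 * M 2 0 * M 3 1 + M 1 0 * M 3 0 * M 2 1 + M 2 0 * M 3 0 * M 1 1) * hs.two_eq_zero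

theorem last_col {M : Matrix (Fin 4) (Fin 4) F} (hM : SzSet m M) :
    (∃ c : F, M.col 3 = c • ![1, 0, 0, 0]) ∨ ∃ c x y : F, M.col 3 = c • vSz m x y := by
  obtain ⟨hf, hstar⟩ := hM
  have q : ∀ p, _ := fun p => congrFun (congrFun hstar p) 3
  have q0 := q 0
  have q1 := q 1
  have q2 := q 2
  have q3 := q 3
  simp [Cfsg.Lie.star4, Cfsg.Lie.pairOf, Matrix.map_apply, hs.sub_eq] at q0 q1 q2 q3
  have hb := hs.col_sum hf 3 2
  simp [Cfsg.Lie.altForm4] at hb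
  refine hs.col_eq (P := M 1 3 * M 2 2 + M 2 3 * M 1 2) ?_ ?_ ?_ ?_ <;> simp only [Matrix.col_apply]
  · rw [← q0, ← q1]
    linear_combination (M 0 3 * M 1 3 * M 2 2 + M 0 3 * M 2 3 * M 1 2 + M 1 3 * M 2 3 * M 0 2) * hs.two_eq_zero
  · rw [← q0, ← q2]
    linear_combination M 1 3 * hb + (M 0 3 * M 3 3 * M 1 2) * hs.two_eq_zero
  · rw [← q1, ← q3]
    linear_combination M 2 3 * hb + (M 0 3 * M 3 3 * M 2 2) * hs.two_eq_zero
  · rw [← q2, ← q3]
    linear_combination (M 1 3 * M 2 3 * M 3 2 + M 1 3 * M 3 3 * M 2 2 + M 2 3 * M 3 3 * M 1 2) * hs.two_eq_zero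

theorem exists_dMat {M : Matrix (Fin 4) (Fin 4) F} (hM : SzSet m M) {c d : F} (h0 : M.col 0 = c • ![1, 0, 0, 0])
    (h3 : M.col 3 = d • vSz m (0 : F) 0) : ∃ s : Fˣ, M = dMat m (s : F) := by
  obtain ⟨hf, hstar⟩ := hM
  rw [vSz_zero] at h3
  have z00 : M 0 0 = c := by simpa using congrFun h0 0
  have z10 : M 1 0 = 0 := by simpa using congrFun h0 1
  have z20 : M 2 0 = 0 := by simpa using congrFun h0 2
  have z30 : M 3 0 = 0 := by simpa using congrFun h0 3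
  have z03 : M 0 3 = 0 := by simpa using congrFun h3 0
  have z13 : M 1 3 = 0 := by simpa using congrFun h3 1
  have z23 : M 2 3 = 0 := by simpa using congrFun h3 2
  have z33 : M 3 3 = d := by simpa using congrFun h3 3
  have b03 := hs.col_sum hf 0 3
  have b01 := hs.col_sum hf 0 1
  have b02 := hs.col_sum hf 0 2
  have b31 := hs.col_sum hf 3 1
  have b32 := hs.col_sum hf 3 2
  have b12 := hs.col_sum hf 1 2
  simp [Cfsg.Lie.altForm4, z00, z10, z20, z30, z03, z13, z23, z33] at b03 b01 b02 b31 b32 b12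
  have hc : c ≠ 0 := left_ne_zero_of_mul_eq_one b03
  have hd : d ≠ 0 := right_ne_zero_of_mul_eq_one b03
  have z31 : M 3 1 = 0 := b01.resolve_left hc
  have z32 : M 3 2 = 0 := b02.resolve_left hc
  have z01 : M 0 1 = 0 := b31.resolve_left hd
  have z02 : M 0 2 = 0 := b32.resolve_left hd
  have q0 := congrFun (congrFun hstar 0) 0
  have q1 := congrFun (congrFun hstar 1) 0
  have q2 := congrFun (congrFun hstar 2) 3
  simp [Cfsg.Lie.star4, Cfsg.Lie.pairOf, Matrix.map_apply, z00, z10, z20, z30, z03, z13, z23, z33, sg_zero,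
    hs.sub_eq, hc, hd] at q0 q1 q2
  simp [z01, z02, z31, z32, q1, q2] at b12
  obtain ⟨e, he⟩ := hs.exists_sg c
  obtain ⟨s, hse⟩ := hs.exists_sgmul e
  have hcs : c = sg m s * s ^ 2 := by
    rw [← he, ← hse, sg_mul, hs.sg_sg, mul_comm]
  have hs0 : s ≠ 0 := fun e => hc (by rw [hcs, e]; simp)
  have hσ := sg_ne_zero (m := m) hs0
  have v11 : M 1 1 = sg m s := by
    refine mul_left_cancel₀ hc ?_
    rw [q0]
    nth_rewrite 1 [hcs]
    rw [hcs, sg_mul, hs.sg_sg, sq s, sg_mul]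
    ring
  refine ⟨Units.mk0 s hs0, ?_⟩
  have v22 : M 2 2 = (sg m s)⁻¹ := by
    refine eq_inv_of_mul_eq_one_left ?_
    rw [← v11, mul_comm]
    exact b12
  have v33 : d = (sg m s * s ^ 2)⁻¹ := by
    rw [← hcs]; exact eq_inv_of_mul_eq_one_right b03
  ext i j
  fin_cases i <;> fin_cases j <;>
    simp [dMat, z00, z10, z20, z30, z03, z13, z23, z33, z01, z02, z31, z32, q1, q2, v11, v22, v33, hcs]

theorem mem_of_szSet (g : GL (Fin 4) F) (hg : SzSet m (g : Matrix (Fin 4) (Fin 4) F)) :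
    g ∈ (Cfsg.Sz F m).map Matrix.SpecialLinearGroup.toGL := by
  set M := (g : Matrix (Fin 4) (Fin 4) F) with hM
  have hinj : ∀ N : GL (Fin 4) F, Function.Injective fun v => (N : Matrix (Fin 4) (Fin 4) F) *ᵥ v := fun N =>
    Matrix.mulVec_injective_iff_isUnit.mpr N.isUnit
  obtain ⟨k, c, hc⟩ : ∃ k : ↥(Cfsg.Sz F m), ∃ c : F,
      (((k : Matrix.SpecialLinearGroup (Fin 4) F) : Matrix (Fin 4) (Fin 4) F) * M).col 0 = c • ![1, 0, 0, 0] := by
    rcases hs.fst_col hg with ⟨c, hc⟩ | ⟨c, x, y, hc⟩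
    · refine ⟨1, c, ?_⟩
      rw [show (((1 : ↥(Cfsg.Sz F m)) : Matrix.SpecialLinearGroup (Fin 4) F) : Matrix (Fin 4) (Fin 4) F) = 1 from rfl,
        one_mul, hc]
    · refine ⟨hs.wS * (hs.tS x y)⁻¹, c, ?_⟩
      rw [hs.tS_inv]
      show ((wMat F * tMat m x (y + sg m x * x)) * M).col 0 = _
      rw [← Matrix.mulVec_single_one, ← Matrix.mulVec_mulVec, Matrix.mulVec_single_one, hc, Matrix.mulVec_smul,
        ← Matrix.mulVec_mulVec, hs.tMat_point]
      rw [show x + x = 0 from hs.add_self x,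
        show y + sg m x * x + (y + sg m x * x) = 0 from hs.add_self _, vSz_zero]
      congr 1
      ext i; fin_cases i <;> simp [wMat, Matrix.mulVec, dotProduct, Fin.sum_univ_succ]
  have hk := (hs.good_of_mem k).2 _ hg
  set K : GL (Fin 4) F := Matrix.SpecialLinearGroup.toGL (k : Matrix.SpecialLinearGroup (Fin 4) F) with hK
  set N := ((k : Matrix.SpecialLinearGroup (Fin 4) F) : Matrix (Fin 4) (Fin 4) F) * M with hN
  have hNK : N = ((K * g : GL (Fin 4) F) : Matrix (Fin 4) (Fin 4) F) := rfl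
  obtain ⟨x, y, d, hd⟩ : ∃ x y d : F, N.col 3 = d • vSz m x y := by
    rcases hs.last_col hk with ⟨d, hd⟩ | ⟨d, x, y, hd⟩
    · exfalso
      have h : N *ᵥ (d • Pi.single (0 : Fin 4) (1 : F)) = N *ᵥ (c • Pi.single (3 : Fin 4) (1 : F)) := by
        rw [Matrix.mulVec_smul, Matrix.mulVec_smul, Matrix.mulVec_single_one, Matrix.mulVec_single_one, hc, hd,
          smul_comm]
      rw [hNK] at h
      have h' := hinj (K * g) h
      have hd0 : d = 0 := by simpa using congrFun h' 0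
      rw [hd0, zero_smul, ← Matrix.mulVec_single_one, hNK, ← Matrix.mulVec_zero ((K * g : GL (Fin 4) F) : Matrix (Fin 4) (Fin 4) F)] at hd
      exact one_ne_zero (α := F) (by simpa using congrFun (hinj (K * g) hd) 3)
    · exact ⟨x, y, d, hd⟩
  have ht := (hs.good_tMat x (y + sg m x * x)).2 _ hk
  have h0 : (tMat m x (y + sg m x * x) * N).col 0 = c • ![1, 0, 0, 0] := by
    rw [← Matrix.mulVec_single_one, ← Matrix.mulVec_mulVec, Matrix.mulVec_single_one, hc, Matrix.mulVec_smul,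
      tMat_infty, one_smul]
  have h3 : (tMat m x (y + sg m x * x) * N).col 3 = d • vSz m (0 : F) 0 := by
    rw [← Matrix.mulVec_single_one, ← Matrix.mulVec_mulVec, Matrix.mulVec_single_one, hd, Matrix.mulVec_smul,
      hs.tMat_point, show x + x = 0 from hs.add_self x, show y + sg m x * x + (y + sg m x * x) = 0 from hs.add_self _,
      one_smul]
  obtain ⟨s, hs'⟩ := hs.exists_dMat ht h0 h3
  refine ⟨((((hs.tS x y)⁻¹ * k)⁻¹ * hs.dS s : ↥(Cfsg.Sz F m)) : Matrix.SpecialLinearGroup (Fin 4) F),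
    (((hs.tS x y)⁻¹ * k)⁻¹ * hs.dS s).2, ?_⟩
  rw [Subgroup.coe_mul, map_mul, Subgroup.coe_inv, map_inv, inv_mul_eq_iff_eq_mul]
  refine Units.ext ?_
  rw [hs.tS_inv]
  show dMat m (s : F) = tMat m x (y + sg m x * x) * ((k : Matrix.SpecialLinearGroup (Fin 4) F) :
    Matrix (Fin 4) (Fin 4) F) * M
  rw [mul_assoc]
  exact hs'.symm

theorem lie_eq : Cfsg.Lie.Sz F (2 ^ (m + 1)) = (Cfsg.Sz F m).map Matrix.SpecialLinearGroup.toGL := by
  refine le_antisymm ?_ ?_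
  · rw [Cfsg.Lie.Sz, Subgroup.closure_le]
    rintro g ⟨h1, h2⟩
    exact hs.mem_of_szSet g ⟨h1, h2⟩
  · rintro _ ⟨g, hg, rfl⟩
    exact Subgroup.subset_closure ⟨(hs.good_of_mem ⟨g, hg⟩).1.1, (hs.good_of_mem ⟨g, hg⟩).1.2⟩

/-- The isomorphism of the two definitions. -/
noncomputable def lieEquiv : ↥(Cfsg.Lie.Sz F (2 ^ (m + 1))) ≃* ↥(Cfsg.Sz F m) :=
  (MulEquiv.subgroupCongr hs.lie_eq).trans
    ((Cfsg.Sz F m).equivMapOfInjective _ Matrix.SpecialLinearGroup.toGL_injective).symm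

theorem coset_action {G : Type*} [Group G] (e : G ≃* ↥(Cfsg.Sz F m)) :
    Nat.card G = (2 ^ (2 * m + 1)) ^ 2 * (2 ^ (2 * m + 1) - 1) * ((2 ^ (2 * m + 1)) ^ 2 + 1) ∧
    ∃ S : Sylow 2 G,
      Nat.card (Subgroup.normalizer ((S : Subgroup G) : Set G)) = (2 ^ (2 * m + 1)) ^ 2 * (2 ^ (2 * m + 1) - 1) ∧
      (Subgroup.normalizer ((S : Subgroup G) : Set G)).index = (2 ^ (2 * m + 1)) ^ 2 + 1 ∧
      MulAction.IsMultiplyPretransitive G (G ⧸ Subgroup.normalizer ((S : Subgroup G) : Set G)) 2 ∧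
      ∀ x y : G ⧸ Subgroup.normalizer ((S : Subgroup G) : Set G),
        x ≠ (QuotientGroup.mk 1) → y ≠ (QuotientGroup.mk 1) → ∃! s : ↥(S : Subgroup G), (s : G) • x = y := by
  haveI := Fact.mk Nat.prime_two
  have hcard : Nat.card G = (2 ^ (2 * m + 1)) ^ 2 * (2 ^ (2 * m + 1) - 1) * ((2 ^ (2 * m + 1)) ^ 2 + 1) := by
    rw [Nat.card_congr e.toEquiv, hs.card_sz]; ring
  refine ⟨hcard, ?_⟩
  let T : Subgroup G := hs.tSub.map e.symm.toMonoidHom
  have hTp : IsPGroup 2 ↥T := hs.isPGroup_tSub.map e.symm.toMonoidHom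
  have hTi : ¬ 2 ∣ T.index := by
    rw [Subgroup.index_map_of_bijective (f := e.symm.toMonoidHom) e.symm.bijective]
    exact hs.two_not_dvd_index
  refine ⟨hTp.toSylow hTi, ?_⟩
  rw [IsPGroup.toSylow_coe]
  have hN : Subgroup.normalizer (T : Set G) =
      (MulAction.stabilizer (↥(Cfsg.Sz F m)) (Cfsg.suzukiPointInfinity F)).map e.symm.toMonoidHom := by
    rw [← hs.normalizer_tSub]
    exact (Subgroup.map_equiv_normalizer_eq hs.tSub e.symm).symm
  have hmem : ∀ g : G, g ∈ Subgroup.normalizer (T : Set G) ↔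
      e g • Cfsg.suzukiPointInfinity F = Cfsg.suzukiPointInfinity F := by
    intro g
    rw [hN, Subgroup.mem_map_equiv, MulEquiv.symm_symm, MulAction.mem_stabilizer_iff]
  have heq : ∀ g h : G, (QuotientGroup.mk g : G ⧸ Subgroup.normalizer (T : Set G)) = QuotientGroup.mk h ↔
      e g • Cfsg.suzukiPointInfinity F = e h • Cfsg.suzukiPointInfinity F := by
    intro g h
    rw [QuotientGroup.eq, hmem, map_mul, map_inv, mul_smul, inv_smul_eq_iff, eq_comm]
  have hov : ∀ g : G, e g • Cfsg.suzukiPointInfinity F ∈ Cfsg.suzukiOvoid F m := fun g =>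
    smul_mem (e g).2 (mem_ovoid.mpr (Or.inl rfl))
  have hc1 : Nat.card ↥(Subgroup.normalizer (T : Set G)) = (2 ^ (2 * m + 1)) ^ 2 * (2 ^ (2 * m + 1) - 1) := by
    rw [hN, Subgroup.card_map_of_injective (f := e.symm.toMonoidHom) e.symm.injective, hs.card_stabilizer_infty]
  refine ⟨hc1, ?_, ?_, ?_⟩
  · rw [hN, Subgroup.index_map_of_bijective (f := e.symm.toMonoidHom) e.symm.bijective,
      MulAction.index_stabilizer, hs.orbit_infty, ← Nat.card_coe_set_eq, card_ovoid, hs.card_eq]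
  · rw [MulAction.is_two_pretransitive_iff]
    intro a b c d hab hcd
    obtain ⟨a, rfl⟩ := QuotientGroup.mk_surjective a
    obtain ⟨b, rfl⟩ := QuotientGroup.mk_surjective b
    obtain ⟨c, rfl⟩ := QuotientGroup.mk_surjective c
    obtain ⟨d, rfl⟩ := QuotientGroup.mk_surjective d
    rw [Ne, heq] at hab hcd
    obtain ⟨k₁, ka, kb⟩ := hs.exists_move (hov a) (hov b) hab
    obtain ⟨k₂, kc, kd⟩ := hs.exists_move (hov c) (hov d) hcd
    refine ⟨e.symm (k₂⁻¹ * k₁), ?_, ?_⟩ <;>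
      rw [MulAction.Quotient.smul_mk, smul_eq_mul, heq, map_mul, e.apply_symm_apply, mul_smul, mul_smul,
        inv_smul_eq_iff]
    · rw [ka, kc]
    · rw [kb, kd]
  · intro x y hx hy
    obtain ⟨x, rfl⟩ := QuotientGroup.mk_surjective x
    obtain ⟨y, rfl⟩ := QuotientGroup.mk_surjective y
    rw [Ne, heq, map_one, one_smul] at hx hy
    obtain ⟨x₁, x₂, ex⟩ := (mem_ovoid.mp (hov x)).resolve_left hx
    obtain ⟨y₁, y₂, ey⟩ := (mem_ovoid.mp (hov y)).resolve_left hy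
    have key : ∀ a b : F, hs.tS a b • ptSz m x₁ x₂ = ptSz m (x₁ + a) (x₂ + sg m a * x₁ + b) := fun a b => by
      rw [Subgroup.smul_def]
      exact hs.tG_point a b x₁ x₂
    have hsm : ∀ s : ↥T, ∃ a b, (s : G) = e.symm (hs.tS a b) := by
      rintro ⟨_, _, ⟨a, b, rfl⟩, rfl⟩
      exact ⟨a, b, rfl⟩
    refine ⟨⟨e.symm (hs.tS (y₁ - x₁) (y₂ - x₂ - sg m (y₁ - x₁) * x₁)), _, hs.tS_mem _ _, rfl⟩, ?_, ?_⟩
    · show e.symm _ • (QuotientGroup.mk x : G ⧸ Subgroup.normalizer (T : Set G)) = _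
      rw [MulAction.Quotient.smul_mk, smul_eq_mul, heq, map_mul, e.apply_symm_apply, mul_smul, ex, ey, key]
      congr 1 <;> ring
    · intro s h
      obtain ⟨a, b, hsab⟩ := hsm s
      refine Subtype.ext ?_
      rw [hsab] at h ⊢
      rw [MulAction.Quotient.smul_mk, smul_eq_mul, heq, map_mul, e.apply_symm_apply, mul_smul, ex, ey, key] at h
      obtain ⟨h1, h2⟩ := ptSz_inj h
      show e.symm (hs.tS a b) = e.symm _
      rw [show a = y₁ - x₁ by linear_combination h1] at h2 ⊢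
      rw [show b = y₂ - x₂ - sg m (y₁ - x₁) * x₁ by linear_combination h2]

end SzHyp

end Cfsg.Agent.Suzuki
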