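import Cfsg.Agent.Lib.Suzuki.Sylow
import Cfsg.Prelude.Def_Transfer
import Mathlib.GroupTheory.SpecificGroups.Cyclic

/-! Trivial intersection elementary abelian 2-subgroups correspond to subfields. -/

set_option autoImplicit false

open Matrix
open scoped Pointwise

namespace Cfsg.Agent.Suzuki

variable {F : Type*} [Field F] [Fintype F] {m : ℕ}

namespace SzHyp

variable (hs : SzHyp F m)

include hs

theorem card_units : Nat.card Fˣ = 2 ^ (2 * m + 1) - 1 := by rw [Nat.card_units, hs.card_eq]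

theorem conj_dS_zero (s : Fˣ) (b : F) :
    hs.dS s * hs.tS 0 b * (hs.dS s)⁻¹ = hs.tS 0 (sg m (s : F) ^ 2 * (s : F) ^ 2 * b) := by
  rw [hs.dS_conj_tS, mul_inv_cancel_right, mul_zero]

theorem exists_dS_zero (μ : Fˣ) :
    ∃ s : Fˣ, ∀ b, hs.dS s * hs.tS 0 b * (hs.dS s)⁻¹ = hs.tS 0 ((μ : F) * b) := by
  obtain ⟨a, ha⟩ := hs.exists_sgmul (μ : F)
  obtain ⟨r, hr⟩ := hs.exists_sq a
  have ha0 : a ≠ 0 := fun e => μ.ne_zero (by rw [← ha, e, mul_zero])
  have hr0 : r ≠ 0 := fun e => ha0 (by rw [← hr, e]; simp)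
  refine ⟨Units.mk0 r hr0, fun b => ?_⟩
  rw [hs.conj_dS_zero, Units.val_mk0, show sg m r ^ 2 = sg m (r ^ 2) by rw [sq, sq, sg_mul], hr, ha]

theorem stab_of_conj_zero {x : ↥(Cfsg.Sz F m)} {b : F} (hb : b ≠ 0) (h : x * hs.tS 0 b * x⁻¹ ∈ hs.tSub) :
    ∃ μ : F, μ ≠ 0 ∧ ∀ b', x * hs.tS 0 b' * x⁻¹ = hs.tS 0 (μ * b') := by
  have hst := hs.stab_of_conj (hs.tS_mem 0 b) (fun e => hb (hs.tS_eq_one.mp e).2) h
  obtain ⟨c, d, s, rfl⟩ := hs.decompB hst
  refine ⟨sg m (s : F) ^ 2 * (s : F) ^ 2,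
    mul_ne_zero (pow_ne_zero 2 (sg_ne_zero s.ne_zero)) (pow_ne_zero 2 s.ne_zero), fun b' => ?_⟩
  rw [hs.conj_eq]
  simp [sg_zero]

theorem ti_of_dvd {n : ℕ} (hdvd : n ∣ 2 * m + 1) :
    ∃ E : Subgroup ↥(Cfsg.Sz F m), Cfsg.IsElementaryAbelian 2 E ∧ Nat.card ↥E = 2 ^ n ∧
      ∀ x : ↥(Cfsg.Sz F m), E ⊓ E.map (MulAut.conj x).toMonoidHom ≠ ⊥ →
        x ∈ Subgroup.normalizer (E : Set ↥(Cfsg.Sz F m)) := by
  classical
  let K : Set F := {b | b ^ (2 ^ n) = b}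
  let E : Subgroup ↥(Cfsg.Sz F m) :=
    { carrier := {g | ∃ b ∈ K, g = hs.tS 0 b}
      one_mem' := ⟨0, zero_pow (by positivity), hs.tS_zero.symm⟩
      mul_mem' := by
        rintro _ _ ⟨a, ha, rfl⟩ ⟨b, hb, rfl⟩
        refine ⟨a + b, ?_, ?_⟩
        · show (a + b) ^ (2 ^ n) = a + b
          rw [hs.pow_two_pow_add, show a ^ (2 ^ n) = a from ha, show b ^ (2 ^ n) = b from hb]
        · rw [hs.tS_mul]
          congr 1
          · rw [add_zero]
          · rw [sg_zero, zero_mul, add_zero]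
      inv_mem' := by
        rintro _ ⟨a, ha, rfl⟩
        exact ⟨a, ha, by rw [hs.tS_inv]; simp [sg_zero]⟩ }
  have hE : ∀ g, g ∈ E ↔ ∃ b ∈ K, g = hs.tS 0 b := fun g => Iff.rfl
  refine ⟨E, ⟨⟨⟨fun a b => ?_⟩⟩, fun a ha => ?_⟩, ?_, fun x hx => ?_⟩
  · obtain ⟨p, -, hp⟩ := (hE _).mp a.2
    obtain ⟨q, -, hq⟩ := (hE _).mp b.2
    refine Subtype.ext ?_
    simp only [Subgroup.coe_mul]
    rw [hp, hq, hs.tS_mul, hs.tS_mul]
    congr 1
    rw [sg_zero]
    ring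
  · obtain ⟨b, -, rfl⟩ := (hE _).mp ha
    rw [sq, hs.sq_tS, sg_zero, zero_mul, hs.tS_zero]
  · have hpos : 0 < n := Nat.pos_of_ne_zero fun e => by subst e; simp at hdvd
    have h2 : 1 ≤ 2 ^ n := Nat.one_le_two_pow
    have hker : Nat.card (powMonoidHom (2 ^ n - 1) : Fˣ →* Fˣ).ker = 2 ^ n - 1 := by
      rw [IsCyclic.card_powMonoidHom_ker, hs.card_units]
      exact Nat.gcd_eq_right (Nat.pow_sub_one_dvd_pow_sub_one 2 hdvd)
    let f : Option (powMonoidHom (2 ^ n - 1) : Fˣ →* Fˣ).ker → ↥E := fun o =>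
      o.elim ⟨hs.tS 0 0, (hE _).mpr ⟨0, zero_pow (by positivity), rfl⟩⟩ fun u =>
        ⟨hs.tS 0 ((u : Fˣ) : F), (hE _).mpr ⟨_, by
          show ((u : Fˣ) : F) ^ (2 ^ n) = ((u : Fˣ) : F)
          have hu : (u : Fˣ) ^ (2 ^ n - 1) = 1 := u.2
          have he : ((u : Fˣ) : F) ^ (2 ^ n) = ((u : Fˣ) : F) ^ (2 ^ n - 1 + 1) := by
            rw [Nat.sub_add_cancel h2]
          rw [he, pow_succ, ← Units.val_pow_eq_pow_val, hu, Units.val_one, one_mul], rfl⟩⟩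
    have hf : Function.Bijective f := by
      constructor
      · rintro (_ | u) (_ | v) h
        · rfl
        · exact absurd (hs.tS_inj (congrArg Subtype.val h)).2.symm (v : Fˣ).ne_zero
        · exact absurd (hs.tS_inj (congrArg Subtype.val h)).2 (u : Fˣ).ne_zero
        · exact congrArg some (Subtype.ext (Units.ext (hs.tS_inj (congrArg Subtype.val h)).2))
      · rintro ⟨g, hg⟩
        obtain ⟨b, hb, rfl⟩ := (hE g).mp hg
        by_cases hb0 : b = 0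
        · exact ⟨none, Subtype.ext (by subst hb0; rfl)⟩
        · refine ⟨some ⟨Units.mk0 b hb0, ?_⟩, rfl⟩
          show Units.mk0 b hb0 ^ (2 ^ n - 1) = 1
          refine Units.ext ?_
          rw [Units.val_pow_eq_pow_val, Units.val_mk0, Units.val_one]
          refine mul_right_cancel₀ hb0 ?_
          rw [← pow_succ, one_mul, show 2 ^ n - 1 + 1 = 2 ^ n by omega]
          exact hb
    rw [← Nat.card_congr (Equiv.ofBijective f hf), Finite.card_option, hker]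
    omega
  · obtain ⟨⟨g, hg1, hg2⟩, hne⟩ := Subgroup.ne_bot_iff_exists_ne_one.mp hx
    obtain ⟨y, hy, hyx⟩ := hg2
    obtain ⟨b, hb, rfl⟩ := (hE y).mp hy
    simp only [MulEquiv.coe_toMonoidHom, MulAut.conj_apply] at hyx
    have hg : g ≠ 1 := fun e => hne (Subtype.ext e)
    have hb0 : b ≠ 0 := fun e => hg (by rw [← hyx, e, hs.tS_zero, mul_one, mul_inv_cancel])
    obtain ⟨c, hc, rfl⟩ := (hE g).mp hg1
    obtain ⟨μ, μ0, hμ⟩ := hs.stab_of_conj_zero hb0 (by rw [hyx]; exact hs.tS_mem 0 c)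
    rw [hμ] at hyx
    have hμK : μ ^ (2 ^ n) = μ := by
      have e := (hs.tS_inj hyx).2
      rw [show μ = c / b by rw [← e, mul_div_cancel_right₀ _ hb0], div_pow,
        show c ^ (2 ^ n) = c from hc, show b ^ (2 ^ n) = b from hb]
    refine Subgroup.mem_normalizer_iff.mpr fun z => ⟨fun hz => ?_, fun hz => ?_⟩
    · obtain ⟨b', hb', rfl⟩ := (hE z).mp hz
      rw [hμ]
      exact (hE _).mpr ⟨_, by show (μ * b') ^ (2 ^ n) = μ * b'; rw [mul_pow, hμK, show b' ^ (2 ^ n) = b' from hb'], rfl⟩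
    · obtain ⟨b', hb', e⟩ := (hE _).mp hz
      refine (hE _).mpr ⟨b' / μ, ?_, ?_⟩
      · show (b' / μ) ^ (2 ^ n) = b' / μ
        rw [div_pow, hμK, show b' ^ (2 ^ n) = b' from hb']
      · have := hμ (b' / μ)
        rw [mul_div_cancel₀ _ μ0, ← e] at this
        exact (mul_left_cancel (mul_right_cancel this)).symm

theorem dvd_of_ti {n : ℕ} (hn : 2 ≤ n) (E : Subgroup ↥(Cfsg.Sz F m)) (hE : Cfsg.IsElementaryAbelian 2 E)
    (hcard : Nat.card ↥E = 2 ^ n)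
    (hti : ∀ x : ↥(Cfsg.Sz F m), E ⊓ E.map (MulAut.conj x).toMonoidHom ≠ ⊥ →
      x ∈ Subgroup.normalizer (E : Set ↥(Cfsg.Sz F m))) : n ∣ 2 * m + 1 := by
  classical
  haveI := Fact.mk Nat.prime_two
  obtain ⟨P, hP⟩ := (IsPGroup.of_card hcard).exists_le_sylow
  obtain ⟨k, hk⟩ := hs.exists_conj P
  have hback : ∀ e ∈ E, ∃ b, e = k * hs.tS 0 b * k⁻¹ := by
    intro e he
    obtain ⟨_, ⟨a, b, rfl⟩, rfl⟩ := (hk.symm ▸ hP he : e ∈ hs.tSub.map (MulAut.conj k).toMonoidHom)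
    refine ⟨b, ?_⟩
    simp only [MulEquiv.coe_toMonoidHom, MulAut.conj_apply] at he ⊢
    have h2 := hE.2 _ he
    rw [conj_pow, mul_inv_eq_one, mul_eq_left, sq, hs.sq_tS, hs.tS_eq_one] at h2
    rw [show a = 0 from (mul_eq_zero.mp h2.2).elim sg_eq_zero.mp id]
  let V : Set F := {b | k * hs.tS 0 b * k⁻¹ ∈ E}
  obtain ⟨e₀, he₀, he₀1⟩ : ∃ e ∈ E, e ≠ 1 := by
    have : E ≠ ⊥ := fun h => by
      rw [h, Subgroup.card_bot] at hcard
      exact absurd hcard (Nat.one_lt_two_pow (by omega)).ne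
    obtain ⟨⟨e, he⟩, hne⟩ := Subgroup.ne_bot_iff_exists_ne_one.mp this
    exact ⟨e, he, fun h => hne (Subtype.ext h)⟩
  obtain ⟨v, rfl⟩ := hback e₀ he₀
  have hv : v ≠ 0 := fun e => he₀1 (by rw [e, hs.tS_zero, mul_one, mul_inv_cancel])
  have key : ∀ μ : Fˣ, (μ : F) * v ∈ V → ∀ b ∈ V, (μ : F) * b ∈ V := by
    intro μ hμ b hb
    obtain ⟨s, hsμ⟩ := hs.exists_dS_zero μ
    have hx : ∀ c, (k * hs.dS s * k⁻¹) * (k * hs.tS 0 c * k⁻¹) * (k * hs.dS s * k⁻¹)⁻¹ =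
        k * hs.tS 0 ((μ : F) * c) * k⁻¹ := fun c => by
      rw [← hsμ c]; group
    have hN := hti (k * hs.dS s * k⁻¹) fun hbot => by
      have hmem : k * hs.tS 0 ((μ : F) * v) * k⁻¹ ∈ E ⊓ E.map (MulAut.conj (k * hs.dS s * k⁻¹)).toMonoidHom :=
        ⟨hμ, ⟨_, he₀, by simp only [MulEquiv.coe_toMonoidHom, MulAut.conj_apply]; exact hx v⟩⟩
      rw [hbot, Subgroup.mem_bot, mul_inv_eq_one, mul_eq_left, hs.tS_eq_one] at hmem
      exact mul_ne_zero μ.ne_zero hv hmem.2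
    show k * hs.tS 0 ((μ : F) * b) * k⁻¹ ∈ E
    rw [← hx b]
    exact (Subgroup.mem_normalizer_iff.mp hN _).mp hb
  let S : Subgroup Fˣ :=
    { carrier := {μ | (μ : F) * v ∈ V}
      one_mem' := by show k * hs.tS 0 (((1 : Fˣ) : F) * v) * k⁻¹ ∈ E; rwa [Units.val_one, one_mul]
      mul_mem' := fun {μ ν} hμ hν => by
        have := key μ hμ _ hν
        show ((μ * ν : Fˣ) : F) * v ∈ V
        rwa [Units.val_mul, mul_assoc]
      inv_mem' := fun {μ} hμ => by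
        have hpow : ∀ j : ℕ, ((μ ^ j : Fˣ) : F) * v ∈ V := by
          intro j
          induction j with
          | zero => show k * hs.tS 0 (((μ ^ 0 : Fˣ) : F) * v) * k⁻¹ ∈ E; rwa [pow_zero, Units.val_one, one_mul]
          | succ j ih => rw [pow_succ', Units.val_mul, mul_assoc]; exact key μ hμ _ ih
        have he : μ⁻¹ = μ ^ (orderOf μ - 1) := by
          refine inv_eq_of_mul_eq_one_right ?_
          rw [← pow_succ', Nat.sub_add_cancel (orderOf_pos μ), pow_orderOf_eq_one]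
        show ((μ⁻¹ : Fˣ) : F) * v ∈ V
        rw [he]
        exact hpow _ }
  let f : Option S → ↥E := fun o => o.elim 1 fun μ => ⟨k * hs.tS 0 (((μ : Fˣ) : F) * v) * k⁻¹, μ.2⟩
  have hf : Function.Bijective f := by
    constructor
    · rintro (_ | μ) (_ | ν) h
      · rfl
      · exfalso
        have h' := (congrArg Subtype.val h).symm
        simp only [f, Option.elim, OneMemClass.coe_one, mul_inv_eq_one, mul_eq_left, hs.tS_eq_one] at h'
        exact mul_ne_zero (ν : Fˣ).ne_zero hv h'.2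
      · exfalso
        have h' := congrArg Subtype.val h
        simp only [f, Option.elim, OneMemClass.coe_one, mul_inv_eq_one, mul_eq_left, hs.tS_eq_one] at h'
        exact mul_ne_zero (μ : Fˣ).ne_zero hv h'.2
      · have h' := congrArg Subtype.val h
        simp only [f, Option.elim, mul_left_inj, mul_right_inj] at h'
        exact congrArg some (Subtype.ext (Units.ext (mul_right_cancel₀ hv (hs.tS_inj h').2)))
    · rintro ⟨e, he⟩
      obtain ⟨b, rfl⟩ := hback e he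
      by_cases hb : b = 0
      · exact ⟨none, Subtype.ext (by subst hb; simp [f, hs.tS_zero])⟩
      · refine ⟨some ⟨Units.mk0 (b / v) (div_ne_zero hb hv), ?_⟩, Subtype.ext ?_⟩
        · show k * hs.tS 0 (b / v * v) * k⁻¹ ∈ E
          rwa [div_mul_cancel₀ _ hv]
        · show k * hs.tS 0 (b / v * v) * k⁻¹ = _
          rw [div_mul_cancel₀ _ hv]
  have h := Nat.card_congr (Equiv.ofBijective f hf)
  rw [Finite.card_option, hcard] at h
  have h1 : 2 ^ n - 1 ∣ 2 ^ (2 * m + 1) - 1 := by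
    rw [← hs.card_units, show 2 ^ n - 1 = Nat.card S by omega]
    exact Subgroup.card_subgroup_dvd_card S
  have h2 := Nat.pow_sub_one_gcd_pow_sub_one 2 n (2 * m + 1)
  rw [Nat.gcd_eq_left h1] at h2
  have h3 : 2 ^ n = 2 ^ Nat.gcd n (2 * m + 1) := by
    have := Nat.one_le_two_pow (n := n)
    have := Nat.one_le_two_pow (n := Nat.gcd n (2 * m + 1))
    omega
  exact Nat.gcd_eq_left_iff_dvd.mp (Nat.pow_right_injective le_rfl h3).symm

theorem ti_iff (n : ℕ) (hn : 2 ≤ n) :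
    (∃ E : Subgroup ↥(Cfsg.Sz F m), Cfsg.IsElementaryAbelian 2 E ∧ Nat.card ↥E = 2 ^ n ∧
      ∀ x : ↥(Cfsg.Sz F m), E ⊓ E.map (MulAut.conj x).toMonoidHom ≠ ⊥ →
        x ∈ Subgroup.normalizer (E : Set ↥(Cfsg.Sz F m))) ↔ n ∣ 2 * m + 1 :=
  ⟨fun ⟨E, h1, h2, h3⟩ => hs.dvd_of_ti hn E h1 h2 h3, hs.ti_of_dvd⟩

end SzHyp

end Cfsg.Agent.Suzuki
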