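import Cfsg.Agent.Lib.Suzuki.LieSz
import Cfsg.Agent.Lib.Suzuki.TI
import Cfsg.Prelude.Def_KGroupFacts
import Mathlib.FieldTheory.Finite.GaloisField
import Mathlib.FieldTheory.Galois.Basic

/-! The automorphism group: inner and field automorphisms. -/

set_option autoImplicit false

open Matrix

namespace Cfsg.Agent.Suzuki

variable {F : Type*} [Field F] [Fintype F] {m : ℕ}

omit [Fintype F] in
theorem map_entry (f : F →+* F) (g : Matrix.SpecialLinearGroup (Fin 4) F) (i j : Fin 4) :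
    ((Matrix.SpecialLinearGroup.map (n := Fin 4) f g : Matrix.SpecialLinearGroup (Fin 4) F) :
      Matrix (Fin 4) (Fin 4) F) i j = f ((g : Matrix (Fin 4) (Fin 4) F) i j) := rfl

namespace SzHyp

variable (hs : SzHyp F m)

include hs

/-- Applying a field automorphism to the entries, on the group. -/
theorem fieldMap_mem (φ : F ≃+* F) (g : ↥(Cfsg.Sz F m)) :
    Matrix.SpecialLinearGroup.map (n := Fin 4) (φ : F →+* F) (g : Matrix.SpecialLinearGroup (Fin 4) F) ∈ Cfsg.Sz F m := by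
  have hσ : ∀ x : F, φ (sg m x) = sg m (φ x) := fun x => map_pow φ x _
  have ht : ∀ a b : F, Matrix.SpecialLinearGroup.map (n := Fin 4) (φ : F →+* F) (tG m a b) = tG m (φ a) (φ b) := by
    intro a b
    ext i j; rw [map_entry]; fin_cases i <;> fin_cases j <;> simp [tG, tMat, fSz, hσ]
  have hd : ∀ s : Fˣ, Matrix.SpecialLinearGroup.map (n := Fin 4) (φ : F →+* F) (dG m s) =
      dG m (Units.map (φ : F →* F) s) := by
    intro s
    ext i j; rw [map_entry]; fin_cases i <;> fin_cases j <;> simp [dG, dMat, hσ]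
  have hw : Matrix.SpecialLinearGroup.map (n := Fin 4) (φ : F →+* F) (wG F) = wG F := by
    ext i j; rw [map_entry]; fin_cases i <;> fin_cases j <;> simp [wG, wMat]
  rcases hs.exists_decomp g.2 with ⟨a, b, s, e⟩ | ⟨a, b, c, d, s, e⟩
  · rw [e, map_mul, ht, hd]
    exact mul_mem (hs.tG_mem _ _) (hs.dG_mem _)
  · rw [e, map_mul, map_mul, map_mul, ht, hd, ht, hw]
    exact mul_mem (mul_mem (hs.tG_mem _ _) hs.wG_mem) (mul_mem (hs.tG_mem _ _) (hs.dG_mem _))

/-- The field automorphisms of the group. -/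
def fieldAut : (F ≃+* F) →* MulAut ↥(Cfsg.Sz F m) where
  toFun φ :=
    { toFun := fun g => ⟨_, hs.fieldMap_mem φ g⟩
      invFun := fun g => ⟨_, hs.fieldMap_mem φ.symm g⟩
      left_inv := fun g => by ext i j; simp
      right_inv := fun g => by ext i j; simp
      map_mul' := fun g h => Subtype.ext (map_mul _ _ _) }
  map_one' := by ext g i j; simp
  map_mul' φ ψ := by ext g i j; simp

theorem fieldAut_tS (φ : F ≃+* F) (a b : F) : hs.fieldAut φ (hs.tS a b) = hs.tS (φ a) (φ b) := by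
  have hσ : ∀ x : F, φ (sg m x) = sg m (φ x) := fun x => map_pow φ x _
  ext i j
  show φ ((tG m a b : Matrix.SpecialLinearGroup (Fin 4) F).1 i j) = (tG m (φ a) (φ b)).1 i j
  fin_cases i <;> fin_cases j <;> simp [tG, tMat, fSz, hσ]

theorem fieldAut_dS (φ : F ≃+* F) (s : Fˣ) : hs.fieldAut φ (hs.dS s) = hs.dS (Units.map (φ : F →* F) s) := by
  have hσ : ∀ x : F, φ (sg m x) = sg m (φ x) := fun x => map_pow φ x _
  ext i j
  show φ ((dG m s : Matrix.SpecialLinearGroup (Fin 4) F).1 i j) = (dG m (Units.map (φ : F →* F) s)).1 i j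
  fin_cases i <;> fin_cases j <;> simp [dG, dMat, hσ]

theorem fieldAut_wS (φ : F ≃+* F) : hs.fieldAut φ hs.wS = hs.wS := by
  ext i j
  show φ ((wG F : Matrix.SpecialLinearGroup (Fin 4) F).1 i j) = (wG F).1 i j
  fin_cases i <;> fin_cases j <;> simp [wG, wMat]

theorem fieldAut_inner (φ : F ≃+* F) (g : ↥(Cfsg.Sz F m)) (h : hs.fieldAut φ = MulAut.conj g) : φ = 1 := by
  have ht : ∀ b, hs.fieldAut φ (hs.tS 0 b) = g * hs.tS 0 b * g⁻¹ := fun b => by rw [h]; rfl
  obtain ⟨μ, -, hμ⟩ := hs.stab_of_conj_zero one_ne_zero (x := g) (by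
    rw [← ht, hs.fieldAut_tS]; exact hs.tS_mem _ _)
  have e : ∀ b, φ b = μ * b := fun b => by
    have := ht b
    rw [hμ, hs.fieldAut_tS] at this
    exact (hs.tS_inj this).2
  have h1 : μ = 1 := by have := e 1; rw [map_one, mul_one] at this; exact this.symm
  refine RingEquiv.ext fun b => ?_
  rw [e, h1, one_mul]
  rfl

theorem centralizer_dS {l : Fˣ} (hl : l ≠ 1) {p : Projectivization F (Fin 4 → F)}
    (hp : p ∈ Cfsg.suzukiOvoid F m) (h : hs.dS l • p = p) :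
    p = Cfsg.suzukiPointInfinity F ∨ p = ptSz m 0 0 := by
  rcases mem_ovoid.mp hp with rfl | ⟨x, y, rfl⟩
  · exact Or.inl rfl
  rw [Subgroup.smul_def, hs.dG_point] at h
  obtain ⟨h1, h2⟩ := ptSz_inj h
  right
  have hx : x = 0 := by
    by_contra hx
    exact hl (Units.ext (hs.sq_inj (by rw [(mul_eq_right₀ hx).mp h1]; simp)))
  have hy : y = 0 := by
    by_contra hy
    have h3 := (mul_eq_right₀ hy).mp h2
    refine hl (Units.ext (hs.eq_one_of_mul_sg l.ne_zero (hs.sq_inj ?_)))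
    rw [mul_pow, h3, one_pow]
  rw [hx, hy]

theorem exists_inverting {l : Fˣ} (hl : l ≠ 1) (hgen : ∀ s : Fˣ, s ∈ Subgroup.zpowers l)
    {v : ↥(Cfsg.Sz F m)} (hv : v * hs.dS l * v⁻¹ = (hs.dS l)⁻¹) : ∃ e : Fˣ, v = hs.dS e * hs.wS := by
  set x := v * hs.wS with hx
  have hcomm : x * hs.dS l = hs.dS l * x := by
    have h1 : hs.wS * hs.dS l = hs.dS l⁻¹ * hs.wS := by
      rw [← hs.wS_conj_dS l]; simp only [mul_assoc, hs.wS_sq, mul_one]
    have h2 : v * hs.dS l⁻¹ = hs.dS l * v := by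
      have h3 := congrArg (·⁻¹) hv
      simp only [_root_.mul_inv_rev, inv_inv, ← mul_assoc] at h3
      rw [← hs.dS_inv]
      conv_rhs => rw [← h3]
      rw [inv_mul_cancel_right]
    rw [hx, mul_assoc, h1, ← mul_assoc, h2, mul_assoc]
  have hfix : ∀ p : Projectivization F (Fin 4 → F), hs.dS l • p = p → hs.dS l • (x • p) = x • p := fun p hp => by
    rw [← mul_smul, ← hcomm, mul_smul, hp]
  have hinf : hs.dS l • Cfsg.suzukiPointInfinity F = Cfsg.suzukiPointInfinity F := dG_infty l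
  have hzero : hs.dS l • ptSz m (0 : F) 0 = ptSz m 0 0 := by
    rw [Subgroup.smul_def, hs.dG_point, mul_zero, mul_zero]
  have hmem : ∀ p ∈ Cfsg.suzukiOvoid F m, x • p ∈ Cfsg.suzukiOvoid F m := fun p hp => smul_mem x.2 hp
  have hne : (Cfsg.suzukiPointInfinity F) ≠ ptSz m (0 : F) 0 := (ptSz_ne_infty 0 0).symm
  rcases hs.centralizer_dS hl (hmem _ (mem_ovoid.mpr (Or.inl rfl))) (hfix _ hinf) with h1 | h1
  · have h2 : x • ptSz m (0 : F) 0 = ptSz m 0 0 := by
      rcases hs.centralizer_dS hl (hmem _ (mem_ovoid.mpr (Or.inr ⟨0, 0, rfl⟩))) (hfix _ hzero) with h2 | h2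
      · exact absurd (MulAction.injective x (h1.trans h2.symm)) hne
      · exact h2
    obtain ⟨s, e⟩ := hs.exists_dG x.2 h1 h2
    refine ⟨s, ?_⟩
    have : x = hs.dS s := Subtype.ext e
    rw [← this, hx, mul_assoc, hs.wS_sq, mul_one]
  · exfalso
    have hy1 : (hs.wS * x) • Cfsg.suzukiPointInfinity F = Cfsg.suzukiPointInfinity F := by
      rw [mul_smul, h1]; exact wG_zero
    have hy0 : (hs.wS * x) • ptSz m (0 : F) 0 = ptSz m 0 0 := by
      rcases hs.centralizer_dS hl (hmem _ (mem_ovoid.mpr (Or.inr ⟨0, 0, rfl⟩))) (hfix _ hzero) with h2 | h2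
      · rw [mul_smul, h2]; exact wG_infty
      · exact absurd (MulAction.injective x (h1.trans h2.symm)) hne
    obtain ⟨s, e⟩ := hs.exists_dG (hs.wS * x).2 hy1 hy0
    have e' : hs.wS * x = hs.dS s := Subtype.ext e
    have h3 : hs.dS (l⁻¹ * s) = hs.dS (l * s) := by
      rw [hs.dS_mul, ← e', ← hs.wS_conj_dS l, mul_comm l s, hs.dS_mul, ← e', mul_assoc (hs.wS * hs.dS l),
        ← mul_assoc hs.wS hs.wS, hs.wS_sq, one_mul, mul_assoc hs.wS x, hcomm, mul_assoc]
    have h4 : l⁻¹ = l := mul_right_cancel (hs.dG_injective (congrArg Subtype.val h3))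
    refine hl (Units.ext (hs.sq_inj ?_))
    rw [← Units.val_pow_eq_pow_val, sq]
    nth_rewrite 1 [← h4]
    rw [inv_mul_cancel]
    simp

theorem w_t_w {b : F} (hb : b ≠ 0) :
    (hs.wS * hs.tS 0 b * hs.wS) • Cfsg.suzukiPointInfinity F = ptSz m (b / sg m b) 0 := by
  rw [mul_smul, mul_smul, show hs.wS • Cfsg.suzukiPointInfinity F = ptSz m (0 : F) 0 from wG_infty,
    hs.smul_infty_iff, Subgroup.smul_def, hs.wG_point (by simp [fSz, sg_zero, sg_eq_zero, hb])]
  congr 1 <;> simp [fSz, sg_zero]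

theorem eq_id_of_fixed (α : MulAut ↥(Cfsg.Sz F m)) (hZ : ∀ b, α (hs.tS 0 b) = hs.tS 0 b)
    (hD : ∀ s, α (hs.dS s) = hs.dS s) (hT : ∀ a b, α (hs.tS a b) ∈ hs.tSub) : α = 1 := by
  classical
  obtain ⟨l, hgen⟩ := IsCyclic.exists_generator (α := Fˣ)
  have hl : l ≠ 1 := by
    rintro rfl
    obtain ⟨s, hs1⟩ := hs.exists_unit
    obtain ⟨n, rfl⟩ := Subgroup.mem_zpowers_iff.mp (hgen s)
    exact hs1 (one_zpow n)
  obtain ⟨e, he⟩ := hs.exists_inverting hl hgen (v := α hs.wS) (by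
    rw [← hD l, ← map_inv, ← map_mul, ← map_mul, hs.wS_inv, hs.wS_conj_dS, ← map_inv, hs.dS_inv])
  obtain ⟨μ, μ0, hμ⟩ : ∃ μ : F, μ ≠ 0 ∧ ∀ b, hs.dS e * (hs.wS * hs.tS 0 b * hs.wS) * (hs.dS e)⁻¹ =
      hs.wS * hs.tS 0 (μ * b) * hs.wS := by
    refine ⟨sg m ((e⁻¹ : Fˣ) : F) ^ 2 * ((e⁻¹ : Fˣ) : F) ^ 2,
      mul_ne_zero (pow_ne_zero 2 (sg_ne_zero (e⁻¹).ne_zero)) (pow_ne_zero 2 (e⁻¹).ne_zero), fun b => ?_⟩
    have h1 : hs.dS e * hs.wS = hs.wS * hs.dS e⁻¹ := by
      rw [← hs.wS_conj_dS e]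
      simp only [mul_assoc]
      rw [← mul_assoc hs.wS hs.wS, hs.wS_sq, one_mul]
    have h2 : hs.wS * (hs.dS e)⁻¹ = (hs.dS e⁻¹)⁻¹ * hs.wS := by
      rw [hs.dS_inv, hs.dS_inv, inv_inv, h1]
    calc hs.dS e * (hs.wS * hs.tS 0 b * hs.wS) * (hs.dS e)⁻¹
        = (hs.dS e * hs.wS) * hs.tS 0 b * (hs.wS * (hs.dS e)⁻¹) := by simp only [mul_assoc]
      _ = hs.wS * (hs.dS e⁻¹ * hs.tS 0 b * (hs.dS e⁻¹)⁻¹) * hs.wS := by rw [h1, h2]; simp only [mul_assoc]
      _ = _ := by rw [hs.conj_dS_zero]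
  have hαp : ∀ b, α (hs.wS * hs.tS 0 b * hs.wS) = hs.wS * hs.tS 0 (μ * b) * hs.wS := fun b => by
    have hinv : α hs.wS = (hs.dS e * hs.wS)⁻¹ := by
      conv_lhs => rw [← hs.wS_inv]
      rw [map_inv, he]
    rw [← hμ, map_mul, map_mul, hZ]
    conv_lhs => arg 2; rw [hinv, _root_.mul_inv_rev, hs.wS_inv]
    rw [he]
    simp only [mul_assoc]
  choose γ δ hγ using fun a => hs.mem_tSub.mp (hT a 0)
  have hγsq : ∀ a, γ a = a := by
    intro a
    have h := congrArg α (hs.sq_tS a 0)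
    rw [map_mul, hγ, hs.sq_tS, hZ] at h
    have h' := (hs.tS_inj h).2
    exact Finite.injective_iff_surjective.mpr hs.exists_sgmul h'
  -- compare the images of the point
  have hpt : ∀ b, b ≠ 0 → γ (b / sg m b) = μ * b / sg m (μ * b) ∧ δ (b / sg m b) = 0 := by
    intro b hb
    set p := hs.wS * hs.tS 0 b * hs.wS with hp
    set k := b / sg m b with hk
    have hin : hs.wS * (hs.tS k 0)⁻¹ * p ∈
        MulAction.stabilizer (↥(Cfsg.Sz F m)) (Cfsg.suzukiPointInfinity F) := by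
      rw [MulAction.mem_stabilizer_iff, mul_smul, mul_smul, hp, hs.w_t_w hb]
      rw [show (hs.tS k 0)⁻¹ • ptSz m k 0 = ptSz m (0 : F) 0 by rw [inv_smul_eq_iff, hs.smul_infty_iff]]
      exact wG_zero
    obtain ⟨a', b', s', hB⟩ := hs.decompB hin
    have hp' : p = hs.tS k 0 * hs.wS * (hs.tS a' b' * hs.dS s') := by
      rw [← hB]
      simp only [mul_assoc]
      rw [← mul_assoc hs.wS hs.wS, hs.wS_sq, one_mul, mul_inv_cancel_left]
    have hα := hαp b
    rw [show hs.wS * hs.tS 0 b * hs.wS = p from rfl, hp', map_mul, map_mul, map_mul, hγ, hD] at hα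
    have h := congrArg (fun g : ↥(Cfsg.Sz F m) => g • Cfsg.suzukiPointInfinity F) hα
    simp only [mul_smul] at h
    obtain ⟨c, d, hc⟩ := hs.mem_tSub.mp (hT a' b')
    rw [hc, show hs.dS s' • Cfsg.suzukiPointInfinity F = Cfsg.suzukiPointInfinity F from dG_infty s',
      show hs.tS c d • Cfsg.suzukiPointInfinity F = Cfsg.suzukiPointInfinity F from tG_infty c d] at h
    rw [he, mul_smul, show hs.wS • Cfsg.suzukiPointInfinity F = ptSz m (0 : F) 0 from wG_infty] at h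
    rw [show hs.dS e • ptSz m (0 : F) 0 = ptSz m 0 0 by rw [Subgroup.smul_def, hs.dG_point, mul_zero, mul_zero],
      hs.smul_infty_iff] at h
    rw [hs.smul_infty_iff, Subgroup.smul_def, hs.wG_point (by simp [fSz, sg_zero, sg_eq_zero, hb, μ0])] at h
    obtain ⟨h1, h2⟩ := ptSz_inj h
    refine ⟨h1.trans (by simp [fSz, sg_zero]), h2.trans (by simp)⟩
  have hμ1 : μ = 1 := by
    have h := (hpt 1 one_ne_zero).1
    rw [hγsq, sg_one, div_one, mul_one] at h
    exact (hs.eq_zero_or_one_of_sg ((div_eq_one_iff_eq (sg_ne_zero μ0)).mp h.symm).symm).resolve_left μ0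
  have hδ : ∀ a, δ a = 0 := by
    intro a
    by_cases ha : a = 0
    · have h := hγ 0
      rw [hZ 0] at h
      rw [ha]
      exact (hs.tS_inj h).2.symm
    · obtain ⟨b, hb⟩ : ∃ b, b / sg m b = a := by
        refine Finite.surjective_of_injective (f := fun b : F => b / sg m b) (fun x y h => ?_) a
        simp only at h
        by_cases hy : y = 0
        · subst hy
          rw [zero_div, div_eq_zero_iff] at h
          exact h.elim id sg_eq_zero.mp
        have hx : x ≠ 0 := fun e => by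
          subst e
          rw [zero_div] at h
          exact div_ne_zero hy (sg_ne_zero hy) h.symm
        have h3 : sg m (x / y) = x / y := by
          rw [div_eq_mul_inv x y, sg_mul, sg_inv]
          have := sg_ne_zero (m := m) hx
          have := sg_ne_zero (m := m) hy
          field_simp at h ⊢
          linear_combination -h
        exact (div_eq_one_iff_eq hy).mp
          ((hs.eq_zero_or_one_of_sg h3).resolve_left (div_ne_zero hx hy))
      have hb0 : b ≠ 0 := fun e => ha (by rw [← hb, e, zero_div])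
      rw [← hb]
      exact (hpt b hb0).2
  have hw : α hs.wS = hs.wS := by
    have h := hμ 1
    rw [hμ1, one_mul, mul_inv_eq_iff_eq_mul] at h
    have he1 : e = 1 := by
      by_contra hne
      have h1 : hs.dS e • ((hs.wS * hs.tS 0 1 * hs.wS) • Cfsg.suzukiPointInfinity F) =
          (hs.wS * hs.tS 0 1 * hs.wS) • Cfsg.suzukiPointInfinity F := by
        rw [← mul_smul, h, mul_smul, show hs.dS e • Cfsg.suzukiPointInfinity F = Cfsg.suzukiPointInfinity F from
          dG_infty e]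
      rw [hs.w_t_w one_ne_zero] at h1
      rcases hs.centralizer_dS hne (mem_ovoid.mpr (Or.inr ⟨_, _, rfl⟩)) h1 with h2 | h2
      · exact ptSz_ne_infty _ _ h2
      · have := (ptSz_inj h2).1
        rw [sg_one, div_one] at this
        exact one_ne_zero this
    rw [he, he1, show hs.dS 1 = 1 from map_one hs.dHom, one_mul]
  refine MulEquiv.ext fun g => ?_
  have hH : MonoidHom.eqLocus α.toMonoidHom (MonoidHom.id _) = ⊤ := by
    refine hs.gen_top _ (fun a b => ?_) hD hw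
    show α (hs.tS a b) = hs.tS a b
    have e1 : hs.tS a b = hs.tS a 0 * hs.tS 0 b := by
      rw [hs.tS_mul, add_zero, mul_zero, add_zero, zero_add]
    rw [e1, map_mul, hγ, hZ, hγsq, hδ]
  have hg : g ∈ MonoidHom.eqLocus α.toMonoidHom (MonoidHom.id _) := hH ▸ Subgroup.mem_top g
  exact hg

theorem exists_field_inner (α : MulAut ↥(Cfsg.Sz F m)) :
    ∃ (φ : F ≃+* F) (g : ↥(Cfsg.Sz F m)), α = MulAut.conj g * hs.fieldAut φ := by
  classical
  haveI := Fact.mk Nat.prime_two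
  have hsur : Function.Surjective α.toMonoidHom := α.surjective
  -- fix the unipotent subgroup
  obtain ⟨g₁, hg₁⟩ := hs.exists_conj (hs.tSylow.mapSurjective hsur)
  rw [Sylow.coe_mapSurjective, hs.coe_tSylow] at hg₁
  set α₁ := (MulAut.conj g₁)⁻¹ * α with hα₁
  have hT : ∀ t ∈ hs.tSub, α₁ t ∈ hs.tSub := by
    intro t ht
    obtain ⟨u, hu, e⟩ : α.toMonoidHom t ∈ hs.tSub.map (MulAut.conj g₁).toMonoidHom :=
      hg₁ ▸ ⟨t, ht, rfl⟩
    show (MulAut.conj g₁)⁻¹ (α t) ∈ hs.tSub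
    rw [show α t = MulAut.conj g₁ u from e.symm, MulAut.inv_apply, MulEquiv.symm_apply_apply]
    exact hu
  -- fix the torus
  obtain ⟨l, hgen⟩ := IsCyclic.exists_generator (α := Fˣ)
  have hl : l ≠ 1 := by
    rintro rfl
    obtain ⟨s, hs1⟩ := hs.exists_unit
    obtain ⟨n, rfl⟩ := Subgroup.mem_zpowers_iff.mp (hgen s)
    exact hs1 (one_zpow n)
  obtain ⟨a, b, s, hx⟩ := hs.decompB (g := α₁ (hs.dS l)) (by
    have hmem : ∀ t ∈ hs.tSub, hs.dS l * t * (hs.dS l)⁻¹ ∈ hs.tSub := by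
      rintro _ ⟨a, b, rfl⟩
      rw [hs.dS_conj_tS, mul_inv_cancel_right]
      exact hs.tS_mem _ _
    refine hs.stab_of_conj (t := α₁ (hs.tS 0 1)) (hT _ (hs.tS_mem 0 1)) ?_ ?_
    · rw [Ne, MulEquiv.map_eq_one_iff, hs.tS_eq_one]
      exact fun h => one_ne_zero h.2
    · rw [← map_mul, ← map_inv, ← map_mul]
      exact hT _ (hmem _ (hs.tS_mem 0 1)))
  have hs1 : s ≠ 1 := by
    intro e
    rw [e, show hs.dS 1 = 1 from map_one hs.dHom, mul_one] at hx
    have h4 : hs.dS l ^ 4 = 1 := α₁.injective (by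
      rw [map_pow, hx, map_one]
      show hs.tS a b ^ (2 * 2) = 1
      rw [pow_mul, sq (hs.tS a b), hs.sq_tS, sq, hs.sq_tS, sg_zero, zero_mul, hs.tS_zero])
    have h5 : l ^ 4 = 1 := hs.dG_injective (by
      have := congrArg Subtype.val ((map_pow hs.dHom l 4).trans (h4.trans (map_one hs.dHom).symm))
      exact this)
    refine hl (Units.ext (hs.sq_inj (hs.sq_inj ?_)))
    rw [← pow_mul, ← Units.val_pow_eq_pow_val, h5]
    simp
  obtain ⟨c, d, hcd⟩ : ∃ c d, hs.tS c d * α₁ (hs.dS l) * (hs.tS c d)⁻¹ = hs.dS s := by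
    have hne : (1 : F) + (s : F) ^ 2 ≠ 0 := by
      rw [Ne, hs.add_eq_zero_iff]
      exact fun e => hs1 (Units.ext (hs.sq_inj (by rw [← e]; simp)))
    have hne2 : (1 : F) + sg m (s : F) ^ 2 * (s : F) ^ 2 ≠ 0 := by
      rw [Ne, hs.add_eq_zero_iff]
      intro e
      refine hs1 (Units.ext (hs.eq_one_of_mul_sg s.ne_zero (hs.sq_inj ?_)))
      rw [mul_pow, ← e, one_pow]
    set c := a / (1 + (s : F) ^ 2) with hc
    refine ⟨c, (b + sg m c * a) / (1 + sg m (s : F) ^ 2 * (s : F) ^ 2), ?_⟩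
    rw [mul_inv_eq_iff_eq_mul, hx, hs.dS_conj_tS, ← mul_assoc, hs.tS_mul]
    congr 1
    congr 1
    · rw [hc]
      field_simp
      linear_combination a * hs.two_eq_zero
    · field_simp
      linear_combination (b + sg m c * a) * hs.two_eq_zero
  set α₂ := MulAut.conj (hs.tS c d) * α₁ with hα₂
  have hD2 : α₂ (hs.dS l) = hs.dS s := hcd
  have hT2 : ∀ t ∈ hs.tSub, α₂ t ∈ hs.tSub := fun t ht => by
    show hs.tS c d * α₁ t * (hs.tS c d)⁻¹ ∈ hs.tSub
    exact mul_mem (mul_mem (hs.tS_mem c d) (hT t ht)) (inv_mem (hs.tS_mem c d))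
  have hDall : ∀ t : Fˣ, ∃ u : Fˣ, α₂ (hs.dS t) = hs.dS u := fun t => by
    obtain ⟨n, rfl⟩ := Subgroup.mem_zpowers_iff.mp (hgen t)
    refine ⟨s ^ n, ?_⟩
    show α₂ (hs.dHom (l ^ n)) = hs.dHom (s ^ n)
    rw [map_zpow, map_zpow, map_zpow, show α₂ (hs.dHom l) = hs.dHom s from hD2]
  choose π hπ using hDall
  -- the action on the centre
  have hZ : ∀ b, ∃ b', α₂ (hs.tS 0 b) = hs.tS 0 b' := fun b => by
    obtain ⟨x, y, e⟩ := hs.mem_tSub.mp (hT2 _ (hs.tS_mem 0 b))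
    have h := congrArg α₂ (hs.sq_tS 0 b)
    rw [map_mul, e, hs.sq_tS, sg_zero, zero_mul, hs.tS_zero, map_one, hs.tS_eq_one] at h
    have hx : x = 0 := (mul_eq_zero.mp h.2).elim sg_eq_zero.mp id
    exact ⟨y, by rw [e, hx]⟩
  choose β hβ using hZ
  obtain ⟨u, hu⟩ := hs.exists_dS_zero (Units.mk0 (β 1) (fun e => by
    have := hβ 1
    rw [e, hs.tS_zero, MulEquiv.map_eq_one_iff, hs.tS_eq_one] at this
    exact one_ne_zero this.2))⁻¹
  set α₃ := MulAut.conj (hs.dS u) * α₂ with hα₃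
  have hZ3 : ∀ b, α₃ (hs.tS 0 b) = hs.tS 0 ((β 1)⁻¹ * β b) := fun b => by
    show hs.dS u * α₂ (hs.tS 0 b) * (hs.dS u)⁻¹ = _
    rw [hβ, hu]
    simp
  have hD3 : ∀ t, α₃ (hs.dS t) = hs.dS (π t) := fun t => by
    show hs.dS u * α₂ (hs.dS t) * (hs.dS u)⁻¹ = _
    rw [hπ, hs.dS_inv, ← hs.dS_mul, ← hs.dS_mul, mul_comm u, mul_assoc, mul_inv_cancel, mul_one]
  set f : F → F := fun b => (β 1)⁻¹ * β b with hf
  have hf1 : f 1 = 1 := inv_mul_cancel₀ (fun e => by
    have := hβ 1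
    rw [e, hs.tS_zero, MulEquiv.map_eq_one_iff, hs.tS_eq_one] at this
    exact one_ne_zero this.2)
  have hadd : ∀ x y, f (x + y) = f x + f y := fun x y => by
    have h1 : hs.tS 0 (x + y) = hs.tS 0 x * hs.tS 0 y := by
      rw [hs.tS_mul, add_zero, mul_zero, add_zero]
    have h2 := hZ3 (x + y)
    rw [h1, map_mul, hZ3, hZ3, hs.tS_mul, sg_zero, zero_mul, add_zero] at h2
    have h3 := (hs.tS_inj h2).2
    simpa [f] using h3.symm
  have hinj : Function.Injective f := fun x y h => by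
    have : α₃ (hs.tS 0 x) = α₃ (hs.tS 0 y) := by rw [hZ3, hZ3]; exact congrArg _ h
    exact (hs.tS_inj (α₃.injective this)).2
  have hequiv : ∀ (t : Fˣ) (x : F), f (sg m (t : F) ^ 2 * (t : F) ^ 2 * x) =
      sg m (π t : F) ^ 2 * (π t : F) ^ 2 * f x := fun t x => by
    have h := congrArg α₃ (hs.conj_dS_zero t x)
    rw [map_mul, map_mul, map_inv, hD3, hZ3, hZ3, hs.conj_dS_zero] at h
    exact (hs.tS_inj h).2.symm
  have hmul : ∀ x y, f (x * y) = f x * f y := by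
    intro x y
    by_cases hx : x = 0
    · subst hx
      have : f 0 = 0 := by have := hadd 0 0; rw [add_zero] at this; exact left_eq_add.mp this
      rw [zero_mul, this, zero_mul]
    obtain ⟨a0, ha0⟩ := hs.exists_sgmul x
    obtain ⟨r, hr⟩ := hs.exists_sq a0
    have hr0 : r ≠ 0 := fun e => hx (by rw [← ha0, ← hr, e]; simp)
    have hμr : sg m r ^ 2 * r ^ 2 = x := by
      rw [show sg m r ^ 2 = sg m (r ^ 2) by rw [sq, sq, sg_mul], hr, ha0]
    have h1 := hequiv (Units.mk0 r hr0) 1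
    have h2 := hequiv (Units.mk0 r hr0) y
    rw [Units.val_mk0, hμr] at h1 h2
    rw [hf1, mul_one, mul_one] at h1
    rw [h2, h1]
  let φ : F ≃+* F :=
    { Equiv.ofBijective f ⟨hinj, Finite.surjective_of_injective hinj⟩ with
      map_mul' := hmul, map_add' := hadd }
  have hπφ : ∀ t, Units.map (φ : F →* F) t = π t := fun t => by
    have h := hequiv t 1
    rw [mul_one, hf1, mul_one] at h
    have hσ : φ (sg m (t : F)) = sg m (φ t) := map_pow φ (t : F) _
    have h2 : f (sg m (t : F) ^ 2 * (t : F) ^ 2) = (sg m (φ t) * φ t) ^ 2 := by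
      show φ (sg m (t : F) ^ 2 * (t : F) ^ 2) = _
      rw [map_mul, map_pow, map_pow, hσ, mul_pow]
    rw [h2, ← mul_pow] at h
    exact Units.ext (Finite.injective_iff_surjective.mpr hs.exists_sgmul (hs.sq_inj h))
  set α₄ := (hs.fieldAut φ)⁻¹ * α₃ with hα₄
  have hfa : ∀ x y, α₃ x = hs.fieldAut φ y → α₄ x = y := fun x y e => by
    show (hs.fieldAut φ)⁻¹ (α₃ x) = y
    rw [e, MulAut.inv_apply, MulEquiv.symm_apply_apply]
  have hid := hs.eq_id_of_fixed α₄ (fun b => hfa _ _ (by rw [hZ3, hs.fieldAut_tS, map_zero]; rfl))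
    (fun t => hfa _ _ (by rw [hD3, hs.fieldAut_dS, hπφ])) (fun a b => by
      obtain ⟨x, y, e⟩ : α₃ (hs.tS a b) ∈ hs.tSub := by
        show hs.dS u * α₂ (hs.tS a b) * (hs.dS u)⁻¹ ∈ hs.tSub
        obtain ⟨x, y, e⟩ := hs.mem_tSub.mp (hT2 _ (hs.tS_mem a b))
        rw [e, hs.dS_conj_tS, mul_inv_cancel_right]
        exact hs.tS_mem _ _
      rw [hfa (hs.tS a b) (hs.tS (φ.symm x) (φ.symm y)) (by
        rw [hs.fieldAut_tS, φ.apply_symm_apply, φ.apply_symm_apply, e])]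
      exact hs.tS_mem _ _)
  rw [hα₄, inv_mul_eq_one] at hid
  refine ⟨φ, g₁ * (hs.tS c d)⁻¹ * (hs.dS u)⁻¹, ?_⟩
  rw [hid, hα₃, hα₂, hα₁]
  simp only [map_mul, map_inv]
  group

theorem card_field_aut : Nat.card (F ≃+* F) = 2 * m + 1 := by
  haveI := Fact.mk Nat.prime_two
  haveI hc : CharP F 2 := by
    obtain ⟨p, hp⟩ := CharP.exists F
    haveI := hp
    obtain ⟨n, hpp, hn⟩ := FiniteField.card F p
    rw [hs.card] at hn
    have : p = 2 := (Nat.prime_dvd_prime_iff_eq hpp Nat.prime_two).mp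
      (hpp.dvd_of_dvd_pow (hn ▸ dvd_pow_self p n.ne_zero))
    subst this
    exact hp
  letI := ZMod.algebra F 2
  have e : (F ≃+* F) ≃ (F ≃ₐ[ZMod 2] F) :=
    { toFun := fun φ => AlgEquiv.ofRingEquiv (f := φ) fun x => by
        exact congrFun (congrArg DFunLike.coe
          (Subsingleton.elim ((φ : F →+* F).comp (algebraMap (ZMod 2) F)) (algebraMap (ZMod 2) F))) x
      invFun := fun φ => φ.toRingEquiv
      left_inv := fun φ => RingEquiv.ext fun x => rfl
      right_inv := fun φ => AlgEquiv.ext fun x => rfl }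
  rw [Nat.card_congr e, IsGalois.card_aut_eq_finrank]
  have h := Module.card_eq_pow_finrank (K := ZMod 2) (V := F)
  rw [hs.card, ZMod.card] at h
  exact (Nat.pow_right_injective le_rfl h).symm

theorem card_out_sz : Nat.card (Cfsg.Out ↥(Cfsg.Sz F m)) = 2 * m + 1 := by
  rw [← hs.card_field_aut]
  refine (Nat.card_congr (Equiv.ofBijective (fun φ : F ≃+* F =>
    (QuotientGroup.mk' (Cfsg.Inn ↥(Cfsg.Sz F m))) (hs.fieldAut φ)) ⟨fun φ ψ h => ?_, fun x => ?_⟩)).symm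
  · have h1 : (hs.fieldAut φ)⁻¹ * hs.fieldAut ψ ∈ Cfsg.Inn ↥(Cfsg.Sz F m) := QuotientGroup.eq.mp h
    rw [← map_inv, ← map_mul] at h1
    obtain ⟨g, hg⟩ := h1
    exact inv_mul_eq_one.mp (hs.fieldAut_inner _ g hg.symm)
  · obtain ⟨α, rfl⟩ := QuotientGroup.mk'_surjective _ x
    obtain ⟨φ, g, rfl⟩ := hs.exists_field_inner α
    refine ⟨φ, ?_⟩
    show _ = QuotientGroup.mk' _ (MulAut.conj g * hs.fieldAut φ)
    rw [map_mul, show QuotientGroup.mk' (Cfsg.Inn ↥(Cfsg.Sz F m)) (MulAut.conj g) = 1 from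
      (QuotientGroup.eq_one_iff _).mpr ⟨g, rfl⟩, one_mul]

theorem card_out_lie : Nat.card (Cfsg.Out ↥(Cfsg.Lie.Sz F (2 ^ (m + 1)))) = 2 * m + 1 := by
  rw [← hs.card_out_sz]
  refine Nat.card_congr (QuotientGroup.congr _ _ (MulAut.congr hs.lieEquiv) ?_).toEquiv
  ext φ
  constructor
  · rintro ⟨_, ⟨g, rfl⟩, rfl⟩
    refine ⟨hs.lieEquiv g, MulEquiv.ext fun x => ?_⟩
    simp [MulAut.congr]
  · rintro ⟨g, rfl⟩
    refine ⟨_, ⟨hs.lieEquiv.symm g, rfl⟩, MulEquiv.ext fun x => ?_⟩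
    simp [MulAut.congr]

end SzHyp

end Cfsg.Agent.Suzuki
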