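import Cfsg.Prelude.Def_LieExceptional

/-!
The Suzuki–Tits points, the translations, the diagonal transformations and the inversion.
-/

set_option autoImplicit false

open Matrix

namespace Cfsg.Agent.Suzuki

variable {F : Type*} [Field F] [Fintype F] {m : ℕ}

/-- The hypotheses on the field. -/
structure SzHyp (F : Type*) [Field F] [Fintype F] (m : ℕ) : Prop where
  hm : 1 ≤ m
  card : Fintype.card F = 2 ^ (2 * m + 1)

/-- The endomorphism whose square is squaring. -/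
def sg (m : ℕ) (x : F) : F := x ^ (2 ^ (m + 1))

omit [Fintype F] in
theorem sg_mul (x y : F) : sg m (x * y) = sg m x * sg m y := mul_pow _ _ _

omit [Fintype F] in
theorem sg_inv (x : F) : sg m x⁻¹ = (sg m x)⁻¹ := inv_pow _ _

omit [Fintype F] in
theorem sg_one : sg m (1 : F) = 1 := one_pow _

omit [Fintype F] in
theorem sg_zero : sg m (0 : F) = 0 := zero_pow (by positivity)

omit [Fintype F] in
theorem sg_eq_zero {x : F} : sg m x = 0 ↔ x = 0 := pow_eq_zero_iff (by positivity)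

omit [Fintype F] in
theorem sg_ne_zero {x : F} (h : x ≠ 0) : sg m x ≠ 0 := fun e => h (sg_eq_zero.mp e)

namespace SzHyp

variable (hs : SzHyp F m)

include hs

theorem two_eq_zero : (2 : F) = 0 := by
  have h : ((Fintype.card F : ℕ) : F) = 0 := Nat.cast_card_eq_zero F
  rw [hs.card] at h
  push_cast at h
  exact eq_zero_of_pow_eq_zero h

theorem add_self (x : F) : x + x = 0 := by rw [← two_mul, hs.two_eq_zero, zero_mul]

theorem neg_eq (x : F) : -x = x := neg_eq_of_add_eq_zero_right (hs.add_self x)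

theorem sub_eq (x y : F) : x - y = x + y := by rw [sub_eq_add_neg, hs.neg_eq]

theorem add_eq_zero_iff {x y : F} : x + y = 0 ↔ x = y := by
  rw [add_eq_zero_iff_eq_neg, hs.neg_eq]

theorem sq_add (x y : F) : (x + y) ^ 2 = x ^ 2 + y ^ 2 := by
  linear_combination (x * y) * hs.two_eq_zero

theorem pow_two_pow_add (x y : F) : ∀ k : ℕ, (x + y) ^ (2 ^ k) = x ^ (2 ^ k) + y ^ (2 ^ k)
  | 0 => by simp
  | k + 1 => by rw [pow_succ, pow_mul, pow_mul, pow_mul, pow_two_pow_add x y k, hs.sq_add]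

theorem sg_add (x y : F) : sg m (x + y) = sg m x + sg m y := hs.pow_two_pow_add x y _

theorem sg_sg (x : F) : sg m (sg m x) = x ^ 2 := by
  have h : x ^ (2 ^ (2 * m + 1)) = x := by rw [← hs.card]; exact FiniteField.pow_card x
  unfold sg
  rw [← pow_mul, ← pow_add, show m + 1 + (m + 1) = (2 * m + 1) + 1 by omega, pow_succ 2 (2 * m + 1), pow_mul, h]

theorem sq_inj {x y : F} (h : x ^ 2 = y ^ 2) : x = y := by
  rw [← hs.add_eq_zero_iff] at h ⊢
  rw [← hs.sq_add] at h
  exact eq_zero_of_pow_eq_zero h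

theorem exists_sq (x : F) : ∃ y : F, y ^ 2 = x :=
  (Finite.injective_iff_surjective.mp fun _ _ h => hs.sq_inj h) x

theorem sg_inj {x y : F} (h : sg m x = sg m y) : x = y :=
  hs.sq_inj (by rw [← hs.sg_sg, h, hs.sg_sg])

theorem exists_sg (x : F) : ∃ y : F, sg m y = x :=
  (Finite.injective_iff_surjective.mp fun _ _ h => hs.sg_inj h) x

theorem eq_zero_or_one_of_sg {u : F} (h : sg m u = u) : u = 0 ∨ u = 1 := by
  have h2 := hs.sg_sg u
  rw [h, h] at h2
  rcases mul_eq_zero.mp (show u * (u - 1) = 0 by linear_combination -h2) with e | e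
  exacts [Or.inl e, Or.inr (sub_eq_zero.mp e)]

/-- `k^(σ+1)` determines `k`. -/
theorem eq_one_of_mul_sg {k : F} (hk : k ≠ 0) (h : sg m k * k = 1) : k = 1 := by
  have h1 := congrArg (sg m) h
  rw [sg_mul, hs.sg_sg, sg_one] at h1
  have h2 : k * (sg m k * k) = sg m k * k := by linear_combination h1 - h + (0 : F) * hk.elim
  rw [h] at h2
  simpa using h2

end SzHyp

/-- The first coordinate of a point. -/
def fSz (m : ℕ) (x y : F) : F := x * y + sg m x * x ^ 2 + sg m y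

/-- The vector of a point. -/
def vSz (m : ℕ) (x y : F) : Fin 4 → F := ![fSz m x y, y, x, 1]

omit [Fintype F] in
theorem vSz_ne (x y : F) : vSz m x y ≠ 0 := fun h => one_ne_zero (α := F) (congrFun h 3)

/-- The point. -/
def ptSz (m : ℕ) (x y : F) : Projectivization F (Fin 4 → F) := Projectivization.mk F (vSz m x y) (vSz_ne x y)

omit [Fintype F] in
theorem infty_ne : (![1, 0, 0, 0] : Fin 4 → F) ≠ 0 := fun h => one_ne_zero (α := F) (congrFun h 0)

omit [Fintype F] in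
theorem vSz_zero : vSz m (0 : F) 0 = ![0, 0, 0, 1] := by simp [vSz, fSz, sg_zero]

omit [Fintype F] in
theorem ptSz_inj {x y x' y' : F} (h : ptSz m x y = ptSz m x' y') : x = x' ∧ y = y' := by
  obtain ⟨a, ha⟩ := (Projectivization.mk_eq_mk_iff' F _ _ _ _).mp h
  have h3 := congrFun ha 3
  simp [vSz] at h3
  subst h3
  rw [one_smul] at ha
  exact ⟨(congrFun ha 2).symm, (congrFun ha 1).symm⟩

omit [Fintype F] in
theorem ptSz_ne_infty (x y : F) : ptSz m x y ≠ Cfsg.suzukiPointInfinity F := fun h => by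
  obtain ⟨a, ha⟩ := (Projectivization.mk_eq_mk_iff' F _ _ _ _).mp h
  have h3 := congrFun ha 3
  simp [vSz] at h3

omit [Fintype F] in
theorem mem_ovoid {p : Projectivization F (Fin 4 → F)} :
    p ∈ Cfsg.suzukiOvoid F m ↔ p = Cfsg.suzukiPointInfinity F ∨ ∃ x y, p = ptSz m x y := by
  have e : ∀ x y : F, (![x * y + x ^ (2 ^ (m + 1) + 2) + y ^ (2 ^ (m + 1)), y, x, 1] : Fin 4 → F) = vSz m x y :=
    fun x y => by simp [vSz, fSz, sg, pow_add]
  constructor
  · rintro ⟨v, hv, rfl, rfl | ⟨x, y, rfl⟩⟩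
    · exact Or.inl rfl
    · exact Or.inr ⟨x, y, by simp only [ptSz, e]⟩
  · rintro (rfl | ⟨x, y, rfl⟩)
    · exact ⟨_, infty_ne, rfl, Or.inl rfl⟩
    · exact ⟨_, vSz_ne x y, rfl, Or.inr ⟨x, y, (e x y).symm⟩⟩

/-! ### Elements -/

/-- The translation matrix. -/
def tMat (m : ℕ) (a b : F) : Matrix (Fin 4) (Fin 4) F :=
  !![1, a, b + sg m a * a, fSz m a b; 0, 1, sg m a, b; 0, 0, 1, a; 0, 0, 0, 1]

/-- The diagonal matrix. -/
def dMat (m : ℕ) (s : F) : Matrix (Fin 4) (Fin 4) F :=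
  !![sg m s * s ^ 2, 0, 0, 0; 0, sg m s, 0, 0; 0, 0, (sg m s)⁻¹, 0; 0, 0, 0, (sg m s * s ^ 2)⁻¹]

/-- The inversion matrix. -/
def wMat (F : Type*) [Field F] : Matrix (Fin 4) (Fin 4) F :=
  !![0, 0, 0, 1; 0, 0, 1, 0; 0, 1, 0, 0; 1, 0, 0, 0]

/-- The translation. -/
def tG (m : ℕ) (a b : F) : Matrix.SpecialLinearGroup (Fin 4) F :=
  ⟨tMat m a b, by simp [tMat, Matrix.det_succ_row_zero, Fin.sum_univ_succ, Fin.succAbove]⟩

/-- The diagonal element. -/
def dG (m : ℕ) (s : Fˣ) : Matrix.SpecialLinearGroup (Fin 4) F :=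
  ⟨dMat m (s : F), by
    have h1 : sg m (s : F) ≠ 0 := sg_ne_zero s.ne_zero
    simp [dMat, Matrix.det_succ_row_zero, Fin.sum_univ_succ, Fin.succAbove]
    field_simp⟩

/-- The inversion. -/
def wG (F : Type*) [Field F] : Matrix.SpecialLinearGroup (Fin 4) F :=
  ⟨wMat F, by simp [wMat, Matrix.det_succ_row_zero, Fin.sum_univ_succ, Fin.succAbove]; norm_num⟩

omit [Fintype F] in
theorem smul_mk' (g : Matrix.SpecialLinearGroup (Fin 4) F) {v : Fin 4 → F} (hv : v ≠ 0) :
    ∃ h : (g : Matrix (Fin 4) (Fin 4) F) *ᵥ v ≠ 0,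
      g • Projectivization.mk F v hv = Projectivization.mk F ((g : Matrix (Fin 4) (Fin 4) F) *ᵥ v) h :=
  ⟨_, rfl⟩

omit [Fintype F] in
theorem smul_eq_of_mulVec {g : Matrix.SpecialLinearGroup (Fin 4) F} {v w : Fin 4 → F} (hv : v ≠ 0) (hw : w ≠ 0)
    (c : F) (h : (g : Matrix (Fin 4) (Fin 4) F) *ᵥ v = c • w) :
    g • Projectivization.mk F v hv = Projectivization.mk F w hw := by
  obtain ⟨h', e⟩ := smul_mk' g hv
  rw [e, Projectivization.mk_eq_mk_iff']
  exact ⟨c, h.symm⟩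

omit [Fintype F] in
theorem tMat_infty (a b : F) : tMat m a b *ᵥ ![1, 0, 0, 0] = (1 : F) • ![1, 0, 0, 0] := by
  ext i; fin_cases i <;> simp [tMat, Matrix.mulVec, dotProduct, Fin.sum_univ_succ]

namespace SzHyp

variable (hs : SzHyp F m)

include hs

theorem fSz_add (a b x y : F) :
    fSz m (x + a) (y + sg m a * x + b) = fSz m x y + a * y + (b + sg m a * a) * x + fSz m a b := by
  unfold fSz
  rw [hs.sg_add x a, hs.sg_add, hs.sg_add, sg_mul, hs.sg_sg]
  linear_combination (sg m x * x * a + a * x * sg m a + sg m a * x ^ 2 + a ^ 2 * sg m x) * hs.two_eq_zero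

theorem tMat_point (a b x y : F) :
    tMat m a b *ᵥ vSz m x y = (1 : F) • vSz m (x + a) (y + sg m a * x + b) := by
  ext i; fin_cases i <;> simp [tMat, vSz, Matrix.mulVec, dotProduct, Fin.sum_univ_succ, hs.fSz_add] <;> ring

theorem dMat_point {s : F} (h : s ≠ 0) (x y : F) :
    dMat m s *ᵥ vSz m x y = (sg m s * s ^ 2)⁻¹ • vSz m (s ^ 2 * x) (sg m s ^ 2 * s ^ 2 * y) := by
  have h1 := sg_ne_zero (m := m) h
  have e1 : sg m (s ^ 2) = sg m s ^ 2 := by rw [sq, sg_mul, sq]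
  have e2 : sg m (sg m s ^ 2) = (s ^ 2) ^ 2 := by rw [sq (sg m s), sg_mul, hs.sg_sg, ← sq]
  ext i; fin_cases i <;>
    simp [dMat, vSz, fSz, Matrix.mulVec, dotProduct, Fin.sum_univ_succ, sg_mul, e1, e2]
  all_goals field_simp


theorem fSz_key (x y : F) : x * y * sg m (fSz m x y) + sg m y * y ^ 2 + sg m x * fSz m x y ^ 2 =
    sg m (fSz m x y) * fSz m x y := by
  unfold fSz
  rw [hs.sg_add, hs.sg_add, sg_mul, sg_mul, hs.sg_sg, hs.sg_sg, show sg m (x ^ 2) = sg m x ^ 2 by rw [sq, sg_mul, sq]]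
  linear_combination (x * y * (sg m x) ^ 2 * x ^ 2 + sg m x * sg m y * x * y) * hs.two_eq_zero

theorem fSz_eq_zero {x y : F} (h : fSz m x y = 0) : x = 0 ∧ y = 0 := by
  have hk := hs.fSz_key x y
  rw [h, sg_zero] at hk
  simp at hk
  have hy : y = 0 := hk.elim sg_eq_zero.mp id
  subst hy
  simp [fSz, sg_zero] at h
  exact ⟨h.elim sg_eq_zero.mp id, rfl⟩

theorem wMat_point {x y : F} (hf : fSz m x y ≠ 0) :
    wMat F *ᵥ vSz m x y = fSz m x y • vSz m (y / fSz m x y) (x / fSz m x y) := by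
  have hk := hs.fSz_key x y
  set f := fSz m x y with hfd
  have hsf := sg_ne_zero (m := m) hf
  have e : fSz m (y / f) (x / f) = 1 / f := by
    have h1 : sg m (y / f) = sg m y / sg m f := by rw [div_eq_mul_inv, sg_mul, sg_inv, div_eq_mul_inv]
    have h2 : sg m (x / f) = sg m x / sg m f := by rw [div_eq_mul_inv, sg_mul, sg_inv, div_eq_mul_inv]
    conv_lhs => rw [fSz, h1, h2]
    field_simp
    linear_combination hk
  ext i; fin_cases i <;> simp [wMat, vSz, Matrix.mulVec, dotProduct, Fin.sum_univ_succ, e, ← hfd] <;> field_simp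

end SzHyp

end Cfsg.Agent.Suzuki
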