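import Cfsg.Agent.Lib.Suzuki.LieSz
import Mathlib.FieldTheory.IsAlgClosed.AlgebraicClosure
import Mathlib.LinearAlgebra.Eigenspace.Semisimple
import Mathlib.LinearAlgebra.Eigenspace.Triangularizable
import Mathlib.FieldTheory.Separable
import Mathlib.RingTheory.IntegralDomain

/-!
Eigenvalues of elements of odd order of the Suzuki groups: the three kinds of cyclic maximal tori.
-/

set_option autoImplicit false

open Matrix

namespace Cfsg.Agent.Suzuki

theorem coprime_sq_add_one_pred {Q : ℕ} (h : 2 ∣ Q) : Nat.Coprime (Q ^ 2 + 1) (Q - 1) := by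
  rcases Nat.eq_zero_or_pos Q with rfl | hQ
  · simp
  obtain ⟨P, rfl⟩ : ∃ P, Q = P + 1 := ⟨Q - 1, by omega⟩
  rw [Nat.add_sub_cancel, show (P + 1) ^ 2 + 1 = 2 + (P + 2) * P by ring, Nat.coprime_add_mul_right_left,
    Nat.prime_two.coprime_iff_not_dvd]
  omega

theorem coprime_sq_add_one_succ {Q : ℕ} (h : 2 ∣ Q) : Nat.Coprime (Q ^ 2 + 1) (Q + 1) := by
  have h2 : Nat.Coprime 2 (Q + 1) := Nat.prime_two.coprime_iff_not_dvd.mpr (by omega)
  rcases Nat.eq_zero_or_pos Q with rfl | hQ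
  · simp
  obtain ⟨P, rfl⟩ : ∃ P, Q = P + 1 := ⟨Q - 1, by omega⟩
  rw [show (P + 1) ^ 2 + 1 = 2 + P * (P + 1 + 1) by ring, Nat.coprime_add_mul_right_left]
  exact h2

section Closed

variable {K : Type*} [Field K] [CharP K 2]

local notation "V4" => Fin 4 → K

/-- The alternating form. -/
def bf (u v : V4) : K := u 0 * v 3 + u 1 * v 2 + u 2 * v 1 + u 3 * v 0

/-- The four relevant Plücker coordinates. -/
def pl (v w : V4) : V4 := fun r =>
  v (Cfsg.Lie.pairOf r).1 * w (Cfsg.Lie.pairOf r).2 + v (Cfsg.Lie.pairOf r).2 * w (Cfsg.Lie.pairOf r).1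

theorem two0 : (2 : K) = 0 := CharTwo.two_eq_zero

theorem bf_comm (u v : V4) : bf u v = bf v u := by simp only [bf]; ring

theorem bf_self (u : V4) : bf u u = 0 := by
  simp only [bf]; linear_combination (u 0 * u 3 + u 1 * u 2) * (two0 (K := K))

theorem pl_smul (c d : K) (v w : V4) : pl (c • v) (d • w) = (c * d) • pl v w := by
  ext r; simp only [pl, Pi.smul_apply, smul_eq_mul]; ring

theorem star4_pl {A : Matrix (Fin 4) (Fin 4) K}
    (hA : ∀ p, A (Cfsg.Lie.pairOf p).1 0 * A (Cfsg.Lie.pairOf p).2 3 + A (Cfsg.Lie.pairOf p).2 0 * A (Cfsg.Lie.pairOf p).1 3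
      + (A (Cfsg.Lie.pairOf p).1 1 * A (Cfsg.Lie.pairOf p).2 2 + A (Cfsg.Lie.pairOf p).2 1 * A (Cfsg.Lie.pairOf p).1 2) = 0)
    {v w : V4} (h : bf v w = 0) : Cfsg.Lie.star4 A *ᵥ pl v w = pl (A *ᵥ v) (A *ᵥ w) := by
  ext p
  have ha := hA p
  simp only [bf] at h
  have e0 : Cfsg.Lie.pairOf 0 = ((0 : Fin 4), (1 : Fin 4)) := rfl
  have e1 : Cfsg.Lie.pairOf 1 = ((0 : Fin 4), (2 : Fin 4)) := rfl
  have e2 : Cfsg.Lie.pairOf 2 = ((1 : Fin 4), (3 : Fin 4)) := rfl
  have e3 : Cfsg.Lie.pairOf 3 = ((2 : Fin 4), (3 : Fin 4)) := rfl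
  simp only [pl, Cfsg.Lie.star4, Matrix.of_apply, Matrix.mulVec, dotProduct, Fin.sum_univ_four, CharTwo.sub_eq_add,
    e0, e1, e2, e3]
  generalize (Cfsg.Lie.pairOf p).1 = k at *
  generalize (Cfsg.Lie.pairOf p).2 = l at *
  linear_combination -((A k 0 * A l 3 + A l 0 * A k 3) * h + (v 1 * w 2 + v 2 * w 1) * ha)
    + (-(A k 0 * A l 0 * v 0 * w 0 + A k 1 * A l 1 * v 1 * w 1 + A k 2 * A l 2 * v 2 * w 2
      + A k 3 * A l 3 * v 3 * w 3) + (A k 0 * A l 3 + A l 0 * A k 3) * (v 1 * w 2 + v 2 * w 1)) * (two0 (K := K))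

theorem orth_dim {k : ℕ} (s : Fin k → V4) (hli : LinearIndependent K s) :
    ∃ U : Submodule K V4, (∀ u, u ∈ U ↔ ∀ i, bf (s i) u = 0) ∧ Module.finrank K U + k = 4 := by
  classical
  let A : Matrix (Fin k) (Fin 4) K := Matrix.of fun i j => s i (Fin.rev j)
  refine ⟨LinearMap.ker A.mulVecLin, fun u => ?_, ?_⟩
  · rw [LinearMap.mem_ker, funext_iff]
    refine forall_congr' fun i => ?_
    have : A.mulVecLin u i = bf (s i) u := by
      simp [A, Matrix.mulVec, dotProduct, Fin.sum_univ_four, bf, Fin.rev]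
      ring
    rw [this]; rfl
  · have h1 := LinearMap.finrank_range_add_finrank_ker A.mulVecLin
    have h2 : LinearIndependent K A.row :=
      hli.map' (LinearMap.funLeft K K Fin.rev)
        (LinearMap.ker_eq_bot.mpr (LinearMap.funLeft_injective_of_surjective _ _ _ Fin.rev_surjective))
    have h3 : Module.finrank K (LinearMap.range A.mulVecLin) = k := by
      have := h2.rank_matrix
      rwa [Fintype.card_fin] at this
    rw [h3, Module.finrank_fin_fun] at h1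
    omega

theorem pl_ne_zero {v w : V4} (hli : LinearIndependent K ![v, w]) (h : bf v w = 0) : pl v w ≠ 0 := by
  intro h0
  have e : ∀ r, pl v w r = 0 := fun r => congrFun h0 r
  have p01 := e 0
  have p02 := e 1
  have p13 := e 2
  have p23 := e 3
  simp [pl, Cfsg.Lie.pairOf] at p01 p02 p13 p23
  simp only [bf] at h
  have p03 : v 0 * w 3 + v 3 * w 0 = 0 := by
    refine mul_self_eq_zero.mp ?_
    linear_combination (v 0 * w 3 + v 3 * w 0) * h + (v 2 * w 3 + v 3 * w 2) * p01 + (v 1 * w 3 + v 3 * w 1) * p02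
      - (v 0 * v 2 * w 1 * w 3 + v 0 * v 3 * w 1 * w 2 + v 1 * v 2 * w 0 * w 3 + v 1 * v 3 * w 0 * w 2
        + v 0 * v 1 * w 2 * w 3 + v 2 * v 3 * w 0 * w 1) * (two0 (K := K))
  have p12 : v 1 * w 2 + v 2 * w 1 = 0 := by linear_combination h - p03
  have minor : ∀ i j : Fin 4, v i * w j + v j * w i = 0 := by
    intro i j
    fin_cases i <;> fin_cases j <;> simp only [Fin.zero_eta, Fin.mk_one, Fin.reduceFinMk] <;>
      first
      | linear_combination (v 0 * w 0) * (two0 (K := K))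
      | linear_combination (v 1 * w 1) * (two0 (K := K))
      | linear_combination (v 2 * w 2) * (two0 (K := K))
      | linear_combination (v 3 * w 3) * (two0 (K := K))
      | linear_combination p01
      | linear_combination p02
      | linear_combination p03
      | linear_combination p12
      | linear_combination p13
      | linear_combination p23
  obtain ⟨j, hj⟩ : ∃ j, v j ≠ 0 := by
    by_contra hn
    push Not at hn
    exact hli.ne_zero 0 (show ![v, w] 0 = 0 from funext hn)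
  rw [linearIndependent_fin2] at hli
  simp only [Matrix.cons_val_one, Matrix.cons_val_zero] at hli
  by_cases hw : w j = 0
  · refine hli.1 (funext fun i => ?_)
    have := minor i j
    rw [hw, mul_zero, zero_add] at this
    exact (mul_eq_zero.mp this).resolve_left hj
  · refine hli.2 (v j / w j) (funext fun i => ?_)
    rw [Pi.smul_apply, smul_eq_mul]
    field_simp
    linear_combination (minor i j) - (v i * w j) * (two0 (K := K))

theorem pow_inj {n : ℕ} {x y : K} (h : x ^ 2 ^ n = y ^ 2 ^ n) : x = y :=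
  (iterateFrobenius K 2 n).injective (by rw [iterateFrobenius_def, iterateFrobenius_def]; exact h)

theorem eigen_finish {T : Matrix (Fin 4) (Fin 4) K} [IsAlgClosed K] {n : ℕ} (hn : Odd n) (hT : T ^ n = 1)
    (p q : Submodule K V4) (hp : ∀ x ∈ p, T *ᵥ x ∈ p) (hpq : ¬ p ≤ q) :
    ∃ (r : K) (u : V4), u ∈ p ∧ u ∉ q ∧ T *ᵥ u = r • u := by
  let f : Module.End K V4 := Matrix.toLinAlgEquiv' T
  have hf : f.IsSemisimple := by
    refine Module.End.isSemisimple_of_squarefree_aeval_eq_zero (p := Polynomial.X ^ n - 1) ?_ ?_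
    · refine (Polynomial.X_pow_sub_one_separable_iff.mpr ?_).squarefree
      rw [Ne, CharP.cast_eq_zero_iff K 2]
      exact fun h => (Nat.not_even_iff_odd.mpr hn) (even_iff_two_dvd.mpr h)
    · rw [map_sub, map_pow, Polynomial.aeval_X, map_one, ← map_pow, hT, map_one, sub_self]
  by_contra hcon
  push Not at hcon
  refine hpq (le_trans (Submodule.eq_iSup_inf_genEigenspace 1 (f := f) (p := p) (fun x hx => hp x hx)
    hf.iSup_eigenspace_eq_top).le (iSup_le fun r x hx => ?_))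
  by_contra hq
  exact hcon r x hx.1 hq (Module.End.mem_eigenspace_iff.mp hx.2)

variable {T : Matrix (Fin 4) (Fin 4) K} {m : ℕ}

theorem bf_invariant (hB : ∀ u v, bf (T *ᵥ u) (T *ᵥ v) = bf u v) {a b : K} {u v : V4} (hu : T *ᵥ u = a • u)
    (hv : T *ᵥ v = b • v) (h : bf u v ≠ 0) : a * b = 1 := by
  have := hB u v
  rw [hu, hv] at this
  have e : bf (a • u) (b • v) = a * b * bf u v := by simp only [bf, Pi.smul_apply, smul_eq_mul]; ring
  rw [e] at this
  exact (mul_eq_right₀ h).mp this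

theorem pow_eq_of_relations (hq : ∀ x : K, (x ^ 2 ^ (m + 1)) ^ 2 ^ (m + 1) = (x ^ 2 ^ (2 * m + 1)) ^ 2)
    {l μ ν1 ν2 : K} (hl : l ≠ 0) (hμ : μ ≠ 0) (h1 : l * μ = ν1 ^ 2 ^ (m + 1)) (h2 : l * μ⁻¹ = ν2 ^ 2 ^ (m + 1))
    {e f : Bool} (he : ν1 = if e then l else l⁻¹) (hf : ν2 = if f then μ else μ⁻¹) :
    (l ^ 2 ^ (2 * m + 1) = l ∧ μ ^ 2 ^ (2 * m + 1) = μ) ∨
      (l ^ (2 ^ (2 * m + 1) + 1) = l ^ 2 ^ (m + 1) ∧ μ ^ (2 ^ (2 * m + 1) + 1) = μ ^ 2 ^ (m + 1)) ∨
      (l ^ (2 ^ (2 * m + 1) + 2 ^ (m + 1) + 1) = 1 ∧ μ ^ (2 ^ (2 * m + 1) + 2 ^ (m + 1) + 1) = 1) := by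
  set θ := 2 ^ (m + 1) with hθ
  set Q := 2 ^ (2 * m + 1) with hQ
  have key : ∀ x y : K, x ^ 2 = y ^ 2 → x = y := fun x y h => pow_inj (n := 1) (by simpa using h)
  subst he hf
  have hl' := hq l
  cases e <;> cases f <;> simp only [Bool.false_eq_true, if_false, if_true, inv_pow] at h1 h2
  · -- both inverse
    have hμe : μ = (l ^ θ)⁻¹ * l⁻¹ := by rw [← h1]; field_simp
    have hQl : l ^ Q = l := by
      refine key _ _ ?_
      rw [hμe, mul_pow, inv_pow, inv_pow, hl'] at h2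
      field_simp at h2
      linear_combination -h2
    refine Or.inl ⟨hQl, ?_⟩
    rw [hμe, mul_pow, inv_pow, inv_pow, ← pow_mul, mul_comm θ Q, pow_mul, hQl]
  · have hμe : μ = (l ^ θ)⁻¹ * l⁻¹ := by rw [← h1]; field_simp
    have hb : l ^ (Q + θ + 1) = 1 := by
      refine key _ _ ?_
      rw [hμe, mul_pow, inv_pow, inv_pow, hl'] at h2
      field_simp at h2
      rw [pow_add, pow_add, pow_one]
      linear_combination h2
    refine Or.inr (Or.inr ⟨hb, ?_⟩)
    rw [hμe, mul_pow, inv_pow, inv_pow, ← pow_mul, mul_comm θ, pow_mul, hb, one_pow, inv_one, one_mul]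
  · have hμe : μ = l ^ θ * l⁻¹ := by rw [← h1]; field_simp
    have hb : l ^ (Q + 1) = l ^ θ := by
      refine key _ _ ?_
      rw [hμe, mul_pow, inv_pow, hl'] at h2
      field_simp at h2
      rw [pow_add, pow_one]
      linear_combination h2
    refine Or.inr (Or.inl ⟨hb, ?_⟩)
    rw [hμe, mul_pow, mul_pow, inv_pow, inv_pow, ← pow_mul, mul_comm θ (Q + 1), pow_mul, hb]
  · have hμe : μ = l ^ θ * l⁻¹ := by rw [← h1]; field_simp
    have hQl : l ^ Q = l := by
      refine key _ _ ?_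
      rw [hμe, mul_pow, inv_pow, hl'] at h2
      field_simp at h2
      linear_combination -h2
    refine Or.inl ⟨hQl, ?_⟩
    rw [hμe, mul_pow, inv_pow, ← pow_mul, mul_comm θ Q, pow_mul, hQl]

theorem degenerate {l μ : K} (hm : 1 ≤ m) (hq : ∀ x : K, (x ^ 2 ^ (m + 1)) ^ 2 ^ (m + 1) = (x ^ 2 ^ (2 * m + 1)) ^ 2)
    (hl : l ≠ 0) (h3 : l ^ 3 = 1 → l = 1)
    (hfr : l ^ 2 ^ (2 * m + 1) = l ∨ l ^ 2 ^ (2 * m + 1) = l⁻¹ ∨ l ^ 2 ^ (2 * m + 1) = μ ∨ l ^ 2 ^ (2 * m + 1) = μ⁻¹)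
    (hμ : μ = 1) (h : l ^ 2 ^ (m + 1) = l ∨ l ^ 2 ^ (m + 1) = l⁻¹) : l = 1 := by
  have := hm
  have h2 : (l ^ 2 ^ (2 * m + 1)) ^ 2 = l := by
    rw [← hq]
    rcases h with e | e
    · rw [e, e]
    · rw [e, inv_pow, e, inv_inv]
  rw [hμ, inv_one, or_self] at hfr
  rcases hfr with e | e | e
  · rw [e, sq, mul_eq_left₀ hl] at h2
    exact h2
  · rw [e] at h2
    refine h3 ?_
    field_simp at h2
    linear_combination -h2
  · rw [e, one_pow] at h2
    exact h2.symm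

theorem eigen_cases [IsAlgClosed K] (hm : 1 ≤ m)
    (hq : ∀ x : K, (x ^ 2 ^ (m + 1)) ^ 2 ^ (m + 1) = (x ^ 2 ^ (2 * m + 1)) ^ 2)
    (hTq : ∀ i j, T i j ^ 2 ^ (2 * m + 1) = T i j)
    (hB : ∀ u v, bf (T *ᵥ u) (T *ᵥ v) = bf u v)
    (hA : ∀ p, T (Cfsg.Lie.pairOf p).1 0 * T (Cfsg.Lie.pairOf p).2 3 + T (Cfsg.Lie.pairOf p).2 0 * T (Cfsg.Lie.pairOf p).1 3
      + (T (Cfsg.Lie.pairOf p).1 1 * T (Cfsg.Lie.pairOf p).2 2 + T (Cfsg.Lie.pairOf p).2 1 * T (Cfsg.Lie.pairOf p).1 2) = 0)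
    (hstar : Cfsg.Lie.star4 T = T.map (· ^ 2 ^ (m + 1)))
    {n : ℕ} (hn : Odd n) (hT : T ^ n = 1) (hn3 : ¬ 3 ∣ n) :
    T ^ (2 ^ (2 * m + 1) - 1) = 1 ∨ T ^ (2 ^ (2 * m + 1) + 2 ^ (m + 1) + 1) = 1 ∨
      T ^ (2 ^ (2 * m + 1) - 2 ^ (m + 1) + 1) = 1 := by
  set θ := 2 ^ (m + 1) with hθ
  set Q := 2 ^ (2 * m + 1) with hQ
  have hn0 : n ≠ 0 := fun h => by simp [h] at hn
  have hpow : ∀ (r : K) (u : V4), T *ᵥ u = r • u → ∀ k, (T ^ k) *ᵥ u = r ^ k • u := by
    intro r u h k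
    induction k with
    | zero => simp
    | succ k ih => rw [pow_succ, ← Matrix.mulVec_mulVec, h, Matrix.mulVec_smul, ih, smul_smul, ← pow_succ']
  have hroot : ∀ (r : K) (u : V4), u ≠ 0 → T *ᵥ u = r • u → r ^ n = 1 := by
    intro r u hu h
    have := hpow r u h n
    rw [hT, Matrix.one_mulVec] at this
    have e : (r ^ n - 1) • u = 0 := by rw [sub_smul, one_smul, ← this, sub_self]
    exact sub_eq_zero.mp ((smul_eq_zero.mp e).resolve_right hu)
  have hne0 : ∀ (r : K), r ^ n = 1 → r ≠ 0 := fun r h e => by rw [e, zero_pow hn0] at h; exact zero_ne_one h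
  have hord : ∀ r : K, r ^ n = 1 → r ^ 3 = 1 → r = 1 := fun r h h' => by
    have h1 : orderOf r ∣ Nat.gcd n 3 := Nat.dvd_gcd (orderOf_dvd_of_pow_eq_one h) (orderOf_dvd_of_pow_eq_one h')
    rw [Nat.gcd_comm, (Nat.prime_three.coprime_iff_not_dvd.mpr hn3).gcd_eq_one, Nat.dvd_one] at h1
    exact orderOf_eq_one_iff.mp h1
  -- first eigenvector and the two others in its orthogonal space
  obtain ⟨l, v, -, hv0, hv⟩ := eigen_finish hn hT ⊤ ⊥ (fun x _ => trivial) (by simp)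
  rw [Submodule.mem_bot] at hv0
  have hl : l ≠ 0 := hne0 l (hroot l v hv0 hv)
  obtain ⟨U, hU, hUd⟩ := orth_dim ![v] (linearIndependent_unique_iff.mpr (by simpa using hv0))
  have hUinv : ∀ x ∈ U, T *ᵥ x ∈ U := fun x hx => by
    rw [hU] at hx ⊢
    intro i
    have h1 : bf v x = 0 := by simpa using hx 0
    have h2 : bf (T *ᵥ v) (T *ᵥ x) = 0 := (hB _ _).trans h1
    rw [hv] at h2
    have e : bf (l • v) (T *ᵥ x) = l * bf v (T *ᵥ x) := by simp only [bf, Pi.smul_apply, smul_eq_mul]; ring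
    rw [e] at h2
    simpa using (mul_eq_zero.mp h2).resolve_left hl
  have hspan1 : ¬ U ≤ Submodule.span K {v} := fun h => by
    have := Submodule.finrank_mono h
    rw [finrank_span_singleton hv0] at this
    omega
  obtain ⟨μ, w, hwU, hwv, hw⟩ := eigen_finish hn hT U _ hUinv hspan1
  have hli : LinearIndependent K ![v, w] := LinearIndependent.pair_iff' hv0 |>.mpr fun a h =>
    hwv (Submodule.mem_span_singleton.mpr ⟨a, h⟩)
  have hw0 : w ≠ 0 := fun h => hwv (h ▸ Submodule.zero_mem _)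
  have hμ : μ ≠ 0 := hne0 μ (hroot μ w hw0 hw)
  have hvw : bf v w = 0 := by simpa using (hU w).mp hwU 0
  have hspan2 : ¬ U ≤ Submodule.span K (Set.range ![v, w]) := fun h => by
    have := (Submodule.finrank_mono h).trans_eq (finrank_span_eq_card hli)
    rw [Fintype.card_fin] at this
    omega
  obtain ⟨μ', z, hzU, hzvw, hz⟩ := eigen_finish hn hT U _ hUinv hspan2
  have hvz : bf v z = 0 := by simpa using (hU z).mp hzU 0
  have hz0 : z ≠ 0 := fun h => hzvw (h ▸ Submodule.zero_mem _)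
  obtain ⟨W, hW, hWd⟩ := orth_dim ![v, w] hli
  have hWeq : W = Submodule.span K (Set.range ![v, w]) := by
    refine (Submodule.eq_of_le_of_finrank_le ?_ ?_).symm
    · rw [Submodule.span_le]
      rintro _ ⟨i, rfl⟩
      refine (hW _).mpr fun j => ?_
      fin_cases i <;> fin_cases j <;> simp [bf_self, hvw, bf_comm w v]
    · rw [finrank_span_eq_card hli, Fintype.card_fin]
      omega
  have hwz : bf w z ≠ 0 := fun h => hzvw (hWeq ▸ (hW z).mpr fun j => by fin_cases j <;> simp [hvz, h])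
  have hμ' : μ' = μ⁻¹ := eq_inv_of_mul_eq_one_right (bf_invariant hB hw hz hwz)
  -- all the eigenvalues
  have hall : ∀ (r : K) (u : V4), u ≠ 0 → T *ᵥ u = r • u → r = l ∨ r = l⁻¹ ∨ r = μ ∨ r = μ⁻¹ := by
    intro r u hu h
    by_contra hc
    push Not at hc
    obtain ⟨c1, c2, c3, c4⟩ := hc
    have o1 : bf v u = 0 := by
      by_contra e
      exact c2 (eq_inv_of_mul_eq_one_right (bf_invariant hB hv h e))
    have o2 : bf w u = 0 := by
      by_contra e
      exact c4 (eq_inv_of_mul_eq_one_right (bf_invariant hB hw h e))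
    have hmem : u ∈ Submodule.span K (Set.range ![v, w]) :=
      hWeq ▸ (hW u).mpr fun j => by fin_cases j <;> simp [o1, o2]
    obtain ⟨c, hc⟩ := (Submodule.mem_span_range_iff_exists_fun K).mp hmem
    simp [Fin.sum_univ_two] at hc
    have h' := h
    rw [← hc, Matrix.mulVec_add, Matrix.mulVec_smul, Matrix.mulVec_smul, hv, hw, smul_add, smul_smul, smul_smul,
      smul_smul, smul_smul] at h'
    have h0 : (c 0 * (l - r)) • v + (c 1 * (μ - r)) • w = 0 := by
      rw [mul_sub, mul_sub, sub_smul, sub_smul, mul_comm (c 0) r, mul_comm (c 1) r, sub_add_sub_comm, h', sub_self]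
    obtain ⟨a0, a1⟩ := LinearIndependent.pair_iff.mp hli _ _ h0
    rw [(mul_eq_zero.mp a0).resolve_right (sub_ne_zero.mpr (Ne.symm c1)),
      (mul_eq_zero.mp a1).resolve_right (sub_ne_zero.mpr (Ne.symm c3)), zero_smul, zero_smul, add_zero] at hc
    exact hu hc.symm
  -- eigenvalues of the entrywise powers
  have hexp : ∀ (a b : K) (x y : V4), LinearIndependent K ![x, y] → bf x y = 0 → T *ᵥ x = a • x → T *ᵥ y = b • y →
      ∃ ν, a * b = ν ^ θ ∧ (ν = l ∨ ν = l⁻¹ ∨ ν = μ ∨ ν = μ⁻¹) := by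
    intro a b x y hxy hb0 hx hy
    obtain ⟨ν, hν⟩ := IsAlgClosed.exists_pow_nat_eq (a * b) (n := θ) (by positivity)
    have hp : ∀ r, ∃ z : K, z ^ θ = pl x y r := fun r => IsAlgClosed.exists_pow_nat_eq _ (by positivity)
    choose p hp using hp
    refine ⟨ν, hν.symm, hall ν p ?_ ?_⟩
    · intro e
      refine pl_ne_zero hxy hb0 (funext fun r => ?_)
      rw [← hp r, show p r = 0 from congrFun e r, Pi.zero_apply, zero_pow (by positivity)]
    · funext r
      have e : (Cfsg.Lie.star4 T *ᵥ pl x y) r = (a * b) * pl x y r := by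
        rw [star4_pl hA hb0, hx, hy, pl_smul]; rfl
      refine pow_inj (n := m + 1) ?_
      rw [Pi.smul_apply, smul_eq_mul, mul_pow, hν, hp r, ← e, hstar, ← iterateFrobenius_def (R := K)]
      simp only [hθ] at hp ⊢
      simp only [Matrix.mulVec, dotProduct, map_sum, map_mul, iterateFrobenius_def, Matrix.map_apply, hp]
  obtain ⟨ν1, hν1, hν1c⟩ := hexp l μ v w hli hvw hv hw
  obtain ⟨ν2, hν2, hν2c⟩ := hexp l μ' v z (LinearIndependent.pair_iff' hv0 |>.mpr fun a h =>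
    hzvw (Submodule.subset_span.trans le_rfl (show v ∈ Set.range ![v, w] from ⟨0, rfl⟩) |> fun hvm =>
      h ▸ Submodule.smul_mem _ a hvm)) hvz hv hz
  rw [hμ'] at hν2
  have hfrob : ∀ (r : K) (u : V4), u ≠ 0 → T *ᵥ u = r • u →
      r ^ Q = l ∨ r ^ Q = l⁻¹ ∨ r ^ Q = μ ∨ r ^ Q = μ⁻¹ := by
    intro r u hu h
    refine hall _ (fun i => u i ^ Q) (fun e => hu (funext fun i => (pow_eq_zero_iff (by positivity)).mp (congrFun e i))) ?_
    funext i
    have := congrArg (· ^ Q) (congrFun h i)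
    simp only [Matrix.mulVec, dotProduct, Pi.smul_apply, smul_eq_mul] at this ⊢
    rw [mul_pow] at this
    rw [← this, hQ, ← iterateFrobenius_def (R := K), map_sum]
    refine Finset.sum_congr rfl fun j _ => ?_
    rw [map_mul, iterateFrobenius_def, iterateFrobenius_def, hTq]
  have hl3 := hord l (hroot l v hv0 hv)
  have hμ3 := hord μ (hroot μ w hw0 hw)
  have finish : ∀ N, l ^ N = 1 → μ ^ N = 1 → T ^ N = 1 := by
    intro N h1 h2
    by_contra hne
    let p : Submodule K V4 := LinearMap.ker (T ^ N - 1).mulVecLin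
    have hp : ¬ (⊤ : Submodule K V4) ≤ p := fun h => hne (Matrix.ext_iff_mulVec.mpr fun u => by
      have := h (Submodule.mem_top (x := u))
      simpa [p, LinearMap.mem_ker, Matrix.sub_mulVec, sub_eq_zero] using this)
    obtain ⟨r, u, -, hu, he⟩ := eigen_finish hn hT ⊤ p (fun x _ => trivial) hp
    have hu0 : u ≠ 0 := fun e => hu (e ▸ Submodule.zero_mem _)
    refine hu ?_
    rcases hall r u hu0 he with rfl | rfl | rfl | rfl <;>
      simp [p, LinearMap.mem_ker, Matrix.sub_mulVec, hpow _ u he, h1, h2]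
  -- the degenerate possibilities
  have key : ∀ x y : K, x ^ 2 = y ^ 2 → x = y := fun x y h => pow_inj (n := 1) (by simpa using h)
  have trivial1 : l = 1 → μ = 1 → T ^ (Q - 1) = 1 := fun h h' => finish _ (by rw [h, one_pow]) (by rw [h', one_pow])
  have hlsq : l ^ 2 = ν1 ^ θ * ν2 ^ θ := by rw [← hν1, ← hν2]; field_simp
  have dl : μ = 1 → (l ^ θ = l ∨ l ^ θ = l⁻¹) → T ^ (Q - 1) = 1 := fun h h' =>
    trivial1 (degenerate hm hq hl hl3 (hfrob l v hv0 hv) h h') h
  have dμ : l = 1 → (μ ^ θ = μ ∨ μ ^ θ = μ⁻¹) → T ^ (Q - 1) = 1 := fun h h' =>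
    trivial1 h (degenerate hm hq hμ hμ3 (by
      rcases hfrob μ w hw0 hw with e | e | e | e
      exacts [Or.inr (Or.inr (Or.inl e)), Or.inr (Or.inr (Or.inr e)), Or.inl e, Or.inr (Or.inl e)]) h h')
  have generic : ∀ μ0 : K, (μ0 = μ ∨ μ0 = μ⁻¹) → ∀ a b : K, l * μ0 = a ^ θ → l * μ0⁻¹ = b ^ θ →
      (a = l ∨ a = l⁻¹) → (b = μ0 ∨ b = μ0⁻¹) →
      T ^ (Q - 1) = 1 ∨ T ^ (Q + θ + 1) = 1 ∨ T ^ (Q - θ + 1) = 1 := by
    intro μ0 hμ0 a b ha hb hac hbc
    have hμ00 : μ0 ≠ 0 := by rcases hμ0 with rfl | rfl <;> simp [hμ]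
    have hN : ∀ N, l ^ N = 1 → μ0 ^ N = 1 → T ^ N = 1 := fun N h1 h2 => finish N h1 (by
      rcases hμ0 with rfl | rfl
      · exact h2
      · rwa [inv_pow, inv_eq_one] at h2)
    have hθQ : θ ≤ Q := Nat.pow_le_pow_right two_pos (by omega)
    have hQ1 : 1 ≤ Q := Nat.one_le_two_pow
    have sub1 : ∀ x : K, x ≠ 0 → x ^ Q = x → x ^ (Q - 1) = 1 := fun x hx h => by
      rw [pow_sub₀ x hx hQ1, h, pow_one, mul_inv_cancel₀ hx]
    have sub2 : ∀ x : K, x ≠ 0 → x ^ (Q + 1) = x ^ θ → x ^ (Q - θ + 1) = 1 := fun x hx h => by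
      rw [show Q - θ + 1 = Q + 1 - θ by omega, pow_sub₀ x hx (by omega), h, mul_inv_cancel₀ (pow_ne_zero _ hx)]
    obtain ⟨e, he⟩ : ∃ e : Bool, a = if e then l else l⁻¹ := by
      rcases hac with h | h
      exacts [⟨true, by simp [h]⟩, ⟨false, by simp [h]⟩]
    obtain ⟨f, hf⟩ : ∃ f : Bool, b = if f then μ0 else μ0⁻¹ := by
      rcases hbc with h | h
      exacts [⟨true, by simp [h]⟩, ⟨false, by simp [h]⟩]
    rcases pow_eq_of_relations hq hl hμ00 ha hb he hf with ⟨h1, h2⟩ | ⟨h1, h2⟩ | ⟨h1, h2⟩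
    · exact Or.inl (hN _ (sub1 l hl h1) (sub1 μ0 hμ00 h2))
    · exact Or.inr (Or.inr (hN _ (sub2 l hl h1) (sub2 μ0 hμ00 h2)))
    · exact Or.inr (Or.inl (hN _ h1 h2))
  have one_of_sq : ∀ x : K, x ^ 2 = 1 → x = 1 := fun x h => key x 1 (by rw [h, one_pow])
  rcases hν1c with a | a | a | a <;> rcases hν2c with b | b | b | b
  case inl.inr.inr.inl | inl.inr.inr.inr | inr.inl.inr.inr.inl | inr.inl.inr.inr.inr =>
    refine generic μ (Or.inl rfl) ν1 ν2 hν1 hν2 ?_ ?_
    · first | exact Or.inl a | exact Or.inr a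
    · first | exact Or.inl b | exact Or.inr b
  case inr.inr.inl.inl | inr.inr.inl.inr.inl | inr.inr.inr.inl | inr.inr.inr.inr.inl =>
    refine generic μ⁻¹ (Or.inr rfl) ν2 ν1 hν2 (by rw [inv_inv]; exact hν1) ?_ ?_
    · first | exact Or.inl b | exact Or.inr b
    · rw [inv_inv]; first | exact Or.inr a | exact Or.inl a
  all_goals left
  all_goals rw [a] at hν1 hlsq
  all_goals rw [b] at hν2 hlsq
  all_goals (try simp only [inv_pow] at hν1 hν2 hlsq)
  · -- equal first pair, same sign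
    have e : l = l ^ θ := key _ _ (by rw [hlsq, sq])
    refine dl ?_ (Or.inl e.symm)
    exact (mul_eq_left₀ hl).mp (hν1.trans e.symm)
  · have e : l = 1 := one_of_sq l (by rw [hlsq, mul_inv_cancel₀ (pow_ne_zero _ hl)])
    rw [e, one_mul, one_pow] at hν1
    exact trivial1 e hν1
  · have e : l = 1 := one_of_sq l (by rw [hlsq, inv_mul_cancel₀ (pow_ne_zero _ hl)])
    rw [e, one_mul, one_pow, inv_one] at hν1
    exact trivial1 e hν1
  · have e : l = (l ^ θ)⁻¹ := key _ _ (by rw [hlsq, sq])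
    refine dl ?_ (Or.inr ?_)
    · exact (mul_eq_left₀ hl).mp (hν1.trans e.symm)
    · conv_rhs => rw [e]
      rw [inv_inv]
  · have e : l = μ ^ θ := key _ _ (by rw [hlsq, sq])
    have hμ1 : μ = 1 := (mul_eq_left₀ hl).mp (hν1.trans e.symm)
    rw [hμ1, one_pow] at e
    exact trivial1 e hμ1
  · have e : l = 1 := one_of_sq l (by rw [hlsq, mul_inv_cancel₀ (pow_ne_zero _ hμ)])
    rw [e, one_mul] at hν1
    exact dμ e (Or.inl hν1.symm)
  · have e : l = 1 := one_of_sq l (by rw [hlsq, inv_mul_cancel₀ (pow_ne_zero _ hμ)])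
    rw [e, one_mul] at hν1
    refine dμ e (Or.inr ?_)
    conv_rhs => rw [hν1]
    rw [inv_inv]
  · have e : l = (μ ^ θ)⁻¹ := key _ _ (by rw [hlsq, sq])
    have hμ1 : μ = 1 := (mul_eq_left₀ hl).mp (hν1.trans e.symm)
    rw [hμ1, one_pow, inv_one] at e
    exact trivial1 e hμ1

/-- The Galois conjugates of an eigenvector of a fixed-point-free element form a basis. -/
theorem conjugates [IsAlgClosed K] (hTq : ∀ i j, T i j ^ 2 ^ (2 * m + 1) = T i j)
    (hT : T ^ ((2 ^ (2 * m + 1)) ^ 2 + 1) = 1) (hne : T ≠ 1) :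
    ∃ (l : K) (v : V4), v ≠ 0 ∧ T *ᵥ v = l • v ∧
      (∀ i : Fin 4, T *ᵥ (fun j => v j ^ (2 ^ (2 * m + 1)) ^ (i : ℕ)) =
        l ^ (2 ^ (2 * m + 1)) ^ (i : ℕ) • fun j => v j ^ (2 ^ (2 * m + 1)) ^ (i : ℕ)) ∧
      Function.Injective (fun i : Fin 4 => l ^ (2 ^ (2 * m + 1)) ^ (i : ℕ)) ∧
      LinearIndependent K (fun i : Fin 4 => fun j => v j ^ (2 ^ (2 * m + 1)) ^ (i : ℕ)) := by
  set Q := 2 ^ (2 * m + 1) with hQ
  have hQe : 2 ∣ Q := dvd_pow_self 2 (by omega)
  have hodd : Odd (Q ^ 2 + 1) := (even_iff_two_dvd.mpr (dvd_pow hQe two_ne_zero)).add_one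
  obtain ⟨l, v, -, hv, he⟩ := eigen_finish hodd hT ⊤ (LinearMap.ker (T - 1).mulVecLin) (fun x _ => trivial)
    (fun h => hne (Matrix.ext_iff_mulVec.mpr fun u => by
      have := h (Submodule.mem_top (x := u))
      simpa [LinearMap.mem_ker, Matrix.sub_mulVec, sub_eq_zero] using this))
  have hv0 : v ≠ 0 := fun e => hv (e ▸ Submodule.zero_mem _)
  have hl1 : l ≠ 1 := fun e => hv (by simp [LinearMap.mem_ker, Matrix.sub_mulVec, he, e])
  have hlN : l ^ (Q ^ 2 + 1) = 1 := by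
    have hpow : ∀ k, (T ^ k) *ᵥ v = l ^ k • v := by
      intro k
      induction k with
      | zero => simp
      | succ k ih => rw [pow_succ, ← Matrix.mulVec_mulVec, he, Matrix.mulVec_smul, ih, smul_smul, ← pow_succ']
    have := hpow (Q ^ 2 + 1)
    rw [hT, Matrix.one_mulVec] at this
    have e : (l ^ (Q ^ 2 + 1) - 1) • v = 0 := by rw [sub_smul, one_smul, ← this, sub_self]
    exact sub_eq_zero.mp ((smul_eq_zero.mp e).resolve_right hv0)
  have hT' : ∀ (i : ℕ) a b, T a b ^ Q ^ i = T a b := by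
    intro i
    induction i with
    | zero => simp
    | succ i ih => intro a b; rw [pow_succ, pow_mul, ih, hTq]
  have heig : ∀ i : ℕ, T *ᵥ (fun j => v j ^ Q ^ i) = l ^ Q ^ i • fun j => v j ^ Q ^ i := by
    intro i
    funext r
    have := congrArg (iterateFrobenius K 2 ((2 * m + 1) * i)) (congrFun he r)
    simp only [Matrix.mulVec, dotProduct, Pi.smul_apply, smul_eq_mul, map_sum, map_mul, iterateFrobenius_def] at this ⊢
    rw [pow_mul, ← hQ] at this
    rw [← this]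
    refine Finset.sum_congr rfl fun j _ => ?_
    congr 1
    exact (hT' i r j).symm
  have hinj : Function.Injective (fun i : Fin 4 => l ^ Q ^ (i : ℕ)) := by
    intro i j hij
    by_contra hij'
    wlog hlt : (i : ℕ) < j generalizing i j
    · exact this hij.symm (Ne.symm hij') (by omega)
    obtain ⟨d, hd⟩ := Nat.exists_eq_add_of_lt hlt
    simp only [] at hij
    rw [hd, show (i : ℕ) + d + 1 = (d + 1) + i by omega, pow_add Q, pow_mul,
      show Q ^ (i : ℕ) = 2 ^ ((2 * m + 1) * i) by rw [hQ, ← pow_mul]] at hij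
    have hd1 : l = l ^ Q ^ (d + 1) := pow_inj hij
    have hgcd : ∀ k, l ^ k = 1 → (Q ^ 2 + 1).gcd k = 1 → False := fun k h1 h2 => hl1 (by
      have := Nat.dvd_gcd (orderOf_dvd_of_pow_eq_one hlN) (orderOf_dvd_of_pow_eq_one h1)
      rw [h2, Nat.dvd_one] at this
      exact orderOf_eq_one_iff.mp this)
    have hl0 : l ≠ 0 := fun e => by rw [e, zero_pow (by omega)] at hlN; exact zero_ne_one hlN
    have hsq : l ^ Q ^ 2 = l⁻¹ := eq_inv_of_mul_eq_one_left (by rw [← pow_succ]; exact hlN)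
    have hQ1 : 1 ≤ Q := Nat.one_le_two_pow
    have hd3 : d + 1 = 1 ∨ d + 1 = 2 ∨ d + 1 = 3 := by omega
    rcases hd3 with e | e | e <;> rw [e] at hd1
    · rw [pow_one] at hd1
      refine hgcd (Q - 1) (by rw [pow_sub₀ l hl0 hQ1, ← hd1, pow_one, mul_inv_cancel₀ hl0]) ?_
      refine Nat.eq_one_of_dvd_coprimes (a := Q ^ 2 + 1) (b := Q - 1) ?_ (Nat.gcd_dvd_left _ _) (Nat.gcd_dvd_right _ _)
      exact coprime_sq_add_one_pred hQe
    · rw [hsq] at hd1
      exact hl1 (pow_inj (n := 1) (by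
        rw [one_pow, show (2 : ℕ) ^ 1 = 2 by norm_num, sq]
        nth_rw 1 [hd1]
        exact inv_mul_cancel₀ hl0))
    · rw [show Q ^ 3 = Q ^ 2 * Q by ring, pow_mul, hsq, inv_pow] at hd1
      refine hgcd (Q + 1) ?_ (coprime_sq_add_one_succ hQe)
      rw [pow_succ]
      nth_rw 2 [hd1]
      exact mul_inv_cancel₀ (pow_ne_zero _ hl0)
  refine ⟨l, v, hv0, he, fun i => heig i, hinj, ?_⟩
  refine Module.End.eigenvectors_linearIndependent' (T.mulVecLin) _ hinj _ fun i =>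
    ⟨Module.End.mem_eigenspace_iff.mpr (heig i), fun e => hv0 (funext fun j => (pow_eq_zero_iff (by positivity)).mp (congrFun e j))⟩

end Closed

end Cfsg.Agent.Suzuki
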