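import Cfsg.Agent.Lib.Suzuki.Partition
import Cfsg.Agent.Lib.Suzuki.LieSz

/-!
Actions of Suzuki groups in which non-identity elements fix at most two points.
-/

set_option autoImplicit false

open Matrix

namespace Cfsg.Agent.Suzuki

/-- A finite group whose centralisers partition it and are self-normalising is one of them. -/
theorem card_eq_of_ti {K : Type*} [Group K] [Finite K] {n : ℕ} (hn : 3 ≤ n) {h0 : K} (h01 : h0 ≠ 1)
    (hcard : ∀ h : K, h ≠ 1 → Nat.card ↥(Subgroup.centralizer ({h} : Set K)) = n)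
    (hti : ∀ h u : K, h ≠ 1 → u ≠ 1 → u ∈ Subgroup.centralizer ({h} : Set K) →
      Subgroup.centralizer ({u} : Set K) = Subgroup.centralizer {h})
    (hsn : ∀ h x : K, h ≠ 1 → x * h * x⁻¹ ∈ Subgroup.centralizer ({h} : Set K) →
      x ∈ Subgroup.centralizer ({h} : Set K)) : Nat.card K = n := by
  classical
  haveI : Fintype K := Fintype.ofFinite K
  haveI : ∀ C : Subgroup K, Fintype (K ⧸ C) := fun C => Fintype.ofFinite _
  let P : K → Finset K := fun h =>
    Finset.univ.filter fun e => e ≠ 1 ∧ ∃ x, x⁻¹ * e * x ∈ Subgroup.centralizer ({h} : Set K)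
  have size : ∀ h : K, h ≠ 1 → ∃ i, Nat.card K = i * n ∧ i * (n - 1) ≤ (P h).card := by
    intro h hh
    set C := Subgroup.centralizer ({h} : Set K) with hC
    refine ⟨C.index, by rw [← Subgroup.index_mul_card C, hcard h hh], ?_⟩
    let S : Finset ((K ⧸ C) × K) := Finset.univ ×ˢ ((Finset.univ.filter fun u => u ∈ C).erase 1)
    have hS : S.card = C.index * (n - 1) := by
      rw [Finset.card_product, Finset.card_univ, Finset.card_erase_of_mem (by simp), ← hcard h hh,
        Nat.card_eq_fintype_card, Fintype.card_subtype, Subgroup.index, Nat.card_eq_fintype_card]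
    rw [← hS]
    refine Finset.card_le_card_of_injOn (fun z => z.1.out * z.2 * z.1.out⁻¹) ?_ ?_
    · rintro ⟨c, u⟩ hz
      simp [S] at hz
      refine Finset.mem_filter.mpr ⟨Finset.mem_univ _, fun e => hz.2 ?_, c.out, ?_⟩
      · have := congrArg (fun w => c.out⁻¹ * w * c.out) e
        simpa [mul_assoc] using this
      · rw [← hC]
        simpa [mul_assoc] using hz.1
    · rintro ⟨c, u⟩ hz ⟨c', u'⟩ hz' e
      simp [S] at hz hz'
      simp only at e
      have he : c'.out⁻¹ * c.out * u * (c'.out⁻¹ * c.out)⁻¹ = u' := by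
        calc _ = c'.out⁻¹ * (c.out * u * c.out⁻¹) * c'.out := by group
          _ = _ := by rw [e]; group
      have hCu : Subgroup.centralizer ({u} : Set K) = C := hti h u hh hz.2 hz.1
      have hy := hsn u (c'.out⁻¹ * c.out) hz.2 (by rw [he, hCu]; exact hz'.1)
      rw [hCu] at hy
      have hcc : c' = c := by
        rw [← QuotientGroup.out_eq' c', ← QuotientGroup.out_eq' c, QuotientGroup.eq]
        exact hy
      subst hcc
      rw [mul_left_cancel (mul_right_cancel e)]
  have disj : ∀ a b : K, a ≠ 1 → b ≠ 1 → b ∉ P a → Disjoint (P a) (P b) := by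
    intro a b ha hb hb'
    refine Finset.disjoint_left.mpr fun e he he' => hb' ?_
    simp only [P, Finset.mem_filter, Finset.mem_univ, true_and] at he he' ⊢
    obtain ⟨he1, x, hx⟩ := he
    obtain ⟨-, y, hy⟩ := he'
    have hne : ∀ x : K, x⁻¹ * e * x ≠ 1 := fun x h => he1 (by
      have := congrArg (fun z => x * z * x⁻¹) h
      simpa [mul_assoc] using this)
    refine ⟨hb, y⁻¹ * x, ?_⟩
    have hmem : b ∈ Subgroup.centralizer ({y⁻¹ * e * y} : Set K) :=
      hti b _ hb (hne y) hy ▸ Subgroup.mem_centralizer_singleton_iff.mpr rfl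
    rw [← hti a _ ha (hne x) hx, Subgroup.mem_centralizer_singleton_iff]
    rw [Subgroup.mem_centralizer_singleton_iff] at hmem
    calc (y⁻¹ * x)⁻¹ * b * (y⁻¹ * x) * (x⁻¹ * e * x) = x⁻¹ * y * (b * (y⁻¹ * e * y)) * y⁻¹ * x := by group
      _ = x⁻¹ * y * ((y⁻¹ * e * y) * b) * y⁻¹ * x := by rw [hmem]
      _ = x⁻¹ * e * x * ((y⁻¹ * x)⁻¹ * b * (y⁻¹ * x)) := by group
  have hsub : ∀ a, P a ⊆ Finset.univ.erase 1 := fun a e he =>
    Finset.mem_erase.mpr ⟨(Finset.mem_filter.mp he).2.1, Finset.mem_univ _⟩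
  have htot : (Finset.univ.erase (1 : K)).card = Nat.card K - 1 := by
    rw [Finset.card_erase_of_mem (Finset.mem_univ _), Finset.card_univ, Nat.card_eq_fintype_card]
  obtain ⟨i, hi, hP⟩ := size h0 h01
  have hpos : 0 < Nat.card K := Nat.card_pos
  have hin : i * n = i * (n - 1) + i := by
    rw [← Nat.mul_succ, Nat.succ_eq_add_one, Nat.sub_add_cancel (by omega)]
  by_contra hne
  have hi2 : 2 ≤ i := by
    rcases i with _ | _ | i
    · omega
    · exact absurd (hi.trans (one_mul n)) hne
    · omega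
  have hnot : ¬ Finset.univ.erase (1 : K) ⊆ P h0 := by
    intro hs
    have h2 : (Finset.univ.filter fun u : K => u ∈ Subgroup.centralizer ({h0} : Set K)).card = n := by
      rw [← hcard h0 h01, Nat.card_eq_fintype_card, Fintype.card_subtype]
    have h3 : (P h0).card ≤ i * (n - 1) := by
      have hi' : i = (Subgroup.centralizer ({h0} : Set K)).index := by
        refine Nat.eq_of_mul_eq_mul_right (show 0 < n by omega) ?_
        rw [← hi, ← hcard h0 h01, Subgroup.index_mul_card]
      set C := Subgroup.centralizer ({h0} : Set K)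
      calc (P h0).card ≤ (((Finset.univ : Finset (K ⧸ C)) ×ˢ ((Finset.univ.filter fun u => u ∈ C).erase 1)).image
            fun z => z.1.out * z.2 * z.1.out⁻¹).card := by
            refine Finset.card_le_card fun e he => ?_
            obtain ⟨he1, x, hx⟩ := (Finset.mem_filter.mp he).2
            obtain ⟨c, hc⟩ := QuotientGroup.mk_out_eq_mul C x
            refine Finset.mem_image.mpr ⟨(QuotientGroup.mk x, _), Finset.mem_product.mpr ⟨Finset.mem_univ _,
              Finset.mem_erase.mpr ⟨?_, Finset.mem_filter.mpr ⟨Finset.mem_univ _,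
                C.mul_mem (C.mul_mem (C.inv_mem c.2) hx) c.2⟩⟩⟩, ?_⟩
            · intro h1
              refine he1 ?_
              have := congrArg (fun w => x * c.1 * w * (c.1⁻¹ * x⁻¹)) h1
              simpa [mul_assoc] using this
            · simp only [hc]; group
        _ ≤ _ := Finset.card_image_le
        _ = i * (n - 1) := by
          rw [Finset.card_product, Finset.card_univ, Finset.card_erase_of_mem (by simp), h2, hi', Subgroup.index,
            Nat.card_eq_fintype_card]
    have := (Finset.card_le_card hs).trans h3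
    omega
  obtain ⟨b, hb, hb'⟩ := Finset.not_subset.mp hnot
  obtain ⟨j, hj, hQ⟩ := size b (Finset.mem_erase.mp hb).1
  have hle := Finset.card_le_card (Finset.union_subset (hsub h0) (hsub b))
  rw [Finset.card_union_of_disjoint (disj h0 b h01 (Finset.mem_erase.mp hb).1 hb'), htot] at hle
  have hij : j = i := Nat.eq_of_mul_eq_mul_right (show 0 < n by omega) (hj.symm.trans hi)
  subst hij
  have := Nat.mul_le_mul_left j (show 1 + 1 ≤ n - 1 by omega)
  omega

variable {F : Type*} [Field F] [Fintype F] {m : ℕ}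

local notation "Q" => 2 ^ (2 * m + 1)

namespace SzHyp

variable (hs : SzHyp F m)

include hs

theorem fixity_two {Ω : Type*} [Finite Ω] [MulAction ↥(Cfsg.Sz F m) Ω] [MulAction.IsPretransitive ↥(Cfsg.Sz F m) Ω]
    (hfix : ∀ g : ↥(Cfsg.Sz F m), g ≠ 1 → Nat.card (MulAction.fixedBy Ω g) ≤ 2)
    (hex : ∃ g : ↥(Cfsg.Sz F m), g ≠ 1 ∧ Nat.card (MulAction.fixedBy Ω g) = 2) :
    (Nat.card Ω = Q ^ 2 + 1 ∧ MulAction.IsMultiplyPretransitive ↥(Cfsg.Sz F m) Ω 2) ∨
      (Nat.card Ω = Q ^ 2 * (Q ^ 2 + 1) ∧ ∀ α : Ω, Nat.card (MulAction.stabilizer ↥(Cfsg.Sz F m) α) = Q - 1) := by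
  obtain ⟨-, hθ, -, h8, -, hab⟩ := hs.arith
  -- at most two fixed points
  have two : ∀ g : ↥(Cfsg.Sz F m), g ≠ 1 → ∀ a b c : Ω, g • a = a → g • b = b → g • c = c → a = b ∨ b = c ∨ a = c := by
    intro g hg a b c ha hb hc
    classical
    by_contra h
    push Not at h
    haveI : Fintype Ω := Fintype.ofFinite Ω
    have := hfix g hg
    rw [Nat.card_eq_fintype_card] at this
    have h3 : ({a, b, c} : Finset Ω).card ≤ 2 := by
      refine le_trans ?_ this
      rw [← Set.toFinset_card]
      exact Finset.card_le_card fun x hx => by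
        simp only [Finset.mem_insert, Finset.mem_singleton] at hx
        rw [Set.mem_toFinset]
        rcases hx with rfl | rfl | rfl <;> assumption
    rw [Finset.card_insert_of_notMem (by simp [h.1, h.2.2]), Finset.card_insert_of_notMem (by simp [h.2.1]),
      Finset.card_singleton] at h3
    omega
  -- whatever keeps the fixed points squares into the stabiliser
  have sqfix : ∀ (g x : ↥(Cfsg.Sz F m)), g ≠ 1 → ∀ a : Ω, g • a = a → g • (x • a) = x • a →
      g • (x • (x • a)) = x • (x • a) → x • (x • a) = a := by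
    intro g x hg a h0 h1 h2
    rcases two g hg a (x • a) (x • (x • a)) h0 h1 h2 with e | e | e
    · rw [← e, ← e]
    · rw [← MulAction.injective x e, MulAction.injective x e |>.symm]
    · exact e.symm
  have odd_fix : ∀ (x : ↥(Cfsg.Sz F m)) (a : Ω), Odd (orderOf x) → x • (x • a) = a → x • a = a := by
    intro x a ho h2
    obtain ⟨k, hk⟩ := ho
    have h2' : (x ^ 2) • a = a := by rw [sq, mul_smul]; exact h2
    have hk2 : ∀ j : ℕ, ((x ^ 2) ^ j) • a = a := fun j => by
      induction j with
      | zero => rw [pow_zero, one_smul]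
      | succ j ih => rw [pow_succ, mul_smul, h2', ih]
    have := congrArg (fun z => z • a) (pow_orderOf_eq_one x)
    simp only [one_smul] at this
    rwa [hk, pow_succ', mul_smul, pow_mul, hk2] at this
  have cfix : ∀ (g x : ↥(Cfsg.Sz F m)), Commute g x → ∀ a : Ω, g • a = a → g • (x • a) = x • a := fun g x hc a ha => by
    rw [← mul_smul, hc.eq, mul_smul, ha]
  have odd_comm : ∀ (g x : ↥(Cfsg.Sz F m)), g ≠ 1 → Odd (orderOf x) → Commute g x → ∀ a : Ω, g • a = a → x • a = a :=
    fun g x hg ho hc a ha => odd_fix x a ho (sqfix g x hg a ha (cfix g x hc a ha) (cfix g x hc _ (cfix g x hc a ha)))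
  have odd_of : ∀ (x : ↥(Cfsg.Sz F m)) (k : ℕ), x ^ k = 1 → Odd k → Odd (orderOf x) := fun x k h hk =>
    Odd.of_dvd_nat hk (orderOf_dvd_of_pow_eq_one h)
  have hQodd : Odd (Q ^ 2 + 1) :=
    (((even_iff_two_dvd.mpr (dvd_pow_self 2 (by omega)) : Even Q)).pow_of_ne_zero two_ne_zero).add_one
  by_cases heven : ∃ (a : Ω) (z : ↥(Cfsg.Sz F m)), z ≠ 1 ∧ z * z = 1 ∧ z • a = a
  · -- a point stabiliser of even order
    left
    obtain ⟨a0, z, hz1, hz2, hza⟩ := heven
    have huni : hs.Uni z := by
      have hodd : ¬ Odd (orderOf z) := by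
        rw [orderOf_eq_prime (by rw [sq]; exact hz2) hz1]
        decide
      rcases hs.kinds z with e | e | e | e
      · exact absurd e hz1
      · exact absurd (hs.elliptic_of_no_fix e).2.1 hodd
      · exact absurd (hs.spl_odd e) hodd
      · exact e
    obtain ⟨k, a, b, hab'⟩ := huni
    set α := k • a0 with hα
    have ha : a = 0 := by
      have h := hs.sq_tS a b
      rw [← hab', show k * z * k⁻¹ * (k * z * k⁻¹) = k * (z * z) * k⁻¹ by group, hz2, mul_one, mul_inv_cancel] at h
      rcases mul_eq_zero.mp (hs.tS_eq_one.mp h.symm).2 with e | e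
      · exact sg_eq_zero.mp e
      · exact e
    subst ha
    have hb : hs.tS 0 b ≠ 1 := fun e => hz1 (by
      have := congrArg (fun w => k⁻¹ * w * k) (hab'.trans e)
      simpa [mul_assoc] using this)
    have hzα : hs.tS 0 b • α = α := by
      rw [← hab', hα, mul_smul, mul_smul, inv_smul_smul, hza]
    have hcT : ∀ c d, Commute (hs.tS 0 b) (hs.tS c d) := fun c d => by
      show hs.tS 0 b * hs.tS c d = hs.tS c d * hs.tS 0 b
      rw [hs.tS_mul, hs.tS_mul]
      simp [sg_zero, add_comm]
    -- the central elements fix whatever one of them fixes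
    have hZ : ∀ p : Ω, hs.tS 0 b • p = p → ∀ d, hs.tS 0 d • p = p := by
      intro p hp d
      obtain ⟨c, hc⟩ := hs.exists_sgmul d
      rw [← hc, ← hs.sq_tS c 0, mul_smul]
      exact sqfix _ _ hb p hp (cfix _ _ (hcT c 0) p hp) (cfix _ _ (hcT c 0) _ (cfix _ _ (hcT c 0) p hp))
    have hkeepD : ∀ (s : Fˣ) (p : Ω), hs.tS 0 b • p = p → hs.tS 0 b • (hs.dS s • p) = hs.dS s • p := by
      intro s p hp
      obtain ⟨d, hd⟩ : ∃ d, (hs.dS s)⁻¹ * hs.tS 0 b * hs.dS s = hs.tS 0 d := by
        rw [hs.dS_inv, show hs.dS s = (hs.dS s⁻¹)⁻¹ by rw [hs.dS_inv, inv_inv]]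
        exact ⟨_, hs.conj_dS_zero s⁻¹ b⟩
      calc hs.tS 0 b • (hs.dS s • p) = hs.dS s • (((hs.dS s)⁻¹ * hs.tS 0 b * hs.dS s) • p) := by
            simp only [mul_smul, smul_inv_smul]
        _ = _ := by rw [hd, hZ p hp d]
    have hD : ∀ (s : Fˣ) (p : Ω), hs.tS 0 b • p = p → hs.dS s • p = p := fun s p hp =>
      odd_fix _ p (Odd.of_dvd_nat (hs.odd_of_dvd dvd_rfl) (orderOf_dvd_of_pow_eq_one (by
        rw [hs.dS_pow, ← hs.card_units, pow_card_eq_one']; exact map_one hs.dHom)))
        (sqfix _ _ hb p hp (hkeepD s p hp) (hkeepD s _ (hkeepD s p hp)))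
    have hT : ∀ c d, hs.tS c d ∈ MulAction.stabilizer ↥(Cfsg.Sz F m) α := by
      obtain ⟨s, hs1⟩ := hs.exists_unit
      refine hs.tS_mem_of_comm _ hs1 fun c d => ?_
      rw [MulAction.mem_stabilizer_iff, mul_smul, mul_smul, mul_smul]
      have h1 : hs.tS 0 b • ((hs.tS c d)⁻¹ • α) = (hs.tS c d)⁻¹ • α := cfix _ _ (hcT c d).inv_right α hzα
      have h2 : (hs.dS s)⁻¹ • ((hs.tS c d)⁻¹ • α) = (hs.tS c d)⁻¹ • α := by
        rw [hs.dS_inv]; exact hD _ _ h1
      rw [h2, smul_inv_smul, hD s α hzα]
    have hle : MulAction.stabilizer (↥(Cfsg.Sz F m)) (Cfsg.suzukiPointInfinity F) ≤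
        MulAction.stabilizer ↥(Cfsg.Sz F m) α := by
      intro g hg
      obtain ⟨c, d, s, rfl⟩ := hs.decompB hg
      exact mul_mem (hT c d) (hD s α hzα)
    have hne : MulAction.stabilizer ↥(Cfsg.Sz F m) α ≠ ⊤ := by
      intro htop
      obtain ⟨g, -, hg2⟩ := hex
      haveI : Subsingleton Ω := ⟨fun p r => by
        obtain ⟨x, rfl⟩ := MulAction.exists_smul_eq ↥(Cfsg.Sz F m) α p
        obtain ⟨y, rfl⟩ := MulAction.exists_smul_eq ↥(Cfsg.Sz F m) α r
        rw [MulAction.mem_stabilizer_iff.mp (htop ▸ Subgroup.mem_top x : x ∈ MulAction.stabilizer _ α),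
          MulAction.mem_stabilizer_iff.mp (htop ▸ Subgroup.mem_top y : y ∈ MulAction.stabilizer _ α)]⟩
      have := Finite.card_le_one_iff_subsingleton.mpr (inferInstance : Subsingleton (MulAction.fixedBy Ω g))
      omega
    have heq : MulAction.stabilizer ↥(Cfsg.Sz F m) α =
        MulAction.stabilizer (↥(Cfsg.Sz F m)) (Cfsg.suzukiPointInfinity F) := by
      rcases lt_or_eq_of_le hle with h | h
      · exact absurd (hs.isCoatom_stab.2 _ h) hne
      · exact h.symm
    refine ⟨?_, ?_⟩
    · have h := MulAction.index_stabilizer_of_transitive ↥(Cfsg.Sz F m) α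
      rw [heq, MulAction.index_stabilizer, hs.orbit_infty, ← Nat.card_coe_set_eq, card_ovoid, hs.card_eq] at h
      exact h.symm
    · choose f hf using fun p : Ω => MulAction.exists_smul_eq ↥(Cfsg.Sz F m) α p
      let pt : Ω → ↥(Cfsg.suzukiOvoid F m) := fun p => f p • infPt F m
      have hwd : ∀ x y : ↥(Cfsg.Sz F m), x • α = y • α ↔ x • infPt F m = y • infPt F m := by
        intro x y
        have e1 : x • α = y • α ↔ (y⁻¹ * x) • α = α := by rw [mul_smul, inv_smul_eq_iff]
        have e2 : x • infPt F m = y • infPt F m ↔ (y⁻¹ * x) • infPt F m = infPt F m := by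
          rw [mul_smul, inv_smul_eq_iff]
        rw [e1, e2]
        constructor <;> intro h
        · exact Subtype.ext (MulAction.mem_stabilizer_iff.mp (heq ▸ (MulAction.mem_stabilizer_iff.mpr h)))
        · exact MulAction.mem_stabilizer_iff.mp (heq.symm ▸ (MulAction.mem_stabilizer_iff.mpr (congrArg Subtype.val h)))
      have hpt : ∀ p r, pt p = pt r → p = r := fun p r h => by
        rw [← hf p, ← hf r]; exact (hwd _ _).mpr h
      have hequiv : ∀ (x : ↥(Cfsg.Sz F m)) p, pt (x • p) = x • pt p := fun x p => by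
        show f (x • p) • infPt F m = x • (f p • infPt F m)
        rw [← mul_smul]
        exact (hwd _ _).mp (by rw [hf, mul_smul, hf])
      rw [MulAction.is_two_pretransitive_iff]
      intro p r u v hpr huv
      obtain ⟨x, hx1, hx2⟩ := MulAction.is_two_pretransitive_iff.mp hs.isMultiplyPretransitive
        (fun h => hpr (hpt p r h)) (fun h => huv (hpt u v h))
      exact ⟨x, hpt _ _ ((hequiv x p).trans hx1), hpt _ _ ((hequiv x r).trans hx2)⟩
  -- point stabilisers of odd order
  right
  push Not at heven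
  have hodd : ∀ (a : Ω) (g : ↥(Cfsg.Sz F m)), g • a = a → Odd (orderOf g) := by
    intro a g hga
    by_contra he
    obtain ⟨j, hj⟩ := Nat.not_odd_iff_even.mp he
    have hpos := orderOf_pos g
    have hfa : ∀ n : ℕ, (g ^ n) • a = a := fun n => by
      induction n with
      | zero => rw [pow_zero, one_smul]
      | succ n ih => rw [pow_succ, mul_smul, hga, ih]
    refine heven a (g ^ j) (fun h => ?_) ?_ (hfa j)
    · have := Nat.le_of_dvd (by omega) (orderOf_dvd_of_pow_eq_one h)
      omega
    · rw [← pow_add, ← hj, pow_orderOf_eq_one]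
  have spl : ∀ (a : Ω) (g : ↥(Cfsg.Sz F m)), g ≠ 1 → g • a = a → hs.Spl g := by
    intro a g hg hga
    rcases hs.kinds g with e | e | e | e
    · exact absurd e hg
    · exfalso
      set C := Subgroup.centralizer ({g} : Set ↥(Cfsg.Sz F m)) with hC
      set N := Subgroup.normalizer (C : Set ↥(Cfsg.Sz F m)) with hN
      have hCfix : ∀ u ∈ C, ∀ p : Ω, g • p = p → u • p = p := by
        intro u hu p hp
        rcases eq_or_ne u 1 with rfl | hu1
        · exact one_smul _ p
        · exact odd_comm g u hg (hs.elliptic_of_no_fix (hs.centralizer_eq e hu hu1).1).2.1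
            (Subgroup.mem_centralizer_singleton_iff.mp hu).symm p hp
      have hNfix : ∀ x ∈ N, ∀ p : Ω, g • p = p → g • (x • p) = x • p := by
        intro x hx p hp
        have hmem : x⁻¹ * g * x ∈ C := (Subgroup.mem_normalizer_iff.mp hx _).mpr (by
          rw [show x * (x⁻¹ * g * x) * x⁻¹ = g by group]
          exact Subgroup.mem_centralizer_singleton_iff.mpr rfl)
        calc g • (x • p) = x • ((x⁻¹ * g * x) • p) := by simp only [mul_smul, smul_inv_smul]
          _ = x • p := by rw [hCfix _ hmem p hp]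
      haveI := Fact.mk Nat.prime_two
      obtain ⟨P, hP⟩ := Sylow.exists_subgroup_card_pow_prime 2
        (show 2 ^ 2 ∣ Nat.card ↥N from hs.normalizer_ell_four_dvd e)
      -- two elements of the four-group outside the stabiliser multiply into it
      have key : ∀ x : ↥P, x ≠ 1 → (x.1 : ↥(Cfsg.Sz F m)) • a ≠ a := by
        intro x hx hxa
        have h4 : orderOf (x.1 : ↥(Cfsg.Sz F m)) ∣ 2 ^ 2 := by
          rw [Subgroup.orderOf_coe, Subgroup.orderOf_coe, ← hP]
          exact orderOf_dvd_natCard x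
        have ho := hodd a _ hxa
        obtain ⟨j, hj1, hj⟩ := (Nat.dvd_prime_pow Nat.prime_two).mp h4
        rcases Nat.eq_zero_or_pos j with rfl | hjp
        · exact hx (Subtype.ext (Subtype.ext (orderOf_eq_one_iff.mp hj)))
        · rw [hj] at ho
          exact (Nat.not_even_iff_odd.mpr ho) ((Nat.even_pow' hjp.ne').mpr even_two)
      obtain ⟨x, hx⟩ : ∃ x : ↥P, x ≠ 1 := by
        haveI : Nontrivial ↥P := Finite.one_lt_card_iff_nontrivial.mp (by rw [hP]; norm_num)
        exact exists_ne 1
      obtain ⟨y, hy1, hyx⟩ : ∃ y : ↥P, y ≠ 1 ∧ y ≠ x := by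
        by_contra hc
        push Not at hc
        classical
        haveI : Fintype ↥P := Fintype.ofFinite _
        have : Fintype.card ↥P ≤ 2 := le_trans
          (Finset.card_le_card (show Finset.univ ⊆ ({1, x} : Finset ↥P) from fun z _ => by
            by_cases h : z = 1
            · simp [h]
            · simp [hc z h])) Finset.card_le_two
        rw [← Nat.card_eq_fintype_card, hP] at this
        norm_num at this
      have hxx := key x hx
      have hyy := key y hy1
      have gx := hNfix _ x.1.2 a hga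
      have gy := hNfix _ y.1.2 a hga
      rcases two g hg a _ _ hga gx gy with h | h | h
      · exact hxx h.symm
      · refine key (y⁻¹ * x) (fun h1 => hyx (inv_mul_eq_one.mp h1)) ?_
        show ((y.1.1)⁻¹ * x.1.1) • a = a
        rw [mul_smul, inv_smul_eq_iff]
        exact h
      · exact hyy h.symm
    · exact e
    · exfalso
      have := hodd a g hga
      have h4 : orderOf g ∣ 2 ^ 2 := orderOf_dvd_of_pow_eq_one (hs.two_pow_of_uni e)
      obtain ⟨j, hj1, hj⟩ := (Nat.dvd_prime_pow Nat.prime_two).mp h4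
      rcases Nat.eq_zero_or_pos j with rfl | hjp
      · exact hg (orderOf_eq_one_iff.mp hj)
      · rw [hj] at this
        exact (Nat.not_even_iff_odd.mpr this) ((Nat.even_pow' hjp.ne').mpr even_two)
  obtain ⟨g, hg, hg2⟩ := hex
  obtain ⟨⟨a0, ha0⟩⟩ : Nonempty (MulAction.fixedBy Ω g) := (Nat.card_pos_iff.mp (by omega)).1
  set H := MulAction.stabilizer ↥(Cfsg.Sz F m) a0 with hH
  have hmemH : ∀ {h : ↥H}, h ≠ 1 → hs.Spl h.1 := fun {h} hh =>
    spl a0 h.1 (fun e => hh (Subtype.ext e)) h.2
  have hfull : ∀ {h : ↥H}, h ≠ 1 → ∀ z ∈ Subgroup.centralizer ({h.1} : Set ↥(Cfsg.Sz F m)), z ∈ H := by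
    intro h hh z hz
    obtain ⟨-, hc⟩ := hs.spl_centralizer (hmemH hh)
    refine odd_comm h.1 z (fun e => hh (Subtype.ext e)) (hs.odd_of_dvd ?_)
      (Subgroup.mem_centralizer_singleton_iff.mp hz).symm a0 h.2
    rw [← hc]
    exact (Subgroup.orderOf_mk z hz) ▸ orderOf_dvd_natCard (⟨z, hz⟩ : ↥(Subgroup.centralizer ({h.1} : Set ↥(Cfsg.Sz F m))))
  have hsub : ∀ {h : ↥H}, h ≠ 1 → Subgroup.centralizer ({h} : Set ↥H) =
      (Subgroup.centralizer ({h.1} : Set ↥(Cfsg.Sz F m))).subgroupOf H := by
    intro h _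
    ext z
    rw [Subgroup.mem_subgroupOf, Subgroup.mem_centralizer_singleton_iff, Subgroup.mem_centralizer_singleton_iff,
      Subtype.ext_iff]
    rfl
  have hcardH : Nat.card ↥H = Q - 1 := by
    refine card_eq_of_ti (by omega) (h0 := ⟨g, ha0⟩) (fun e => hg (congrArg Subtype.val e)) ?_ ?_ ?_
    · intro h hh
      rw [hsub hh, Nat.card_congr (Subgroup.subgroupOfEquivOfLe (fun z hz => hfull hh z hz)).toEquiv]
      exact (hs.spl_centralizer (hmemH hh)).2
    · intro h u hh hu huh
      rw [hsub hh, Subgroup.mem_subgroupOf] at huh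
      rw [hsub hh, hsub hu]
      congr 1
      obtain ⟨hcy, hch⟩ := hs.spl_centralizer (hmemH hh)
      refine (Subgroup.eq_of_le_of_card_ge ?_ (by rw [hch, (hs.spl_centralizer (hmemH hu)).2])).symm
      intro z hz
      letI := IsCyclic.commGroup (α := ↥(Subgroup.centralizer ({h.1} : Set ↥(Cfsg.Sz F m))))
      exact Subgroup.mem_centralizer_singleton_iff.mpr
        (congrArg Subtype.val (mul_comm (⟨z, hz⟩ : ↥(Subgroup.centralizer ({h.1} : Set ↥(Cfsg.Sz F m)))) ⟨u.1, huh⟩))
    · intro h x hh hx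
      rw [hsub hh, Subgroup.mem_subgroupOf] at hx ⊢
      obtain ⟨k, s, hs1, hk⟩ := hmemH hh
      have hh1 : h.1 ≠ 1 := fun e => hh (Subtype.ext e)
      have hxo : Odd (orderOf x.1) := hodd a0 _ x.2
      have hcon : Commute (x.1 * h.1 * x.1⁻¹) h.1 := Subgroup.mem_centralizer_singleton_iff.mp hx
      have hne : x.1 * h.1 * x.1⁻¹ ≠ 1 := fun e => hh1 (by
        have := congrArg (fun z => x.1⁻¹ * z * x.1) e
        simpa [mul_assoc] using this)
      -- x permutes the two points of the ovoid fixed by h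
      have hperm : ∀ p : ↥(Cfsg.suzukiOvoid F m), h.1 • p = p → h.1 • (x.1 • p) = x.1 • p := fun p hp =>
        hs.fix_of_commute (hodd a0 _ h.2) hne hcon.symm (by
          rw [mul_smul, mul_smul, inv_smul_smul, hp])
      have hxfix : ∀ p : ↥(Cfsg.suzukiOvoid F m), h.1 • p = p → x.1 • p = p := by
        intro p hp
        rcases hs.fix_le hh1 hp (hperm p hp) (hperm _ (hperm p hp)) with e | e | e
        · exact e.symm
        · exact MulAction.injective x.1 e.symm
        · obtain ⟨j, hj⟩ := hxo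
          have h2' : (x.1 ^ 2) • p = p := by rw [sq, mul_smul]; exact e.symm
          have hk2 : ∀ i : ℕ, ((x.1 ^ 2) ^ i) • p = p := fun i => by
            induction i with
            | zero => rw [pow_zero, one_smul]
            | succ i ih => rw [pow_succ, mul_smul, h2', ih]
          have := congrArg (fun z => z • p) (pow_orderOf_eq_one x.1)
          simp only [one_smul] at this
          rwa [hj, pow_succ', mul_smul, pow_mul, hk2] at this
      have hd0 : hs.dS s • infPt F m = infPt F m := Subtype.ext (dG_infty s)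
      have hd1 : hs.dS s • finPt m (0 : F) 0 = finPt m (0 : F) 0 := Subtype.ext (by
        rw [hs.coe_smul', Subgroup.smul_def]
        show dG m s • ptSz m (0 : F) 0 = _
        rw [hs.dG_point, mul_zero, mul_zero]
        rfl)
      rw [← hk, mul_smul, mul_smul, ← eq_inv_smul_iff] at hd0 hd1
      have f0 : (k * x.1 * k⁻¹) • infPt F m = infPt F m := by
        rw [mul_smul, mul_smul, hxfix _ hd0, smul_inv_smul]
      have f1 : (k * x.1 * k⁻¹) • finPt m (0 : F) 0 = finPt m (0 : F) 0 := by
        rw [mul_smul, mul_smul, hxfix _ hd1, smul_inv_smul]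
      obtain ⟨t, et⟩ := hs.exists_dG (k * x.1 * k⁻¹).2 (congrArg Subtype.val f0) (congrArg Subtype.val f1)
      rw [Subgroup.mem_centralizer_singleton_iff]
      have ext : hs.dS t = k * x.1 * k⁻¹ := Subtype.ext et.symm
      calc x.1 * h.1 = k⁻¹ * ((k * x.1 * k⁻¹) * (k * h.1 * k⁻¹)) * k := by group
        _ = k⁻¹ * ((k * h.1 * k⁻¹) * (k * x.1 * k⁻¹)) * k := by rw [hk, ← ext, ← hs.dS_mul, ← hs.dS_mul, mul_comm t]
        _ = h.1 * x.1 := by group
  have hΩ : Nat.card Ω = Q ^ 2 * (Q ^ 2 + 1) := by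
    have h := Subgroup.card_mul_index H
    rw [hH, MulAction.index_stabilizer_of_transitive, ← hH, hcardH, hs.card_sz] at h
    exact Nat.eq_of_mul_eq_mul_left (show 0 < Q - 1 by omega) (h.trans (by ring))
  refine ⟨hΩ, fun α => ?_⟩
  have h := Subgroup.card_mul_index (MulAction.stabilizer ↥(Cfsg.Sz F m) α)
  rw [MulAction.index_stabilizer_of_transitive, hΩ, hs.card_sz] at h
  exact Nat.eq_of_mul_eq_mul_right (show 0 < Q ^ 2 * (Q ^ 2 + 1) by positivity) (h.trans (by ring))

end SzHyp

end Cfsg.Agent.Suzuki
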