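import Cfsg.Agent.Lib.Suzuki.Basic
import Mathlib.Algebra.Polynomial.Roots

/-!
The stabiliser of the point set: generators, the two-point stabiliser and the decomposition.
-/

set_option autoImplicit false

open Matrix
open scoped Pointwise

namespace Cfsg.Agent.Suzuki

variable {F : Type*} [Field F] [Fintype F] {m : ℕ}

omit [Fintype F] in
theorem mem_sz_of {g : Matrix.SpecialLinearGroup (Fin 4) F} [Finite F]
    (h : ∀ p ∈ Cfsg.suzukiOvoid F m, g • p ∈ Cfsg.suzukiOvoid F m) : g ∈ Cfsg.Sz F m := by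
  haveI : Finite (Projectivization F (Fin 4 → F)) := Quotient.finite _
  rw [MulAction.mem_stabilizer_iff]
  refine Set.eq_of_subset_of_ncard_le ?_ ?_ (Set.toFinite _)
  · rintro _ ⟨p, hp, rfl⟩; exact h p hp
  · rw [Set.ncard_smul_set]

omit [Fintype F] in
theorem smul_mem {g : Matrix.SpecialLinearGroup (Fin 4) F} (hg : g ∈ Cfsg.Sz F m)
    {p : Projectivization F (Fin 4 → F)} (hp : p ∈ Cfsg.suzukiOvoid F m) : g • p ∈ Cfsg.suzukiOvoid F m := by
  have h : g • Cfsg.suzukiOvoid F m = Cfsg.suzukiOvoid F m := hg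
  rw [← h]
  exact Set.smul_mem_smul_set hp

omit [Fintype F] in
theorem tG_infty (a b : F) : tG m a b • Cfsg.suzukiPointInfinity F = Cfsg.suzukiPointInfinity F :=
  smul_eq_of_mulVec _ _ 1 (tMat_infty a b)

omit [Fintype F] in
theorem dG_infty (s : Fˣ) : dG m s • Cfsg.suzukiPointInfinity F = Cfsg.suzukiPointInfinity F :=
  smul_eq_of_mulVec _ _ (sg m (s : F) * (s : F) ^ 2) (by
    ext i; fin_cases i <;> simp [dG, dMat, Matrix.mulVec, dotProduct, Fin.sum_univ_succ])

omit [Fintype F] in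
theorem wG_infty : wG F • Cfsg.suzukiPointInfinity F = ptSz m (0 : F) 0 :=
  smul_eq_of_mulVec _ _ 1 (by
    rw [vSz_zero]
    ext i; fin_cases i <;> simp [wG, wMat, Matrix.mulVec, dotProduct, Fin.sum_univ_succ])

omit [Fintype F] in
theorem pointZero_eq : Cfsg.suzukiPointZero F = ptSz m (0 : F) 0 := by
  simp only [Cfsg.suzukiPointZero, ptSz, vSz_zero]

omit [Fintype F] in
theorem wG_mul_wG : wG F * wG F = 1 := by
  apply Subtype.ext
  simp only [Matrix.SpecialLinearGroup.coe_mul, Matrix.SpecialLinearGroup.coe_one]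
  ext i j; fin_cases i <;> fin_cases j <;> simp [wG, wMat, Matrix.mul_apply, Fin.sum_univ_succ]

omit [Fintype F] in
theorem wG_zero : wG F • ptSz m (0 : F) 0 = Cfsg.suzukiPointInfinity F := by
  rw [← wG_infty (m := m), smul_smul, wG_mul_wG, one_smul]

namespace SzHyp

variable (hs : SzHyp F m)

include hs

theorem tG_point (a b x y : F) : tG m a b • ptSz m x y = ptSz m (x + a) (y + sg m a * x + b) :=
  smul_eq_of_mulVec _ _ 1 (hs.tMat_point a b x y)

theorem dG_point (s : Fˣ) (x y : F) :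
    dG m s • ptSz m x y = ptSz m ((s : F) ^ 2 * x) (sg m (s : F) ^ 2 * (s : F) ^ 2 * y) :=
  smul_eq_of_mulVec _ _ _ (hs.dMat_point s.ne_zero x y)

theorem wG_point {x y : F} (hf : fSz m x y ≠ 0) :
    wG F • ptSz m x y = ptSz m (y / fSz m x y) (x / fSz m x y) :=
  smul_eq_of_mulVec _ _ _ (hs.wMat_point hf)

theorem wG_point_cases (x y : F) : (x = 0 ∧ y = 0) ∨ fSz m x y ≠ 0 := by
  by_cases h : fSz m x y = 0
  exacts [Or.inl (hs.fSz_eq_zero h), Or.inr h]

theorem tG_mem (a b : F) : tG m a b ∈ Cfsg.Sz F m := mem_sz_of fun p hp => by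
  rcases mem_ovoid.mp hp with rfl | ⟨x, y, rfl⟩
  · rwa [tG_infty]
  · rw [hs.tG_point]; exact mem_ovoid.mpr (Or.inr ⟨_, _, rfl⟩)

theorem dG_mem (s : Fˣ) : dG m s ∈ Cfsg.Sz F m := mem_sz_of fun p hp => by
  rcases mem_ovoid.mp hp with rfl | ⟨x, y, rfl⟩
  · rwa [dG_infty]
  · rw [hs.dG_point]; exact mem_ovoid.mpr (Or.inr ⟨_, _, rfl⟩)

theorem wG_mem : wG F ∈ Cfsg.Sz F m := mem_sz_of fun p hp => by
  rcases mem_ovoid.mp hp with rfl | ⟨x, y, rfl⟩
  · rw [wG_infty (m := m)]; exact mem_ovoid.mpr (Or.inr ⟨_, _, rfl⟩)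
  · rcases hs.wG_point_cases x y with ⟨rfl, rfl⟩ | hf
    · rw [wG_zero]; exact mem_ovoid.mpr (Or.inl rfl)
    · rw [hs.wG_point hf]; exact mem_ovoid.mpr (Or.inr ⟨_, _, rfl⟩)

theorem tG_mul (a b c d : F) : tG m a b * tG m c d = tG m (a + c) (b + d + sg m a * c) := by
  apply Subtype.ext
  simp only [Matrix.SpecialLinearGroup.coe_mul, Matrix.SpecialLinearGroup.coe_one]
  have hf := hs.fSz_add a b c d
  rw [show c + a = a + c by ring, show d + sg m a * c + b = b + d + sg m a * c by ring] at hf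
  ext i j; fin_cases i <;> fin_cases j <;>
    simp [tG, tMat, Matrix.mul_apply, Fin.sum_univ_succ, hf, hs.sg_add]
  all_goals first
    | ring1
    | linear_combination (-(sg m a * c)) * hs.two_eq_zero
    | linear_combination (sg m a * c) * hs.two_eq_zero

omit hs in
theorem tG_zero : tG m (0 : F) 0 = 1 := by
  exact Subtype.ext (by ext i j; fin_cases i <;> fin_cases j <;> simp [tG, tMat, fSz, sg_zero])

theorem tG_inv (a b : F) : (tG m a b)⁻¹ = tG m a (b + sg m a * a) := by
  refine inv_eq_of_mul_eq_one_right ?_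
  rw [hs.tG_mul, hs.add_self, show b + (b + sg m a * a) + sg m a * a = (b + b) + (sg m a * a + sg m a * a) by ring,
    hs.add_self, hs.add_self, add_zero, tG_zero]

omit hs in
theorem dG_mul (s t : Fˣ) : dG m (s * t) = dG m s * dG m t := by
  apply Subtype.ext
  simp only [Matrix.SpecialLinearGroup.coe_mul, Matrix.SpecialLinearGroup.coe_one]
  ext i j; fin_cases i <;> fin_cases j <;>
    simp [dG, dMat, Matrix.mul_apply, Fin.sum_univ_succ, sg_mul, mul_inv]
  all_goals ring

theorem dG_conj_tG (s : Fˣ) (a b : F) :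
    dG m s * tG m a b = tG m ((s : F) ^ 2 * a) (sg m (s : F) ^ 2 * (s : F) ^ 2 * b) * dG m s := by
  apply Subtype.ext
  simp only [Matrix.SpecialLinearGroup.coe_mul, Matrix.SpecialLinearGroup.coe_one]
  have h1 : sg m (s : F) ≠ 0 := sg_ne_zero s.ne_zero
  have e1 : sg m ((s : F) ^ 2) = sg m (s : F) ^ 2 := by rw [sq, sg_mul, sq]
  have e2 : sg m (sg m (s : F) ^ 2) = ((s : F) ^ 2) ^ 2 := by rw [sq (sg m (s : F)), sg_mul, hs.sg_sg, ← sq]
  ext i j; fin_cases i <;> fin_cases j <;>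
    simp [dG, dMat, tG, tMat, fSz, Matrix.mul_apply, Fin.sum_univ_succ, sg_mul, e1, e2]
  all_goals field_simp
  all_goals ring

theorem wG_conj_dG (s : Fˣ) : wG F * dG m s * wG F = dG m s⁻¹ := by
  apply Subtype.ext
  simp only [Matrix.SpecialLinearGroup.coe_mul, Matrix.SpecialLinearGroup.coe_one]
  ext i j; fin_cases i <;> fin_cases j <;>
    simp [wG, wMat, dG, dMat, Matrix.mul_apply, Fin.sum_univ_succ, sg_inv, mul_inv]
  all_goals ring

theorem dG_injective : Function.Injective (dG (F := F) m) := by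
  intro s t h
  have h1 := congrArg (fun g : Matrix.SpecialLinearGroup (Fin 4) F => (g : Matrix (Fin 4) (Fin 4) F) 1 1) h
  simp [dG, dMat] at h1
  exact Units.ext (hs.sg_inj h1)

/-- A polynomial identity with small exponents holds termwise. -/
theorem coeff_zero (A B C E : F) (hA : ∀ y : F, A * (sg m y * y ^ 2) + B * y + C * y ^ 2 + E * sg m y = 0) :
    A = 0 ∧ B = 0 ∧ C = 0 ∧ E = 0 := by
  classical
  open Polynomial in
  have h4 : 4 ≤ 2 ^ (m + 1) := by
    calc 4 = 2 ^ 2 := rfl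
      _ ≤ _ := Nat.pow_le_pow_right two_pos (by have := hs.hm; omega)
  set e := 2 ^ (m + 1) with he
  let P : Polynomial F := Polynomial.monomial (e + 2) A + Polynomial.monomial 1 B + Polynomial.monomial 2 C +
    Polynomial.monomial e E
  have hdeg : P.natDegree < Fintype.card F := by
    have hlt : e + 2 < Fintype.card F := by
      rw [hs.card, he]
      have h1 : 2 ^ (m + 1) * 2 ≤ 2 ^ (2 * m + 1) := by
        rw [← pow_succ]; exact Nat.pow_le_pow_right two_pos (by have := hs.hm; omega)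
      omega
    refine lt_of_le_of_lt (Polynomial.natDegree_le_iff_coeff_eq_zero.mpr fun N hN => ?_) hlt
    simp [P, Polynomial.coeff_monomial]
    split_ifs <;> first | omega | simp
  have h0 : P = 0 := by
    refine Polynomial.eq_zero_of_natDegree_lt_card_of_eval_eq_zero P (f := id) Function.injective_id (fun y => ?_)
      (by simpa using hdeg)
    simp [P, Polynomial.eval_add, Polynomial.eval_monomial]
    have := hA y
    unfold sg at this
    linear_combination this
  have hc : ∀ k, P.coeff k = 0 := fun k => by rw [h0]; simp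
  refine ⟨?_, ?_, ?_, ?_⟩
  · simpa [P, Polynomial.coeff_monomial, show ¬(1 = e + 2) by omega, show ¬(2 = e + 2) by omega, show ¬(e = 0) by omega] using hc (e + 2)
  · simpa [P, Polynomial.coeff_monomial, show ¬(e + 2 = 1) by omega, show ¬(e = 1) by omega] using hc 1
  · simpa [P, Polynomial.coeff_monomial, show ¬(e + 2 = 2) by omega, show ¬(e = 2) by omega, show ¬(e = 0) by omega] using hc 2
  · simpa [P, Polynomial.coeff_monomial, show ¬(1 = e) by omega, show ¬(2 = e) by omega] using hc e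

/-- The two-point stabiliser. -/
theorem exists_dG {g : Matrix.SpecialLinearGroup (Fin 4) F} (hg : g ∈ Cfsg.Sz F m)
    (h1 : g • Cfsg.suzukiPointInfinity F = Cfsg.suzukiPointInfinity F) (h0 : g • ptSz m (0 : F) 0 = ptSz m (0 : F) 0) :
    ∃ s : Fˣ, g = dG m s := by
  obtain ⟨_, e1⟩ := smul_mk' g (infty_ne (F := F))
  rw [show Cfsg.suzukiPointInfinity F = Projectivization.mk F _ (infty_ne (F := F)) from rfl, e1,
    Projectivization.mk_eq_mk_iff'] at h1
  obtain ⟨c, hc⟩ := h1
  obtain ⟨_, e0⟩ := smul_mk' g (vSz_ne (m := m) (0 : F) 0)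
  rw [ptSz, e0, Projectivization.mk_eq_mk_iff'] at h0
  obtain ⟨d, hd⟩ := h0
  rw [vSz_zero] at hd
  set M := (g : Matrix (Fin 4) (Fin 4) F) with hM
  have z10 : M 1 0 = 0 := by simpa [Matrix.mulVec, dotProduct, Fin.sum_univ_succ] using (congrFun hc 1).symm
  have z20 : M 2 0 = 0 := by simpa [Matrix.mulVec, dotProduct, Fin.sum_univ_succ] using (congrFun hc 2).symm
  have z30 : M 3 0 = 0 := by simpa [Matrix.mulVec, dotProduct, Fin.sum_univ_succ] using (congrFun hc 3).symm
  have z03 : M 0 3 = 0 := by simpa [Matrix.mulVec, dotProduct, Fin.sum_univ_succ] using (congrFun hd 0).symm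
  have z13 : M 1 3 = 0 := by simpa [Matrix.mulVec, dotProduct, Fin.sum_univ_succ] using (congrFun hd 1).symm
  have z23 : M 2 3 = 0 := by simpa [Matrix.mulVec, dotProduct, Fin.sum_univ_succ] using (congrFun hd 2).symm
  have hval : ∀ x y : F, M *ᵥ vSz m x y = ![M 0 0 * fSz m x y + M 0 1 * y + M 0 2 * x, M 1 1 * y + M 1 2 * x,
      M 2 1 * y + M 2 2 * x, M 3 1 * y + M 3 2 * x + M 3 3] := by
    intro x y
    ext i; fin_cases i <;>
      simp [vSz, Matrix.mulVec, dotProduct, Fin.sum_univ_succ, z10, z20, z30, z03, z13, z23] <;> ring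
  -- the images are finite points
  have himg : ∀ x y : F, ∃ x' y' l : F, l ≠ 0 ∧ M *ᵥ vSz m x y = l • vSz m x' y' := by
    intro x y
    obtain ⟨_, e⟩ := smul_mk' g (vSz_ne (m := m) x y)
    rcases mem_ovoid.mp (smul_mem hg (mem_ovoid.mpr (Or.inr ⟨x, y, rfl⟩))) with h | ⟨x', y', h⟩
    · exfalso
      have hfix : g • Cfsg.suzukiPointInfinity F = Cfsg.suzukiPointInfinity F := by
        rw [show Cfsg.suzukiPointInfinity F = Projectivization.mk F _ (infty_ne (F := F)) from rfl, e1,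
          Projectivization.mk_eq_mk_iff']
        exact ⟨c, hc⟩
      exact ptSz_ne_infty x y (MulAction.injective g (h.trans hfix.symm))
    · rw [ptSz, e, ptSz, Projectivization.mk_eq_mk_iff'] at h
      obtain ⟨l, hl⟩ := h
      refine ⟨x', y', l, fun hl0 => ?_, hl.symm⟩
      rw [hl0, zero_smul] at hl
      exact vSz_ne x y ((Matrix.mulVec_injective_iff_isUnit.mpr
        ((Matrix.isUnit_iff_isUnit_det _).mpr (by rw [g.2]; exact isUnit_one))) (hl.symm.trans (Matrix.mulVec_zero M).symm))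
  have hd0 : M 3 3 ≠ 0 := by
    obtain ⟨x', y', l, hl, e⟩ := himg 0 0
    have := congrFun ((hval 0 0).symm.trans e) 3
    simp [vSz] at this
    rwa [this]
  have hlin : M 3 1 = 0 ∧ M 3 2 = 0 := by
    have key : ∀ x y : F, M 3 1 * y + M 3 2 * x + M 3 3 ≠ 0 := by
      intro x y h
      obtain ⟨x', y', l, hl, e⟩ := himg x y
      have := congrFun ((hval x y).symm.trans e) 3
      simp [vSz] at this
      exact hl (this.symm.trans h)
    refine ⟨?_, ?_⟩
    · by_contra h
      exact key 0 (-M 3 3 / M 3 1) (by field_simp; ring)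
    · by_contra h
      exact key (-M 3 3 / M 3 2) 0 (by field_simp; ring)
  set α := M 2 1 / M 3 3
  set β := M 2 2 / M 3 3
  set γ := M 1 1 / M 3 3
  set δ := M 1 2 / M 3 3
  set A := M 0 0 / M 3 3
  set B := M 0 1 / M 3 3
  set C := M 0 2 / M 3 3
  have hid : ∀ x y : F, A * fSz m x y + B * y + C * x = fSz m (α * y + β * x) (γ * y + δ * x) := by
    intro x y
    obtain ⟨x', y', l, -, e⟩ := himg x y
    have e' := (hval x y).symm.trans e
    have h0' := congrFun e' 0
    have h1' := congrFun e' 1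
    have h2' := congrFun e' 2
    have h3' := congrFun e' 3
    simp [vSz, hlin.1, hlin.2] at h0' h1' h2' h3'
    subst h3'
    have hx : α * y + β * x = x' := by simp only [α, β]; field_simp; linear_combination h2'
    have hy : γ * y + δ * x = y' := by simp only [γ, δ]; field_simp; linear_combination h1'
    rw [hx, hy]
    simp only [A, B, C]
    field_simp
    linear_combination h0'
  obtain ⟨hAβ, hC, hβδ, hδ⟩ := hs.coeff_zero (A + sg m β * β ^ 2) C (β * δ) (sg m δ) fun x => by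
    have := hid x 0
    simp [fSz, sg_zero, sg_mul, mul_pow] at this
    linear_combination this + (β * δ * x ^ 2 + sg m β * β ^ 2 * (sg m x * x ^ 2) + sg m δ * sg m x) * hs.two_eq_zero
  obtain ⟨hα, hB, hαγ, hAγ⟩ := hs.coeff_zero (sg m α * α ^ 2) B (α * γ) (A + sg m γ) fun y => by
    have := hid 0 y
    simp [fSz, sg_zero, sg_mul, mul_pow] at this
    linear_combination this + (α * γ * y ^ 2 + sg m α * α ^ 2 * (sg m y * y ^ 2) + sg m γ * sg m y) * hs.two_eq_zero
  rw [hs.add_eq_zero_iff] at hAβ hAγ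
  rw [sg_eq_zero] at hδ
  have hα0 : α = 0 := (mul_eq_zero.mp hα).elim sg_eq_zero.mp eq_zero_of_pow_eq_zero
  have hAm : A = β * γ := by
    have := hid 1 1
    simp [fSz, sg_one, hα0, hδ, hB, hC] at this
    rw [← hAβ, ← hAγ] at this
    linear_combination this
  have hdiag : M = !![M 0 0, 0, 0, 0; 0, M 1 1, 0, 0; 0, 0, M 2 2, 0; 0, 0, 0, M 3 3] := by
    have q1 : M 2 1 = 0 := by simpa [α, hd0] using hα0
    have q2 : M 1 2 = 0 := by simpa [δ, hd0] using hδ
    have q3 : M 0 1 = 0 := by simpa [B, hd0] using hB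
    have q4 : M 0 2 = 0 := by simpa [C, hd0] using hC
    ext i j; fin_cases i <;> fin_cases j <;>
      simp [z10, z20, z30, z03, z13, z23, hlin.1, hlin.2, q1, q2, q3, q4]
  have hdet : M 0 0 * M 1 1 * M 2 2 * M 3 3 = 1 := by
    have := g.2
    rw [← hM, hdiag] at this
    simpa [Matrix.det_succ_row_zero, Fin.sum_univ_succ, Fin.succAbove, mul_assoc] using this
  have hn0 : M 0 0 ≠ 0 ∧ M 2 2 ≠ 0 := by
    constructor <;> intro h <;> simp [h] at hdet
  have hβ0 : β ≠ 0 := div_ne_zero hn0.2 hd0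
  obtain ⟨s, hs2⟩ := hs.exists_sq β
  have hs0 : s ≠ 0 := fun e => hβ0 (by rw [← hs2, e]; simp)
  have eσ : sg m (s ^ 2) = sg m s ^ 2 := by rw [sq, sg_mul, sq]
  have hγv : γ = sg m s ^ 2 * s ^ 2 := by
    refine mul_left_cancel₀ hβ0 ?_
    rw [← hAm, hAβ, ← hs2, eσ]; ring
  have hAv : A = sg m s ^ 2 * s ^ 4 := by rw [hAβ, ← hs2, eσ]; ring
  have hd4 : (M 3 3 * (sg m s * s ^ 2)) ^ 4 = 1 := by
    have h : A * γ * β * M 3 3 ^ 4 = 1 := by
      rw [← hdet]; simp only [A, γ, β]; field_simp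
    rw [hAv, hγv, ← hs2] at h
    linear_combination h
  have hd1 : M 3 3 * (sg m s * s ^ 2) = 1 := by
    refine hs.sq_inj (hs.sq_inj ?_)
    rw [one_pow, one_pow, ← pow_mul]
    exact hd4
  refine ⟨Units.mk0 s hs0, Subtype.ext ?_⟩
  have hs1 : sg m s ≠ 0 := sg_ne_zero hs0
  have v3 : M 3 3 = (sg m s * s ^ 2)⁻¹ := eq_inv_of_mul_eq_one_left hd1
  have v0 : M 0 0 = sg m s * s ^ 2 := by
    rw [show M 0 0 = A * M 3 3 by simp only [A]; field_simp, hAv, v3]; field_simp
  have v1 : M 1 1 = sg m s := by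
    rw [show M 1 1 = γ * M 3 3 by simp only [γ]; field_simp, hγv, v3]; field_simp
  have v2 : M 2 2 = (sg m s)⁻¹ := by
    rw [show M 2 2 = β * M 3 3 by simp only [β]; field_simp, ← hs2, v3]; field_simp
  show M = dMat m s
  rw [hdiag, v0, v1, v2, v3]
  rfl

/-- Decomposition of the stabiliser of the distinguished point. -/
theorem exists_tG_dG {g : Matrix.SpecialLinearGroup (Fin 4) F} (hg : g ∈ Cfsg.Sz F m)
    (h1 : g • Cfsg.suzukiPointInfinity F = Cfsg.suzukiPointInfinity F) :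
    ∃ (a b : F) (s : Fˣ), g = tG m a b * dG m s := by
  rcases mem_ovoid.mp (smul_mem hg (mem_ovoid.mpr (Or.inr ⟨0, 0, rfl⟩))) with h | ⟨a, b, h⟩
  · exact absurd (MulAction.injective g (h.trans h1.symm)) (ptSz_ne_infty 0 0)
  obtain ⟨s, hd⟩ := hs.exists_dG (g := (tG m a b)⁻¹ * g) (mul_mem (inv_mem (hs.tG_mem a b)) hg)
    (by rw [mul_smul, h1, inv_smul_eq_iff, tG_infty])
    (by rw [mul_smul, h, inv_smul_eq_iff, hs.tG_point]; simp)
  exact ⟨a, b, s, by rw [← hd, mul_inv_cancel_left]⟩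

/-- Decomposition of all elements. -/
theorem exists_decomp {g : Matrix.SpecialLinearGroup (Fin 4) F} (hg : g ∈ Cfsg.Sz F m) :
    (∃ (a b : F) (s : Fˣ), g = tG m a b * dG m s) ∨
      ∃ (a b c d : F) (s : Fˣ), g = tG m a b * wG F * (tG m c d * dG m s) := by
  rcases mem_ovoid.mp (smul_mem hg (mem_ovoid.mpr (Or.inl rfl))) with h | ⟨a, b, h⟩
  · exact Or.inl (hs.exists_tG_dG hg h)
  have hx : tG m a b * wG F ∈ Cfsg.Sz F m := mul_mem (hs.tG_mem a b) hs.wG_mem
  obtain ⟨c, d, s, hd⟩ := hs.exists_tG_dG (g := (tG m a b * wG F)⁻¹ * g) (mul_mem (inv_mem hx) hg)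
    (by rw [mul_smul, h, inv_smul_eq_iff, mul_smul, wG_infty (m := m), hs.tG_point]; simp)
  exact Or.inr ⟨a, b, c, d, s, by rw [← hd, mul_inv_cancel_left]⟩

end SzHyp

end Cfsg.Agent.Suzuki
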