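import Cfsg.Agent.Lib.Suzuki.LieSz

/-! A non-trivial word is not a law in large Suzuki groups: the diagonal element and a conjugate of it play
ping-pong on degrees of polynomial vectors. -/

set_option autoImplicit false

open Matrix Polynomial

namespace Cfsg.Agent.Suzuki.Laws

variable {F : Type*} [Field F] [Fintype F] {m : ℕ}

/-- The exponents of the cleared diagonal element. -/
def eP (m : ℕ) : Fin 4 → ℕ := ![2 * 2 ^ (m + 1) + 4, 2 * 2 ^ (m + 1) + 2, 2, 0]

/-- The exponents of its cleared inverse. -/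
def eQ (m : ℕ) : Fin 4 → ℕ := ![0, 2, 2 * 2 ^ (m + 1) + 2, 2 * 2 ^ (m + 1) + 4]

/-- The sum of the two exponents. -/
def cst (m : ℕ) : ℕ := 2 * 2 ^ (m + 1) + 4

theorem eP_add_eQ (i : Fin 4) : eP m i + eQ m i = cst m := by
  fin_cases i <;> simp [eP, eQ, cst] <;> omega

/-- The exponents of a sign. -/
def eS (m : ℕ) (s : Bool) : Fin 4 → ℕ := bif s then eP m else eQ m

/-- The dominant coordinate of a sign. -/
def jS (s : Bool) : Fin 4 := bif s then 0 else 3

/-- The largest exponent sits in one place. -/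
def TopAt (j : Fin 4) (e : Fin 4 → ℕ) : Prop := ∀ i, i ≠ j → e i < e j

theorem topAt_eP : TopAt 0 (eP m) := by
  intro i hi; fin_cases i <;> simp [eP] at hi ⊢

theorem topAt_eQ : TopAt 3 (eQ m) := by
  intro i hi; fin_cases i <;> simp [eQ] at hi ⊢

theorem topAt_eS (s : Bool) : TopAt (jS s) (eS m s) := by
  cases s
  exacts [topAt_eQ, topAt_eP]

theorem topAt_lt {a b : ℕ} (h : a < b) : TopAt 0 (fun i => a * eQ m i + b * eP m i) := by
  intro i hi
  have h1 := topAt_eP (m := m) i hi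
  have e1 := eP_add_eQ (m := m) i
  have e2 := eP_add_eQ (m := m) 0
  show a * eQ m i + b * eP m i < a * eQ m 0 + b * eP m 0
  obtain ⟨d, rfl⟩ : ∃ d, b = a + d + 1 := ⟨b - a - 1, by omega⟩
  nlinarith

theorem topAt_gt {a b : ℕ} (h : b < a) : TopAt 3 (fun i => a * eQ m i + b * eP m i) := by
  intro i hi
  have h1 := topAt_eQ (m := m) i hi
  have e1 := eP_add_eQ (m := m) i
  have e2 := eP_add_eQ (m := m) 3
  show a * eQ m i + b * eP m i < a * eQ m 3 + b * eP m 3
  obtain ⟨d, rfl⟩ : ∃ d, a = b + d + 1 := ⟨a - b - 1, by omega⟩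
  nlinarith

/-! ### Matrices -/

/-- A diagonal matrix of powers of the variable. -/
noncomputable def diagX (e : Fin 4 → ℕ) : Matrix (Fin 4) (Fin 4) F[X] := Matrix.diagonal fun i => X ^ e i

theorem diagX_mulVec (e : Fin 4 → ℕ) (v : Fin 4 → F[X]) : diagX e *ᵥ v = fun i => X ^ e i * v i := by
  funext i
  exact Matrix.mulVec_diagonal _ _ i

theorem diagX_diagX (e f : Fin 4 → ℕ) (v : Fin 4 → F[X]) :
    diagX e *ᵥ (diagX f *ᵥ v) = diagX (fun i => e i + f i) *ᵥ v := by
  simp only [diagX_mulVec, pow_add, mul_assoc]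

/-- The conjugating element. -/
noncomputable def kMat (F : Type*) [Field F] (m : ℕ) : Matrix (Fin 4) (Fin 4) F :=
  tMat m 1 0 * wMat F * tMat m 1 0

/-- Its inverse. -/
noncomputable def kInv (F : Type*) [Field F] (m : ℕ) : Matrix (Fin 4) (Fin 4) F :=
  tMat m 1 1 * wMat F * tMat m 1 1

/-- The conjugating element over polynomials. -/
noncomputable def kP (F : Type*) [Field F] (m : ℕ) : Matrix (Fin 4) (Fin 4) F[X] := (kMat F m).map C

/-- Its inverse over polynomials. -/
noncomputable def kI (F : Type*) [Field F] (m : ℕ) : Matrix (Fin 4) (Fin 4) F[X] := (kInv F m).map C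

/-- Corner entries equal to one. -/
def Corner (K : Matrix (Fin 4) (Fin 4) F) : Prop := ∀ i j : Fin 4, (i = 0 ∨ i = 3) → (j = 0 ∨ j = 3) → K i j = 1

theorem corner_kMat (hs : SzHyp F m) : Corner (kMat F m) := by
  intro i j hi hj
  have := hs.two_eq_zero
  rcases hi with rfl | rfl <;> rcases hj with rfl | rfl <;>
    simp [kMat, tMat, wMat, fSz, sg_one, sg_zero, Matrix.mul_apply, Fin.sum_univ_succ] <;>
    linear_combination hs.two_eq_zero

theorem corner_kInv (hs : SzHyp F m) : Corner (kInv F m) := by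
  intro i j hi hj
  rcases hi with rfl | rfl <;> rcases hj with rfl | rfl <;>
    simp [kInv, tMat, wMat, fSz, sg_one, sg_zero, Matrix.mul_apply, Fin.sum_univ_succ, hs.add_self]

theorem kInv_eq (hs : SzHyp F m) :
    (((hs.tS 1 0 * hs.wS * hs.tS 1 0)⁻¹ : ↥(Cfsg.Sz F m)) : Matrix.SpecialLinearGroup (Fin 4) F).1 = kInv F m := by
  rw [_root_.mul_inv_rev, _root_.mul_inv_rev, hs.wS_inv, hs.tS_inv, sg_one, one_mul, zero_add]
  show tMat m 1 1 * (wMat F * tMat m 1 1) = _
  rw [kInv, mul_assoc]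

theorem kInv_mul (hs : SzHyp F m) : kInv F m * kMat F m = 1 := by
  rw [← kInv_eq hs]
  show ((((hs.tS 1 0 * hs.wS * hs.tS 1 0)⁻¹ * (hs.tS 1 0 * hs.wS * hs.tS 1 0) : ↥(Cfsg.Sz F m)) :
    Matrix.SpecialLinearGroup (Fin 4) F) : Matrix (Fin 4) (Fin 4) F) = 1
  rw [inv_mul_cancel]
  rfl

theorem kI_kP (hs : SzHyp F m) (v : Fin 4 → F[X]) : kI F m *ᵥ (kP F m *ᵥ v) = v := by
  rw [Matrix.mulVec_mulVec, kI, kP, ← Matrix.map_mul, kInv_mul hs, Matrix.map_one _ (map_zero C) (map_one C),
    Matrix.one_mulVec]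

/-- The coordinate is maximal. -/
def PreAt (j : Fin 4) (v : Fin 4 → F[X]) : Prop := v j ≠ 0 ∧ ∀ i, (v i).degree ≤ (v j).degree

/-- The coordinate is strictly maximal. -/
def DomAt (j : Fin 4) (v : Fin 4 → F[X]) : Prop := v j ≠ 0 ∧ ∀ i, i ≠ j → (v i).degree < (v j).degree

theorem DomAt.preAt {j : Fin 4} {v : Fin 4 → F[X]} (h : DomAt j v) : PreAt j v :=
  ⟨h.1, fun i => (eq_or_ne i j).elim (fun e => e ▸ le_rfl) fun e => (h.2 i e).le⟩

theorem dom_diagX {j : Fin 4} {e : Fin 4 → ℕ} (he : TopAt j e) {v : Fin 4 → F[X]} (hv : PreAt j v) :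
    DomAt j (diagX e *ᵥ v) := by
  rw [diagX_mulVec]
  have hne : X ^ e j * v j ≠ 0 := mul_ne_zero (pow_ne_zero _ X_ne_zero) hv.1
  refine ⟨hne, fun i hi => ?_⟩
  show (X ^ e i * v i).degree < (X ^ e j * v j).degree
  by_cases h0 : v i = 0
  · rw [h0, mul_zero, degree_zero]
    exact bot_lt_iff_ne_bot.mpr (mt degree_eq_bot.mp hne)
  · have h := hv.2 i
    rw [degree_eq_natDegree h0, degree_eq_natDegree hv.1, Nat.cast_le] at h
    rw [degree_mul, degree_mul, degree_X_pow, degree_X_pow, degree_eq_natDegree h0, degree_eq_natDegree hv.1]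
    exact_mod_cast Nat.add_lt_add_of_lt_of_le (he i hi) h

theorem shift_dom {j : Fin 4} (n : ℕ) {v : Fin 4 → F[X]} (hv : DomAt j v) :
    DomAt j (diagX (fun _ => n) *ᵥ v) := by
  rw [diagX_mulVec]
  have hne : X ^ n * v j ≠ 0 := mul_ne_zero (pow_ne_zero _ X_ne_zero) hv.1
  refine ⟨hne, fun i hi => ?_⟩
  show (X ^ n * v i).degree < (X ^ n * v j).degree
  rw [degree_mul, degree_mul, degree_X_pow]
  exact WithBot.add_lt_add_left WithBot.coe_ne_bot (hv.2 i hi)

theorem flat_map {K : Matrix (Fin 4) (Fin 4) F} (hK : Corner K) {j : Fin 4} (hj : j = 0 ∨ j = 3)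
    {v : Fin 4 → F[X]} (hv : DomAt j v) {i : Fin 4} (hi : i = 0 ∨ i = 3) : PreAt i (K.map C *ᵥ v) := by
  have hle : ∀ l, ((K.map C *ᵥ v) l).degree ≤ (v j).degree := by
    intro l
    show (∑ t, (K.map C) l t * v t).degree ≤ _
    refine (degree_sum_le _ _).trans (Finset.sup_le fun t _ => ?_)
    rw [Matrix.map_apply]
    exact (degree_mul_le _ _).trans ((add_le_add degree_C_le (hv.preAt.2 t)).trans_eq (zero_add _))
  have hdeg : ((K.map C *ᵥ v) i).degree = (v j).degree := by
    have h : (K.map C *ᵥ v) i = v j + ∑ t ∈ Finset.univ.erase j, C (K i t) * v t := by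
      show ∑ t, (K.map C) i t * v t = _
      simp only [Matrix.map_apply]
      rw [← Finset.add_sum_erase _ _ (Finset.mem_univ j), hK i j hi hj, map_one, one_mul]
    rw [h]
    refine degree_add_eq_left_of_degree_lt ((degree_sum_le _ _).trans_lt ?_)
    rw [Finset.sup_lt_iff (bot_lt_iff_ne_bot.mpr (mt degree_eq_bot.mp hv.1))]
    intro t ht
    exact ((degree_mul_le _ _).trans (add_le_add degree_C_le le_rfl)).trans_lt
      (by rw [zero_add]; exact hv.2 t (Finset.ne_of_mem_erase ht))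
  exact ⟨fun e => hv.1 (degree_eq_bot.mp (by rw [← hdeg, e, degree_zero])), fun l => hdeg.symm ▸ hle l⟩

theorem jS_corner (s : Bool) : jS s = 0 ∨ jS s = 3 := by cases s <;> simp [jS]

/-- The start vector. -/
noncomputable def e0 : Fin 4 → F[X] := ![1, 0, 0, 0]

/-- A letter. -/
noncomputable def letter (F : Type*) [Field F] (m : ℕ) (a : ℕ × Bool) : Matrix (Fin 4) (Fin 4) F[X] :=
  diagX (fun i => a.1 * eP m i) * kP F m * diagX (eS m a.2) * kI F m * diagX (fun i => a.1 * eQ m i)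

/-- A word. -/
noncomputable def wordMat (F : Type*) [Field F] (m : ℕ) (L : List (ℕ × Bool)) : Matrix (Fin 4) (Fin 4) F[X] :=
  (L.map (letter F m)).prod

theorem invariant (hs : SzHyp F m) : ∀ L : List (ℕ × Bool), FreeGroup.IsReduced L → ∀ a ∈ L.head?,
    ∃ z : Fin 4 → F[X], PreAt (jS a.2) z ∧ wordMat F m L *ᵥ e0 =
      diagX (fun i => a.1 * eP m i) *ᵥ (kP F m *ᵥ (diagX (eS m a.2) *ᵥ z)) := by
  intro L
  induction L with
  | nil => intro _ a ha; simp at ha
  | cons b L ih =>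
    intro hL a ha
    simp only [List.head?_cons, Option.mem_def, Option.some.injEq] at ha
    subst ha
    refine ⟨kI F m *ᵥ (diagX (fun i => b.1 * eQ m i) *ᵥ (wordMat F m L *ᵥ e0)), ?_, ?_⟩
    · cases L with
      | nil =>
        rw [wordMat, List.map_nil, List.prod_nil, Matrix.one_mulVec]
        have h : DomAt 0 (diagX (fun i => b.1 * eQ m i) *ᵥ (e0 (F := F))) := by
          rw [diagX_mulVec]
          refine ⟨?_, fun i hi => ?_⟩
          · simp [e0, eQ]
          · fin_cases i <;> simp [e0, eQ] at hi ⊢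
        exact flat_map (corner_kInv hs) (Or.inl rfl) h (jS_corner b.2)
      | cons c L =>
        rw [FreeGroup.isReduced_cons_cons] at hL
        obtain ⟨hbc, hL⟩ := hL
        obtain ⟨z, hz, he⟩ := ih hL c (by simp)
        rw [he, diagX_diagX]
        have hdom := dom_diagX (topAt_eS (m := m) c.2) hz
        rcases lt_trichotomy b.1 c.1 with h | h | h
        · exact flat_map (corner_kInv hs) (Or.inl rfl)
            (dom_diagX (topAt_lt h) (flat_map (corner_kMat hs) (jS_corner c.2) hdom (Or.inl rfl))) (jS_corner b.2)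
        · rw [h, hbc h]
          have e : diagX (fun i => c.1 * eQ m i + c.1 * eP m i) *ᵥ (kP F m *ᵥ (diagX (eS m c.2) *ᵥ z)) =
              kP F m *ᵥ (diagX (fun _ => c.1 * cst m) *ᵥ (diagX (eS m c.2) *ᵥ z)) := by
            have hc : (fun i => c.1 * eQ m i + c.1 * eP m i) = fun _ => c.1 * cst m := by
              funext i; rw [← mul_add, add_comm (eQ m i), eP_add_eQ]
            rw [hc]
            simp only [diagX]
            rw [show (Matrix.diagonal fun _ : Fin 4 => (X : F[X]) ^ (c.1 * cst m)) =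
              (X : F[X]) ^ (c.1 * cst m) • (1 : Matrix (Fin 4) (Fin 4) F[X]) from
                (Matrix.smul_one_eq_diagonal _).symm]
            simp only [Matrix.smul_mulVec, Matrix.one_mulVec, Matrix.mulVec_smul]
          rw [e, kI_kP hs]
          exact (shift_dom _ hdom).preAt
        · exact flat_map (corner_kInv hs) (Or.inr rfl)
            (dom_diagX (topAt_gt h) (flat_map (corner_kMat hs) (jS_corner c.2) hdom (Or.inr rfl))) (jS_corner b.2)
    · simp only [wordMat, List.map_cons, List.prod_cons, letter, ← Matrix.mulVec_mulVec]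

/-- The test polynomial. -/
noncomputable def test (F : Type*) [Field F] (m : ℕ) (n : ℕ) (L : List (ℕ × Bool)) : F[X] :=
  (kI F m *ᵥ (diagX (fun i => n * eQ m i) *ᵥ (wordMat F m L *ᵥ e0))) 0 -
    (kI F m *ᵥ (diagX (fun i => n * eQ m i) *ᵥ (wordMat F m L *ᵥ e0))) 3

theorem test_ne_zero (hs : SzHyp F m) {a : ℕ × Bool} {L : List (ℕ × Bool)} (hL : FreeGroup.IsReduced (a :: L)) :
    test F m a.1 (a :: L) ≠ 0 := by
  obtain ⟨z, hz, he⟩ := invariant hs (a :: L) hL a (by simp)
  have hdom : DomAt (jS a.2) (kI F m *ᵥ (diagX (fun i => a.1 * eQ m i) *ᵥ (wordMat F m (a :: L) *ᵥ e0))) := by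
    rw [he, diagX_diagX]
    have hc : (fun i => a.1 * eQ m i + a.1 * eP m i) = fun _ => a.1 * cst m := by
      funext i; rw [← mul_add, add_comm (eQ m i), eP_add_eQ]
    rw [hc, diagX, show (Matrix.diagonal fun _ : Fin 4 => (X : F[X]) ^ (a.1 * cst m)) =
      (X : F[X]) ^ (a.1 * cst m) • (1 : Matrix (Fin 4) (Fin 4) F[X]) from (Matrix.smul_one_eq_diagonal _).symm,
      Matrix.smul_mulVec, Matrix.one_mulVec, Matrix.mulVec_smul, kI_kP hs]
    rw [← Matrix.one_mulVec (diagX (eS m a.2) *ᵥ z), ← Matrix.smul_mulVec, Matrix.smul_one_eq_diagonal]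
    exact shift_dom _ (dom_diagX (topAt_eS a.2) hz)
  intro h
  rw [test, sub_eq_zero] at h
  obtain ⟨-, h2⟩ := hdom
  rcases Bool.eq_false_or_eq_true a.2 with hb | hb
  · have := h2 3 (by simp [jS, hb])
    rw [hb] at this
    exact this.ne (congrArg degree h.symm)
  · have := h2 0 (by simp [jS, hb])
    rw [hb] at this
    exact this.ne (congrArg degree h)

/-! ### Degrees -/

/-- All entries have bounded degree. -/
def DegLE (B : ℕ) (M : Matrix (Fin 4) (Fin 4) F[X]) : Prop := ∀ i j, (M i j).natDegree ≤ B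

theorem DegLE.mul {B B' : ℕ} {M N : Matrix (Fin 4) (Fin 4) F[X]} (h : DegLE B M) (h' : DegLE B' N) :
    DegLE (B + B') (M * N) := fun i j => by
  rw [Matrix.mul_apply]
  exact natDegree_sum_le_of_forall_le _ _ fun k _ => natDegree_mul_le.trans (Nat.add_le_add (h i k) (h' k j))

theorem degLE_diagX {B : ℕ} {e : Fin 4 → ℕ} (h : ∀ i, e i ≤ B) : DegLE B (diagX (F := F) e) := by
  intro i j
  by_cases hij : i = j
  · subst hij
    simp [diagX, h i]
  · simp [diagX, hij]

theorem degLE_map (K : Matrix (Fin 4) (Fin 4) F) : DegLE 0 (K.map C) := fun i j => by simp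

theorem le_cst (i : Fin 4) : eP m i ≤ cst m ∧ eQ m i ≤ cst m := by
  have := eP_add_eQ (m := m) i; omega

theorem degLE_letter (a : ℕ × Bool) : DegLE ((2 * a.1 + 1) * cst m) (letter F m a) := by
  have h1 : DegLE (a.1 * cst m) (diagX (F := F) fun i => a.1 * eP m i) :=
    degLE_diagX fun i => Nat.mul_le_mul_left _ (le_cst i).1
  have h2 : DegLE (cst m) (diagX (F := F) (eS m a.2)) :=
    degLE_diagX fun i => by cases a.2 <;> [exact (le_cst i).2; exact (le_cst i).1]
  have h3 : DegLE (a.1 * cst m) (diagX (F := F) fun i => a.1 * eQ m i) :=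
    degLE_diagX fun i => Nat.mul_le_mul_left _ (le_cst i).2
  have := ((((h1.mul (degLE_map (kMat F m))).mul h2).mul (degLE_map (kInv F m))).mul h3)
  intro i j
  exact (this i j).trans (by ring_nf; omega)

/-- The weight of a word. -/
def weight (L : List (ℕ × Bool)) : ℕ := (L.map fun a => 2 * a.1 + 1).sum

theorem degLE_word : ∀ L : List (ℕ × Bool), DegLE (weight L * cst m) (wordMat F m L)
  | [] => fun i j => by
    by_cases h : i = j
    · subst h; simp [wordMat]
    · simp [wordMat, h]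
  | a :: L => fun i j => by
    have := ((degLE_letter (F := F) (m := m) a).mul (degLE_word L)) i j
    simpa [wordMat, weight, add_mul] using this

theorem natDegree_test (n : ℕ) (L : List (ℕ × Bool)) :
    (test F m n L).natDegree ≤ (n + weight L) * cst m := by
  have h : DegLE (0 + (n * cst m + weight L * cst m))
      (kI F m * (diagX (fun i => n * eQ m i) * wordMat F m L)) :=
    (degLE_map _).mul ((degLE_diagX fun i => Nat.mul_le_mul_left _ (le_cst i).2).mul (degLE_word L))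
  have he : ∀ i, (kI F m *ᵥ (diagX (fun i => n * eQ m i) *ᵥ (wordMat F m L *ᵥ e0))) i =
      (kI F m * (diagX (fun i => n * eQ m i) * wordMat F m L) : Matrix (Fin 4) (Fin 4) F[X]) i 0 := by
    intro i
    rw [Matrix.mulVec_mulVec, Matrix.mulVec_mulVec, ← mul_assoc (kI F m)]
    simp [e0, Matrix.mulVec, dotProduct, Fin.sum_univ_succ]
  rw [test, he, he]
  refine (natDegree_sub_le _ _).trans (max_le ?_ ?_) <;>
    exact (h _ _).trans (by rw [zero_add, add_mul])

/-! ### Evaluation -/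

theorem eval_diag (hs : SzHyp F m) (x : Fˣ) (n : ℕ) :
    (diagX (F := F) fun i => n * eP m i).map (Polynomial.eval (x : F)) =
        (sg m (x : F) * (x : F) ^ 2) ^ n • dMat m ((x ^ n : Fˣ) : F) ∧
      (diagX (F := F) fun i => n * eQ m i).map (Polynomial.eval (x : F)) =
        (sg m (x : F) * (x : F) ^ 2) ^ n • dMat m (((x ^ n)⁻¹ : Fˣ) : F) := by
  have h0 := x.ne_zero
  have hσ := sg_ne_zero (m := m) h0
  have hsn : ∀ k : ℕ, sg m ((x : F) ^ k) = sg m (x : F) ^ k := fun k => by simp [sg, ← pow_mul, mul_comm]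
  constructor <;>
  · ext i j
    fin_cases i <;> fin_cases j <;>
      simp [diagX, eP, eQ, dMat, sg_inv, hsn, Units.val_inv_eq_inv_val, Nat.mul_add, pow_add]
    all_goals field_simp
    all_goals first
      | ring1
      | (rw [show sg m (x : F) = (x : F) ^ 2 ^ (m + 1) from rfl]; ring)

theorem eval_letter (hs : SzHyp F m) (x : Fˣ) (a : ℕ × Bool) :
    ∃ c : F, c ≠ 0 ∧ (letter F m a).map (Polynomial.eval (x : F)) =
      c • (((bif a.2 then
          hs.dS (x ^ a.1) * (hs.tS 1 0 * hs.wS * hs.tS 1 0) * hs.dS x * (hs.tS 1 0 * hs.wS * hs.tS 1 0)⁻¹ *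
            (hs.dS (x ^ a.1))⁻¹
        else
          (hs.dS (x ^ a.1) * (hs.tS 1 0 * hs.wS * hs.tS 1 0) * hs.dS x * (hs.tS 1 0 * hs.wS * hs.tS 1 0)⁻¹ *
            (hs.dS (x ^ a.1))⁻¹)⁻¹ : ↥(Cfsg.Sz F m)) : Matrix.SpecialLinearGroup (Fin 4) F) :
          Matrix (Fin 4) (Fin 4) F) := by
  set c0 := sg m (x : F) * (x : F) ^ 2
  have hc0 : c0 ≠ 0 := mul_ne_zero (sg_ne_zero x.ne_zero) (pow_ne_zero 2 x.ne_zero)
  refine ⟨c0 ^ a.1 * c0 * c0 ^ a.1, mul_ne_zero (mul_ne_zero (pow_ne_zero _ hc0) hc0) (pow_ne_zero _ hc0), ?_⟩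
  have hmul : ∀ A B : Matrix (Fin 4) (Fin 4) F[X],
      (A * B).map (Polynomial.eval (x : F)) = A.map (Polynomial.eval (x : F)) * B.map (Polynomial.eval (x : F)) :=
    fun A B => Matrix.map_mul (f := Polynomial.evalRingHom (x : F))
  have hk : ∀ K : Matrix (Fin 4) (Fin 4) F, (K.map C).map (Polynomial.eval (x : F)) = K := fun K => by
    ext i j; simp
  have hS : (diagX (F := F) (eS m a.2)).map (Polynomial.eval (x : F)) =
      c0 • dMat m ((bif a.2 then x else x⁻¹ : Fˣ) : F) := by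
    have h1 := eval_diag hs x 1
    simp only [one_mul, pow_one] at h1
    cases a.2
    exacts [h1.2, h1.1]
  simp only [letter, hmul, kP, kI, hk, (eval_diag hs x a.1).1, (eval_diag hs x a.1).2, hS]
  simp only [Matrix.smul_mul, Matrix.mul_smul, smul_smul]
  rw [← kInv_eq hs]
  congr 1
  · ring
  cases a.2
  · simp only [cond_false, _root_.mul_inv_rev, inv_inv, hs.dS_inv]
    simp only [← mul_assoc, kMat, Subgroup.coe_mul, Matrix.SpecialLinearGroup.coe_mul]
    rfl
  · simp only [cond_true, hs.dS_inv]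
    rfl

theorem exists_not_law (w : FreeGroup ℕ) (hw : w ≠ 1) :
    ∃ N : ℕ, ∀ (F : Type*) [Field F] [Fintype F] (m : ℕ), 1 ≤ m → N ≤ m →
      Fintype.card F = 2 ^ (2 * m + 1) →
      ∃ f : ℕ → ↥(Cfsg.Lie.Sz F (2 ^ (m + 1))), FreeGroup.lift f w ≠ 1 := by
  cases hL : w.toWord with
  | nil => exact absurd (FreeGroup.toWord_eq_nil_iff.mp hL) hw
  | cons a L =>
  refine ⟨a.1 + weight (a :: L) + 3, fun F _ _ m hm hN hF => ?_⟩
  have hs : SzHyp F m := ⟨hm, hF⟩
  have hp := test_ne_zero (F := F) hs (hL ▸ FreeGroup.isReduced_toWord (x := w) : FreeGroup.IsReduced (a :: L))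
  have hdeg : (test F m a.1 (a :: L) * X).natDegree < Fintype.card F := by
    refine natDegree_mul_le.trans_lt ?_
    have h1 := natDegree_test (F := F) (m := m) a.1 (a :: L)
    rw [natDegree_X, hF]
    set C' := a.1 + weight (a :: L)
    have h2 : C' * cst m + 1 < 2 ^ (2 * m + 1) := by
      have hC : C' + 3 ≤ m := hN
      have h3 : m < 2 ^ m := Nat.lt_two_pow_self
      have h4 : 2 ^ (2 * m + 1) = 2 * (2 ^ m * 2 ^ m) := by
        rw [pow_succ, mul_comm, two_mul m, pow_add]
      have h5 : cst m = 4 * 2 ^ m + 4 := by rw [cst, pow_succ]; ring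
      have h6 : 8 ≤ 2 ^ m := (show 2 ^ 3 = 8 by norm_num) ▸ Nat.pow_le_pow_right two_pos (by omega)
      rw [h4, h5]
      by_cases hC0 : C' = 0
      · simp [hC0]; nlinarith
      · nlinarith [show 3 * C' ≤ 2 ^ m by
          have : ∀ k, 3 * k ≤ 2 ^ (k + 3) := fun k => by
            have := Nat.lt_two_pow_self (n := k)
            rw [pow_add]; omega
          exact (this C').trans (Nat.pow_le_pow_right two_pos hC)]
    omega
  obtain ⟨x, hx⟩ : ∃ x : F, (test F m a.1 (a :: L) * X).eval x ≠ 0 := by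
    by_contra hc
    push Not at hc
    exact mul_ne_zero hp X_ne_zero
      (eq_zero_of_natDegree_lt_card_of_eval_eq_zero _ Function.injective_id hc hdeg)
  rw [eval_mul, eval_X, ne_eq, mul_eq_zero, not_or] at hx
  let u : Fˣ := Units.mk0 x hx.2
  let g : ℕ → ↥(Cfsg.Sz F m) := fun i =>
    hs.dS (u ^ i) * (hs.tS 1 0 * hs.wS * hs.tS 1 0) * hs.dS u * (hs.tS 1 0 * hs.wS * hs.tS 1 0)⁻¹ *
      (hs.dS (u ^ i))⁻¹
  refine ⟨fun i => hs.lieEquiv.symm (g i), fun hlaw => hx.1 ?_⟩
  have hcomp : ∀ v : FreeGroup ℕ, FreeGroup.lift (fun i => hs.lieEquiv.symm (g i)) v =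
      hs.lieEquiv.symm (FreeGroup.lift g v) := fun v => by
    suffices h : FreeGroup.lift (fun i => hs.lieEquiv.symm (g i)) = hs.lieEquiv.symm.toMonoidHom.comp (FreeGroup.lift g)
      from DFunLike.congr_fun h v
    exact FreeGroup.ext_hom _ _ fun i => by simp
  rw [hcomp, MulEquiv.map_eq_one_iff] at hlaw
  have hword : ∀ M : List (ℕ × Bool), ∃ c : F, c ≠ 0 ∧ (wordMat F m M).map (Polynomial.eval x) =
      c • (((M.map fun b : ℕ × Bool => bif b.2 then g b.1 else (g b.1)⁻¹).prod : ↥(Cfsg.Sz F m)) :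
        Matrix.SpecialLinearGroup (Fin 4) F).1 := by
    intro M
    induction M with
    | nil =>
      refine ⟨1, one_ne_zero, ?_⟩
      rw [one_smul]
      ext i j
      by_cases h : i = j
      · subst h; simp [wordMat]
      · simp [wordMat, h]
    | cons b M ih =>
      obtain ⟨c, hc, e⟩ := ih
      obtain ⟨c', hc', e'⟩ := eval_letter hs u b
      refine ⟨c' * c, mul_ne_zero hc' hc, ?_⟩
      have : (wordMat F m (b :: M)).map (Polynomial.eval x) =
          (letter F m b).map (Polynomial.eval x) * (wordMat F m M).map (Polynomial.eval x) := by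
        simp only [wordMat, List.map_cons, List.prod_cons]
        exact Matrix.map_mul (f := Polynomial.evalRingHom x)
      rw [this, show (letter F m b).map (Polynomial.eval x) = _ from e', e, Matrix.smul_mul, Matrix.mul_smul,
        smul_smul, List.map_cons, List.prod_cons]
      rfl
  obtain ⟨c, -, he⟩ := hword (a :: L)
  have hprod : ((a :: L).map fun b : ℕ × Bool => bif b.2 then g b.1 else (g b.1)⁻¹).prod = FreeGroup.lift g w := by
    conv_rhs => rw [← FreeGroup.mk_toWord (x := w), hL, FreeGroup.lift_mk]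
  rw [hprod, hlaw] at he
  have hQ := (eval_diag hs u a.1).2
  have hvec : ∀ i, ((kI F m *ᵥ (diagX (fun i => a.1 * eQ m i) *ᵥ (wordMat F m (a :: L) *ᵥ e0))) i).eval x =
      ((kInv F m * ((diagX (fun i => a.1 * eQ m i)).map (Polynomial.eval x) *
        (wordMat F m (a :: L)).map (Polynomial.eval x))) i 0) := by
    intro i
    rw [Matrix.mulVec_mulVec, Matrix.mulVec_mulVec]
    simp [e0, Matrix.mulVec, dotProduct, Fin.sum_univ_succ, Matrix.mul_apply, kI]
    ring
  rw [test, eval_sub, hvec, hvec, he, show (diagX (fun i => a.1 * eQ m i)).map (Polynomial.eval x) = _ from hQ]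
  simp only [Matrix.smul_mul, Matrix.mul_smul, Matrix.smul_apply, smul_smul]
  have hcol : ∀ i : Fin 4, (i = 0 ∨ i = 3) →
      (kInv F m * (dMat m (((u ^ a.1)⁻¹ : Fˣ) : F) * (((1 : ↥(Cfsg.Sz F m)) : Matrix.SpecialLinearGroup (Fin 4) F) :
        Matrix (Fin 4) (Fin 4) F))) i 0 = sg m (((u ^ a.1)⁻¹ : Fˣ) : F) * (((u ^ a.1)⁻¹ : Fˣ) : F) ^ 2 := by
    intro i hi
    rw [show (((1 : ↥(Cfsg.Sz F m)) : Matrix.SpecialLinearGroup (Fin 4) F) : Matrix (Fin 4) (Fin 4) F) = 1 from rfl,
      mul_one]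
    simp [Matrix.mul_apply, Fin.sum_univ_succ, dMat, corner_kInv hs i 0 hi (Or.inl rfl)]
  rw [hcol 0 (Or.inl rfl), hcol 3 (Or.inr rfl), sub_self]

end Cfsg.Agent.Suzuki.Laws
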