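import Cfsg.Agent.Lib.Suzuki.Zass

/-! Sylow 2-subgroups: structure, normalizer, unique maximal overgroup, TI subgroups, two generators. -/

set_option autoImplicit false

open Matrix
open scoped Pointwise

namespace Cfsg.Agent.Suzuki

variable {F : Type*} [Field F] [Fintype F] {m : ℕ}

namespace SzHyp

variable (hs : SzHyp F m)

include hs

/-- The unipotent subgroup. -/
def tSub : Subgroup ↥(Cfsg.Sz F m) where
  carrier := {g | ∃ a b, g = hs.tS a b}
  one_mem' := ⟨0, 0, hs.tS_zero.symm⟩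
  mul_mem' := by
    rintro _ _ ⟨a, b, rfl⟩ ⟨c, d, rfl⟩
    exact ⟨_, _, hs.tS_mul a b c d⟩
  inv_mem' := by
    rintro _ ⟨a, b, rfl⟩
    exact ⟨_, _, hs.tS_inv a b⟩

theorem mem_tSub {g : ↥(Cfsg.Sz F m)} : g ∈ hs.tSub ↔ ∃ a b, g = hs.tS a b := Iff.rfl

theorem tS_mem (a b : F) : hs.tS a b ∈ hs.tSub := ⟨a, b, rfl⟩

theorem tS_inj {a b a' b' : F} (h : hs.tS a b = hs.tS a' b') : a = a' ∧ b = b' :=
  tG_inj (congrArg Subtype.val h)

theorem tS_eq_one {a b : F} : hs.tS a b = 1 ↔ a = 0 ∧ b = 0 := by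
  constructor
  · exact fun h => hs.tS_inj (h.trans hs.tS_zero.symm)
  · rintro ⟨rfl, rfl⟩
    exact hs.tS_zero

theorem card_tSub : Nat.card ↥hs.tSub = (2 ^ (2 * m + 1)) ^ 2 := by
  rw [← hs.card_eq, sq, ← Nat.card_prod]
  refine (Nat.card_congr (Equiv.ofBijective (fun z : F × F => (⟨hs.tS z.1 z.2, hs.tS_mem _ _⟩ : ↥hs.tSub))
    ⟨fun z z' h => ?_, ?_⟩)).symm
  · obtain ⟨h1, h2⟩ := hs.tS_inj (congrArg Subtype.val h)
    exact Prod.ext h1 h2
  · rintro ⟨_, a, b, rfl⟩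
    exact ⟨(a, b), rfl⟩

theorem isPGroup_tSub : IsPGroup 2 ↥hs.tSub :=
  IsPGroup.of_card (n := (2 * m + 1) * 2) (by rw [hs.card_tSub, pow_mul])

theorem two_not_dvd_index : ¬ 2 ∣ hs.tSub.index := by
  have h := Subgroup.card_mul_index hs.tSub
  rw [hs.card_tSub, hs.card_sz] at h
  have h' : hs.tSub.index = ((2 ^ (2 * m + 1)) ^ 2 + 1) * (2 ^ (2 * m + 1) - 1) :=
    Nat.eq_of_mul_eq_mul_left (by positivity : 0 < (2 ^ (2 * m + 1)) ^ 2) (h.trans (mul_assoc _ _ _))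
  rw [h', Nat.Prime.dvd_mul Nat.prime_two]
  have h2 : 2 ∣ 2 ^ (2 * m + 1) := dvd_pow_self 2 (by omega)
  have h1 : 1 ≤ 2 ^ (2 * m + 1) := Nat.one_le_two_pow
  rintro (e | e)
  · have : 2 ∣ (2 ^ (2 * m + 1)) ^ 2 := dvd_pow h2 two_ne_zero
    omega
  · omega

/-- The unipotent subgroup as a Sylow subgroup. -/
noncomputable def tSylow : Sylow 2 ↥(Cfsg.Sz F m) :=
  haveI := Fact.mk Nat.prime_two
  hs.isPGroup_tSub.toSylow hs.two_not_dvd_index

theorem coe_tSylow : (hs.tSylow : Subgroup ↥(Cfsg.Sz F m)) = hs.tSub := rfl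

theorem exists_conj (P : Sylow 2 ↥(Cfsg.Sz F m)) :
    ∃ g : ↥(Cfsg.Sz F m), hs.tSub.map (MulAut.conj g).toMonoidHom = (P : Subgroup ↥(Cfsg.Sz F m)) := by
  haveI := Fact.mk Nat.prime_two
  obtain ⟨g, hg⟩ := MulAction.exists_smul_eq (↥(Cfsg.Sz F m)) hs.tSylow P
  refine ⟨g, ?_⟩
  rw [← hg, Sylow.coe_subgroup_smul]
  rfl

theorem sq_tS (a b : F) : hs.tS a b * hs.tS a b = hs.tS 0 (sg m a * a) := by
  rw [hs.tS_mul, hs.add_self, hs.add_self, zero_add]

theorem orderOf_tS {a b : F} (ha : a ≠ 0) : orderOf (hs.tS a b) = 2 ^ 2 := by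
  haveI := Fact.mk Nat.prime_two
  refine orderOf_eq_prime_pow (n := 1) ?_ ?_
  · rw [pow_one, sq, hs.sq_tS, hs.tS_eq_one]
    exact fun h => mul_ne_zero (sg_ne_zero ha) ha h.2
  · show hs.tS a b ^ (2 * 2) = 1
    rw [pow_mul, sq (hs.tS a b), hs.sq_tS, sq, hs.sq_tS, sg_zero, zero_mul, hs.tS_zero]

theorem exponent_tSub : Monoid.exponent ↥hs.tSub = 4 := by
  refine Nat.dvd_antisymm (Monoid.exponent_dvd_of_forall_pow_eq_one fun g => ?_) ?_
  · obtain ⟨_, a, b, rfl⟩ := g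
    refine Subtype.ext ?_
    show hs.tS a b ^ (2 * 2) = 1
    rw [pow_mul, sq (hs.tS a b), hs.sq_tS, sq, hs.sq_tS, sg_zero, zero_mul, hs.tS_zero]
  · have h := Monoid.order_dvd_exponent (⟨hs.tS 1 0, hs.tS_mem _ _⟩ : ↥hs.tSub)
    rwa [← Subgroup.orderOf_coe, hs.orderOf_tS one_ne_zero] at h

theorem mem_center_tSub {g : ↥hs.tSub} :
    g ∈ Subgroup.center ↥hs.tSub ↔ ∃ b, (g : ↥(Cfsg.Sz F m)) = hs.tS 0 b := by
  obtain ⟨_, a, b, rfl⟩ := g
  rw [Subgroup.mem_center_iff]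
  constructor
  · intro h
    refine ⟨b, ?_⟩
    have ha : a = 0 := by
      by_contra ha
      obtain ⟨u, u0, u1⟩ := hs.exists_gt
      have := congrArg Subtype.val (h ⟨hs.tS (u * a) 0, hs.tS_mem _ _⟩)
      simp only [Subgroup.coe_mul, hs.tS_mul] at this
      have h2 := (hs.tS_inj this).2
      rw [sg_mul] at h2
      have h3 : sg m u = u := mul_right_cancel₀ (mul_ne_zero (sg_ne_zero (m := m) ha) ha)
        (show sg m u * (sg m a * a) = u * (sg m a * a) by linear_combination h2)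
      exact (hs.eq_zero_or_one_of_sg h3).elim u0 u1
    rw [ha]
  · rintro ⟨b', e⟩ ⟨_, c, d, rfl⟩
    refine Subtype.ext ?_
    obtain ⟨rfl, rfl⟩ := hs.tS_inj e
    simp only [Subgroup.coe_mul, hs.tS_mul]
    congr 1
    · rw [zero_add, add_zero]
    · rw [sg_zero]
      ring

theorem exists_sgmul (c : F) : ∃ a : F, sg m a * a = c := by
  refine Finite.surjective_of_injective (f := fun a : F => sg m a * a) (fun x y h => ?_) c
  simp only at h
  by_cases hy : y = 0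
  · subst hy
    rw [mul_zero] at h
    rcases mul_eq_zero.mp h with e | e
    exacts [sg_eq_zero.mp e, e]
  · have hx : x ≠ 0 := fun e => by
      subst e
      rw [mul_zero] at h
      exact mul_ne_zero (sg_ne_zero hy) hy h.symm
    have := hs.eq_one_of_mul_sg (div_ne_zero hx hy) (by
      rw [div_eq_mul_inv, sg_mul, sg_inv, show sg m x * (sg m y)⁻¹ * (x * y⁻¹) = sg m x * x * ((sg m y)⁻¹ * y⁻¹) by ring,
        h, ← mul_inv]
      exact mul_inv_cancel₀ (mul_ne_zero (sg_ne_zero hy) hy))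
    exact (div_eq_one_iff_eq hy).mp this

theorem center_eq_commutator : Subgroup.center ↥hs.tSub = commutator ↥hs.tSub := by
  refine le_antisymm (fun g hg => ?_) ?_
  · obtain ⟨b, e⟩ := hs.mem_center_tSub.mp hg
    obtain ⟨k, k0, k1⟩ := hs.exists_gt
    have hw : k + sg m k ≠ 0 := fun e =>
      (hs.eq_zero_or_one_of_sg (hs.add_eq_zero_iff.mp e).symm).elim k0 k1
    obtain ⟨a, ha⟩ := hs.exists_sgmul (b / (k + sg m k))
    let x : ↥hs.tSub := ⟨hs.tS a 0, hs.tS_mem _ _⟩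
    let y : ↥hs.tSub := ⟨hs.tS (k * a) 0, hs.tS_mem _ _⟩
    have : g = x * y * x⁻¹ * y⁻¹ := by
      refine Subtype.ext ?_
      rw [e]
      simp only [Subgroup.coe_mul, Subgroup.coe_inv, x, y, hs.tS_inv, hs.tS_mul]
      have hb : b = sg m a * a * (k + sg m k) := by rw [ha, div_mul_cancel₀ _ hw]
      congr 1
      · linear_combination (-(a + k * a)) * hs.two_eq_zero
      · simp only [hs.sg_add, sg_mul] at *
        linear_combination hb - (sg m a * a + sg m k * sg m a * k * a + sg m a * k * a) * hs.two_eq_zero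
    rw [this]
    exact Subgroup.commutator_mem_commutator (Subgroup.mem_top x) (Subgroup.mem_top y)
  · rw [commutator_def, Subgroup.commutator_le]
    rintro ⟨_, a, b, rfl⟩ - ⟨_, c, d, rfl⟩ -
    refine hs.mem_center_tSub.mpr ?_
    simp only [commutatorElement_def, Subgroup.coe_mul, Subgroup.coe_inv, hs.tS_inv, hs.tS_mul]
    rw [show a + c + a + c = 0 by rw [add_right_comm a c a, hs.add_self, zero_add, hs.add_self]]
    exact ⟨_, rfl⟩

theorem card_center_tSub : Nat.card ↥(Subgroup.center ↥hs.tSub) = 2 ^ (2 * m + 1) := by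
  rw [← hs.card_eq]
  refine (Nat.card_congr (Equiv.ofBijective (fun b : F => (⟨⟨hs.tS 0 b, hs.tS_mem _ _⟩,
    hs.mem_center_tSub.mpr ⟨b, rfl⟩⟩ : ↥(Subgroup.center ↥hs.tSub))) ⟨fun z z' h => ?_, ?_⟩)).symm
  · exact (hs.tS_inj (congrArg Subtype.val (congrArg Subtype.val h))).2
  · rintro ⟨g, hg⟩
    obtain ⟨b, e⟩ := hs.mem_center_tSub.mp hg
    exact ⟨b, Subtype.ext (Subtype.ext e.symm)⟩

theorem sylow_structure (P : Sylow 2 ↥(Cfsg.Sz F m)) :
    Nat.card P = (2 ^ (2 * m + 1)) ^ 2 ∧ Monoid.exponent P = 4 ∧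
      Subgroup.center P = commutator P ∧ Nat.card (Subgroup.center P) = 2 ^ (2 * m + 1) := by
  haveI := Fact.mk Nat.prime_two
  have e : ↥hs.tSub ≃* P := hs.tSylow.equiv P
  have hZ : (Subgroup.center ↥hs.tSub).map e.toMonoidHom = Subgroup.center P := by
    ext x
    rw [Subgroup.mem_map_equiv, Subgroup.mem_center_iff, Subgroup.mem_center_iff]
    refine ⟨fun h g => e.symm.injective ?_, fun h g => e.injective ?_⟩
    · rw [map_mul, map_mul, h]
    · rw [map_mul, map_mul, e.apply_symm_apply, h]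
  have hC : (commutator ↥hs.tSub).map e.toMonoidHom = commutator P := by
    rw [commutator_def, commutator_def, Subgroup.map_commutator, Subgroup.map_top_of_surjective _ e.surjective]
  refine ⟨?_, ?_, ?_, ?_⟩
  · rw [← Nat.card_congr e.toEquiv, hs.card_tSub]
  · rw [← Monoid.exponent_eq_of_mulEquiv e, hs.exponent_tSub]
  · rw [← hZ, ← hC, hs.center_eq_commutator]
  · rw [← hs.card_center_tSub, ← hZ, Subgroup.card_map_of_injective e.injective]

theorem conj_eq (c d a b : F) (s : Fˣ) :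
    hs.tS c d * hs.dS s * hs.tS a b * (hs.tS c d * hs.dS s)⁻¹ =
      hs.tS ((s : F) ^ 2 * a) (sg m (s : F) ^ 2 * (s : F) ^ 2 * b + sg m c * ((s : F) ^ 2 * a)
        + sg m ((s : F) ^ 2 * a) * c) := by
  rw [_root_.mul_inv_rev, mul_assoc (hs.tS c d), hs.dS_conj_tS, ← mul_assoc, ← mul_assoc, mul_inv_cancel_right,
    hs.tS_inv, hs.tS_mul, hs.tS_mul]
  congr 1
  · linear_combination c * hs.two_eq_zero
  · rw [hs.sg_add]
    linear_combination (d + sg m c * c) * hs.two_eq_zero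

theorem stab_of_conj {x t : ↥(Cfsg.Sz F m)} (ht : t ∈ hs.tSub) (ht1 : t ≠ 1) (h : x * t * x⁻¹ ∈ hs.tSub) :
    x ∈ MulAction.stabilizer (↥(Cfsg.Sz F m)) (Cfsg.suzukiPointInfinity F) := by
  obtain ⟨a, b, rfl⟩ := ht
  obtain ⟨a', b', e⟩ := h
  have hne : hs.tS a' b' ≠ 1 := fun e1 => ht1 (by rwa [e1, mul_inv_eq_one, mul_eq_left] at e)
  refine hs.fix_of_tS hne (smul_mem x.2 (mem_ovoid.mpr (Or.inl rfl))) ?_
  show hs.tS a' b' • x • Cfsg.suzukiPointInfinity F = x • Cfsg.suzukiPointInfinity F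
  rw [← e, smul_smul, inv_mul_cancel_right, mul_smul]
  congr 1
  exact tG_infty a b

theorem not_conj_inv {a b : F} (ha : a ≠ 0) {h : ↥(Cfsg.Sz F m)} :
    h * hs.tS a b * h⁻¹ ≠ (hs.tS a b)⁻¹ := by
  intro e
  have hst := hs.stab_of_conj (hs.tS_mem a b) (fun e1 => ha (hs.tS_eq_one.mp e1).1)
    (by rw [e]; exact inv_mem (hs.tS_mem a b))
  obtain ⟨c, d, s, rfl⟩ := hs.decompB hst
  rw [hs.conj_eq, hs.tS_inv] at e
  obtain ⟨e1, e2⟩ := hs.tS_inj e
  rw [e1] at e2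
  have hs2 : (s : F) = 1 := hs.sq_inj (by rw [one_pow]; exact (mul_eq_right₀ ha).mp e1)
  rw [hs2, sg_one, one_pow, one_mul, one_mul] at e2
  set u := c / a with hu
  have hc : c = u * a := by rw [hu, div_mul_cancel₀ _ ha]
  rw [hc, sg_mul] at e2
  have h3 : sg m u + u + 1 = 0 := by
    refine (mul_eq_zero.mp (show sg m a * a * (sg m u + u + 1) = 0 from ?_)).resolve_left
      (mul_ne_zero (sg_ne_zero ha) ha)
    linear_combination e2 + (sg m a * a) * hs.two_eq_zero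
  have h4 : sg m u = u + 1 := by
    rw [← hs.add_eq_zero_iff, ← h3, add_assoc]
  have h5 : u ^ 2 = u := by
    rw [← hs.sg_sg (x := u), h4, hs.sg_add, sg_one, h4, add_assoc, hs.add_self, add_zero]
  rcases mul_eq_zero.mp (show u * (u - 1) = 0 by linear_combination h5) with h6 | h6
  · rw [h6, sg_zero, zero_add] at h4
    exact zero_ne_one h4
  · rw [sub_eq_zero] at h6
    rw [h6, sg_one, hs.add_self] at h4
    exact one_ne_zero h4

theorem isConj_inv_iff (P : Sylow 2 ↥(Cfsg.Sz F m)) (g : ↥(Cfsg.Sz F m))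
    (hg : g ∈ (P : Subgroup ↥(Cfsg.Sz F m))) (h1 : g ≠ 1) : IsConj g g⁻¹ ↔ orderOf g = 2 := by
  constructor
  · intro hc
    obtain ⟨k, hk⟩ := hs.exists_conj P
    rw [← hk] at hg
    obtain ⟨_, ⟨a, b, rfl⟩, rfl⟩ := hg
    obtain ⟨h, hh⟩ := isConj_iff.mp hc
    simp only [MulEquiv.coe_toMonoidHom, MulAut.conj_apply] at h1 hh ⊢
    by_cases ha : a = 0
    · subst ha
      refine orderOf_eq_prime ?_ h1
      rw [conj_pow, sq, hs.sq_tS, sg_zero, zero_mul, hs.tS_zero, mul_one, mul_inv_cancel]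
    · refine absurd ?_ (hs.not_conj_inv (b := b) (h := k⁻¹ * h * k) ha)
      have := congrArg (fun z => k⁻¹ * z * k) hh
      simp only [_root_.mul_inv_rev, inv_inv, mul_assoc, inv_mul_cancel, mul_one, inv_mul_cancel_left] at this ⊢
      exact this
  · intro h
    rw [show g⁻¹ = g from inv_eq_of_mul_eq_one_right (by rw [← sq, ← h, pow_orderOf_eq_one])]

theorem normalizer_tSub : Subgroup.normalizer (hs.tSub : Set ↥(Cfsg.Sz F m)) =
    MulAction.stabilizer (↥(Cfsg.Sz F m)) (Cfsg.suzukiPointInfinity F) := by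
  refine le_antisymm (fun g hg => ?_) (fun g hg => ?_)
  · refine hs.stab_of_conj (hs.tS_mem 0 1) (fun e => one_ne_zero (hs.tS_eq_one.mp e).2) ?_
    exact (Subgroup.mem_normalizer_iff.mp hg _).mp (hs.tS_mem 0 1)
  · have key : ∀ x ∈ MulAction.stabilizer (↥(Cfsg.Sz F m)) (Cfsg.suzukiPointInfinity F),
        ∀ t ∈ hs.tSub, x * t * x⁻¹ ∈ hs.tSub := by
      intro x hx t ht
      obtain ⟨c, d, s, rfl⟩ := hs.decompB hx
      obtain ⟨a, b, rfl⟩ := ht
      rw [hs.conj_eq]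
      exact hs.tS_mem _ _
    refine Subgroup.mem_normalizer_iff.mpr fun t => ⟨key g hg t, fun h => ?_⟩
    have := key g⁻¹ (inv_mem hg) _ h
    rwa [inv_inv, ← mul_assoc, ← mul_assoc, inv_mul_cancel, one_mul, inv_mul_cancel_right] at this

theorem le_top_of_moves (M : Subgroup ↥(Cfsg.Sz F m)) (hT : hs.tSub ≤ M) {g : ↥(Cfsg.Sz F m)} (hg : g ∈ M)
    (hgs : g ∉ MulAction.stabilizer (↥(Cfsg.Sz F m)) (Cfsg.suzukiPointInfinity F)) : M = ⊤ := by
  rcases hs.decomp g with ⟨a, b, s, rfl⟩ | ⟨a, b, c, d, u, rfl⟩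
  · exact absurd (hs.memB a b s) hgs
  have hwd : hs.wS * hs.tS c d * hs.dS u ∈ M := by
    have := mul_mem (inv_mem (hT (hs.tS_mem a b))) hg
    rwa [← mul_assoc, ← mul_assoc, ← mul_assoc, inv_mul_cancel, one_mul] at this
  have hdconj : ∀ (s : Fˣ) (x y : F), ∃ x' y', hs.dS s * hs.tS x y * (hs.dS s)⁻¹ = hs.tS x' y' :=
    fun s x y => ⟨_, _, by rw [hs.dS_conj_tS, mul_inv_cancel_right]⟩
  have hwT : ∀ x y, hs.wS * hs.tS x y * hs.wS ∈ M := by
    intro x y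
    obtain ⟨x₁, y₁, e1⟩ : (hs.tS c d)⁻¹ * hs.tS x y * hs.tS c d ∈ hs.tSub :=
      mul_mem (mul_mem (inv_mem (hs.tS_mem c d)) (hs.tS_mem x y)) (hs.tS_mem c d)
    obtain ⟨x₂, y₂, e2⟩ := hdconj u⁻¹ x₁ y₁
    have := mul_mem (mul_mem hwd (hT (hs.tS_mem x₂ y₂))) (inv_mem hwd)
    rw [← e2, ← e1, ← hs.dS_inv, inv_inv, _root_.mul_inv_rev, _root_.mul_inv_rev, hs.wS_inv] at this
    simpa only [mul_assoc, mul_inv_cancel_left, inv_mul_cancel_left] using this
  let K : Subgroup ↥(Cfsg.Sz F m) :=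
    Subgroup.closure (hs.tSub ∪ {g | hs.wS * g * hs.wS ∈ hs.tSub} : Set ↥(Cfsg.Sz F m))
  have hKM : K ≤ M := by
    rw [Subgroup.closure_le]
    rintro g (hg | hg)
    · exact hT hg
    · obtain ⟨x, y, e⟩ := hg
      have : g = hs.wS * hs.tS x y * hs.wS := by
        rw [← e]; simp only [mul_assoc, hs.wS_sq, mul_one]; rw [← mul_assoc, hs.wS_sq, one_mul]
      rw [this]; exact hwT x y
  have hnorm : ∀ n : ↥(Cfsg.Sz F m), (∀ x ∈ (hs.tSub ∪ {g | hs.wS * g * hs.wS ∈ hs.tSub} : Set ↥(Cfsg.Sz F m)),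
      n * x * n⁻¹ ∈ K) → ∀ x ∈ K, n * x * n⁻¹ ∈ K := fun n h x hx => by
    have : K ≤ K.comap (MulAut.conj n).toMonoidHom := by
      rw [Subgroup.closure_le]; exact fun y hy => h y hy
    exact this hx
  have hd : ∀ (s : Fˣ) (x : ↥(Cfsg.Sz F m)), x ∈ K → hs.dS s * x * (hs.dS s)⁻¹ ∈ K := by
    intro s
    refine hnorm _ ?_
    rintro x (hx | hx)
    · obtain ⟨a, b, rfl⟩ := hx
      obtain ⟨a', b', e⟩ := hdconj s a b
      rw [e]
      exact Subgroup.subset_closure (Or.inl (hs.tS_mem _ _))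
    · obtain ⟨a, b, e⟩ := hx
      obtain ⟨a', b', e'⟩ := hdconj s⁻¹ a b
      refine Subgroup.subset_closure (Or.inr ?_)
      refine ⟨a', b', ?_⟩
      have hc : hs.wS * hs.dS s = hs.dS s⁻¹ * hs.wS := by
        rw [← hs.wS_conj_dS s]; simp only [mul_assoc, hs.wS_sq, mul_one]
      rw [← e', ← e, hs.dS_inv, hs.dS_inv, inv_inv, mul_assoc _ _ (hs.dS s), mul_assoc _ _ (hs.dS s), hc]
      simp only [← mul_assoc]
      rw [hc]
  have hw : ∀ x ∈ K, hs.wS * x * hs.wS⁻¹ ∈ K := by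
    refine hnorm _ ?_
    rintro x (hx | hx)
    · refine Subgroup.subset_closure (Or.inr ?_)
      show hs.wS * (hs.wS * x * hs.wS⁻¹) * hs.wS ∈ hs.tSub
      rwa [hs.wS_inv, ← mul_assoc, ← mul_assoc, hs.wS_sq, one_mul, mul_assoc, hs.wS_sq, mul_one]
    · refine Subgroup.subset_closure (Or.inl ?_)
      show hs.wS * x * hs.wS⁻¹ ∈ hs.tSub
      rw [hs.wS_inv]
      exact hx
  have hN : Subgroup.normalizer (K : Set ↥(Cfsg.Sz F m)) = ⊤ := by
    have mk : ∀ n : ↥(Cfsg.Sz F m), (∀ x ∈ K, n * x * n⁻¹ ∈ K) → (∀ x ∈ K, n⁻¹ * x * n⁻¹⁻¹ ∈ K) →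
        n ∈ Subgroup.normalizer (K : Set ↥(Cfsg.Sz F m)) := fun n h1 h2 =>
      Subgroup.mem_normalizer_iff.mpr fun x => ⟨h1 x, fun h => by
        have := h2 _ h
        rwa [inv_inv, ← mul_assoc, ← mul_assoc, inv_mul_cancel, one_mul, inv_mul_cancel_right] at this⟩
    refine hs.gen_top _ (fun a b => Subgroup.le_normalizer (Subgroup.subset_closure (Or.inl (hs.tS_mem a b))))
      (fun s => mk _ (hd s) ?_) (mk _ hw ?_)
    · rw [hs.dS_inv]
      exact hd s⁻¹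
    · rw [hs.wS_inv]
      exact hw
  haveI := Subgroup.normalizer_eq_top_iff.mp hN
  have hKtop := hs.top_of_tS K fun a b => Subgroup.subset_closure (Or.inl (hs.tS_mem a b))
  exact top_unique (hKtop ▸ hKM)

theorem isCoatom_stab :
    IsCoatom (MulAction.stabilizer (↥(Cfsg.Sz F m)) (Cfsg.suzukiPointInfinity F)) := by
  refine ⟨fun e => ?_, fun M hM => ?_⟩
  · have : hs.wS ∈ MulAction.stabilizer (↥(Cfsg.Sz F m)) (Cfsg.suzukiPointInfinity F) := e ▸ Subgroup.mem_top _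
    exact ptSz_ne_infty (m := m) (0 : F) 0 ((wG_infty (m := m)).symm.trans this)
  · obtain ⟨g, hg, hgs⟩ := SetLike.exists_of_lt hM
    exact hs.le_top_of_moves M (hs.normalizer_tSub ▸ Subgroup.le_normalizer |>.trans hM.le) hg hgs

theorem sylow_unique_maximal (P : Sylow 2 ↥(Cfsg.Sz F m)) :
    IsCoatom (Subgroup.normalizer ((P : Subgroup ↥(Cfsg.Sz F m)) : Set ↥(Cfsg.Sz F m))) ∧
      ∀ M : Subgroup ↥(Cfsg.Sz F m), IsCoatom M → (P : Subgroup ↥(Cfsg.Sz F m)) ≤ M →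
        M = Subgroup.normalizer ((P : Subgroup ↥(Cfsg.Sz F m)) : Set ↥(Cfsg.Sz F m)) := by
  obtain ⟨k, hk⟩ := hs.exists_conj P
  let φ := (MulAut.conj k).mapSubgroup
  have hN : Subgroup.normalizer ((P : Subgroup ↥(Cfsg.Sz F m)) : Set ↥(Cfsg.Sz F m)) =
      φ (MulAction.stabilizer (↥(Cfsg.Sz F m)) (Cfsg.suzukiPointInfinity F)) := by
    rw [← hs.normalizer_tSub, ← hk]
    exact (Subgroup.map_equiv_normalizer_eq hs.tSub (MulAut.conj k)).symm
  rw [hN]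
  refine ⟨(OrderIso.isCoatom_iff φ _).mpr hs.isCoatom_stab, fun M hM hP => ?_⟩
  have hM' : IsCoatom (φ.symm M) := (OrderIso.isCoatom_iff φ.symm _).mpr hM
  have hT : hs.tSub ≤ φ.symm M := by
    rw [← φ.le_iff_le, φ.apply_symm_apply]
    exact hk.le.trans hP
  have hle : φ.symm M ≤ MulAction.stabilizer (↥(Cfsg.Sz F m)) (Cfsg.suzukiPointInfinity F) := by
    intro g hg
    by_contra hgs
    exact hM'.1 (hs.le_top_of_moves _ hT hg hgs)
  rw [(hM'.le_iff_eq hs.isCoatom_stab.1).mp hle, φ.apply_symm_apply]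

theorem two_generated : ∃ a b : ↥(Cfsg.Sz F m), Subgroup.closure ({a, b} : Set ↥(Cfsg.Sz F m)) = ⊤ := by
  obtain ⟨l, hl⟩ := IsCyclic.exists_generator (α := Fˣ)
  refine ⟨hs.dS l, hs.tS 1 0 * hs.wS, ?_⟩
  set H := Subgroup.closure ({hs.dS l, hs.tS 1 0 * hs.wS} : Set ↥(Cfsg.Sz F m))
  have ha : hs.dS l ∈ H := Subgroup.subset_closure (Or.inl rfl)
  have hb : hs.tS 1 0 * hs.wS ∈ H := Subgroup.subset_closure (Or.inr rfl)
  have hD : ∀ s, hs.dS s ∈ H := by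
    intro s
    obtain ⟨n, rfl⟩ := Subgroup.mem_zpowers_iff.mp (hl s)
    show hs.dHom (l ^ n) ∈ H
    rw [map_zpow]
    exact zpow_mem ha n
  have hl1 : l ≠ 1 := by
    rintro rfl
    obtain ⟨s, hs1⟩ := hs.exists_unit
    obtain ⟨n, rfl⟩ := Subgroup.mem_zpowers_iff.mp (hl s)
    exact hs1 (one_zpow n)
  obtain ⟨A, B, hA, hAB⟩ : ∃ A B, A ≠ 0 ∧ hs.tS A B ∈ H := by
    suffices ∃ B, hs.tS (1 + (l : F) ^ 2 * 1) B ∈ H by
      obtain ⟨B, hB⟩ := this
      refine ⟨_, B, ?_, hB⟩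
      rw [mul_one, Ne, hs.add_eq_zero_iff]
      exact fun e => hl1 (Units.ext (hs.sq_inj (by rw [← e]; simp)))
    · have h1 := mul_mem (mul_mem (mul_mem hb ha) (inv_mem hb)) ha
      have e : hs.tS 1 0 * hs.wS * hs.dS l * (hs.tS 1 0 * hs.wS)⁻¹ * hs.dS l =
          hs.tS 1 0 * ((hs.dS l⁻¹) * (hs.tS 1 0)⁻¹ * (hs.dS l⁻¹)⁻¹) := by
        rw [_root_.mul_inv_rev, hs.wS_inv, hs.dS_inv l⁻¹, inv_inv, ← hs.wS_conj_dS l]
        simp only [mul_assoc]
      rw [e, hs.tS_inv, hs.dS_conj_tS, mul_inv_cancel_right, hs.tS_mul] at h1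
      have h2 := mul_mem (mul_mem (hD l) h1) (inv_mem (hD l))
      rw [hs.dS_conj_tS, mul_inv_cancel_right] at h2
      have e2 : (l : F) ^ 2 * (1 + ((l⁻¹ : Fˣ) : F) ^ 2 * 1) = 1 + (l : F) ^ 2 * 1 := by
        rw [Units.val_inv_eq_inv_val]
        have := l.ne_zero
        field_simp
        ring
      rw [e2] at h2
      exact ⟨_, h2⟩
  have h0 : ∀ b, hs.tS 0 b ∈ H := by
    intro b
    by_cases hb0 : b = 0
    · rw [hb0, hs.tS_zero]; exact one_mem H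
    have hsq := mul_mem hAB hAB
    rw [hs.sq_tS] at hsq
    obtain ⟨s, hs'⟩ := hs.exists_sgmul (b / (sg m A * A))
    obtain ⟨r, hr⟩ := hs.exists_sq s
    have hne : sg m A * A ≠ 0 := mul_ne_zero (sg_ne_zero hA) hA
    have hs0 : s ≠ 0 := fun e => div_ne_zero hb0 hne (by rw [← hs', e, mul_zero])
    have hr0 : r ≠ 0 := fun e => hs0 (by rw [← hr, e]; simp)
    have h := mul_mem (mul_mem (hD (Units.mk0 r hr0)) hsq) (inv_mem (hD (Units.mk0 r hr0)))
    rw [hs.dS_conj_tS, mul_inv_cancel_right, Units.val_mk0, mul_zero] at h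
    have e : sg m r ^ 2 * r ^ 2 * (sg m A * A) = b := by
      rw [show sg m r ^ 2 = sg m (r ^ 2) by rw [sq, sq, sg_mul], hr, hs', div_mul_cancel₀ _ hne]
    rwa [e] at h
  have hT : ∀ a b, hs.tS a b ∈ H := by
    intro a b
    by_cases ha0 : a = 0
    · rw [ha0]; exact h0 b
    obtain ⟨r, hr⟩ := hs.exists_sq (a / A)
    have hr0 : r ≠ 0 := fun e => div_ne_zero ha0 hA (by rw [← hr, e]; simp)
    have h := mul_mem (mul_mem (hD (Units.mk0 r hr0)) hAB) (inv_mem (hD (Units.mk0 r hr0)))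
    rw [hs.dS_conj_tS, mul_inv_cancel_right, Units.val_mk0, hr, div_mul_cancel₀ _ hA] at h
    have h2 := mul_mem h (h0 (b - sg m r ^ 2 * (a / A) * B))
    rw [hs.tS_mul, add_zero, mul_zero, add_zero, add_sub_cancel] at h2
    exact h2
  refine hs.gen_top H hT hD ?_
  have := mul_mem (inv_mem (hT 1 0)) hb
  rwa [inv_mul_cancel_left] at this

end SzHyp

end Cfsg.Agent.Suzuki
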