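import Cfsg.Agent.Lib.Suzuki.Props
import Mathlib.LinearAlgebra.Projectivization.Independence

/-! The action on the points is a Zassenhaus group; the alternating form; no three points on a line. -/

set_option autoImplicit false

open Matrix
open scoped Pointwise

namespace Cfsg.Agent.Suzuki

variable {F : Type*} [Field F] [Fintype F] {m : ℕ}

/-- The distinguished point among the points. -/
def infPt (F : Type*) [Field F] (m : ℕ) : ↥(Cfsg.suzukiOvoid F m) := ⟨_, mem_ovoid.mpr (Or.inl rfl)⟩

/-- A finite point among the points. -/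
def finPt (m : ℕ) (x y : F) : ↥(Cfsg.suzukiOvoid F m) := ⟨_, mem_ovoid.mpr (Or.inr ⟨x, y, rfl⟩)⟩

namespace SzHyp

variable (hs : SzHyp F m)

include hs

theorem coe_smul' (g : ↥(Cfsg.Sz F m)) (p : ↥(Cfsg.suzukiOvoid F m)) :
    ((g • p : ↥(Cfsg.suzukiOvoid F m)) : Projectivization F (Fin 4 → F)) = g • (p : Projectivization F (Fin 4 → F)) :=
  rfl

theorem isMultiplyPretransitive : MulAction.IsMultiplyPretransitive (↥(Cfsg.Sz F m)) (↥(Cfsg.suzukiOvoid F m)) 2 := by
  rw [MulAction.is_two_pretransitive_iff]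
  intro a b c d hab hcd
  obtain ⟨k, ka, kb⟩ := hs.exists_move a.2 b.2 (fun e => hab (Subtype.ext e))
  obtain ⟨k', kc, kd⟩ := hs.exists_move c.2 d.2 (fun e => hcd (Subtype.ext e))
  refine ⟨k'⁻¹ * k, ?_, ?_⟩ <;> refine Subtype.ext ?_ <;> rw [hs.coe_smul', mul_smul, inv_smul_eq_iff]
  · rw [ka, kc]
  · rw [kb, kd]

theorem zassenhaus : Cfsg.IsZassenhausGroup (↥(Cfsg.Sz F m)) (↥(Cfsg.suzukiOvoid F m)) := by
  have h00 : (finPt m (0 : F) 0) ≠ infPt F m := fun e => ptSz_ne_infty 0 0 (congrArg Subtype.val e)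
  have h10 : (finPt m (1 : F) 0) ≠ infPt F m := fun e => ptSz_ne_infty 1 0 (congrArg Subtype.val e)
  have h01 : (finPt m (0 : F) 0) ≠ finPt m 1 0 := fun e => zero_ne_one (ptSz_inj (congrArg Subtype.val e)).1
  refine ⟨⟨fun {g h} e => ?_⟩, hs.isMultiplyPretransitive, ?_, ?_, ?_⟩
  · have hfix : ∀ p : ↥(Cfsg.suzukiOvoid F m), (h⁻¹ * g) • (p : Projectivization F (Fin 4 → F)) = p := fun p => by
      rw [mul_smul, inv_smul_eq_iff]; exact congrArg Subtype.val (e p)
    exact (inv_mul_eq_one.mp (hs.fix_three (infPt F m).2 (finPt m 0 0).2 (finPt m 1 0).2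
      (fun e => h00.symm (Subtype.ext e)) (fun e => h01 (Subtype.ext e)) (fun e => h10.symm (Subtype.ext e))
      (hfix _) (hfix _) (hfix _))).symm
  · intro g a b c hab hbc hac ha hb hc
    exact hs.fix_three a.2 b.2 c.2 (fun e => hab (Subtype.ext e)) (fun e => hbc (Subtype.ext e))
      (fun e => hac (Subtype.ext e)) (congrArg Subtype.val ha) (congrArg Subtype.val hb) (congrArg Subtype.val hc)
  · obtain ⟨s, hs1⟩ := hs.exists_unit
    refine ⟨hs.dS s, fun e => hs1 (hs.dG_injective ((congrArg Subtype.val e).trans dG_one.symm)), infPt F m, finPt m 0 0,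
      h00.symm, Subtype.ext (dG_infty s), Subtype.ext ?_⟩
    show dG m s • ptSz m (0 : F) 0 = _
    rw [hs.dG_point, mul_zero, mul_zero]
    rfl
  · intro N hN hT
    rcases eq_or_ne N ⊥ with rfl | hne
    · exfalso
      obtain ⟨n, hn⟩ := hT.exists_smul_eq (infPt F m) (finPt m 0 0)
      rw [show n = 1 from Subsingleton.elim n 1, one_smul] at hn
      exact h00 hn.symm
    · refine ⟨infPt F m, fun hb => ?_⟩
      have hmem : hs.tS 0 1 ∈ N := by rw [hs.top_of_normal N hne]; exact Subgroup.mem_top _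
      have : (⟨_, hmem⟩ : ↥N) ∈ MulAction.stabilizer (↥N) (infPt F m) := Subtype.ext (tG_infty (0 : F) 1)
      rw [hb, Subgroup.mem_bot] at this
      have := congrArg (fun z : ↥N => ((z : ↥(Cfsg.Sz F m)) : Matrix.SpecialLinearGroup (Fin 4) F)) this
      exact one_ne_zero (α := F) (tG_inj (this.trans (tG_zero (F := F) (m := m)).symm)).2

theorem form_preserved {g : Matrix.SpecialLinearGroup (Fin 4) F} (hg : g ∈ Cfsg.Sz F m) :
    (g : Matrix (Fin 4) (Fin 4) F).transpose * Cfsg.suzukiForm F * (g : Matrix (Fin 4) (Fin 4) F) =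
      Cfsg.suzukiForm F := by
  have hmul : ∀ a b : Matrix (Fin 4) (Fin 4) F, a.transpose * Cfsg.suzukiForm F * a = Cfsg.suzukiForm F →
      b.transpose * Cfsg.suzukiForm F * b = Cfsg.suzukiForm F →
      (a * b).transpose * Cfsg.suzukiForm F * (a * b) = Cfsg.suzukiForm F := by
    intro a b ha hb
    calc _ = b.transpose * (a.transpose * Cfsg.suzukiForm F * a) * b := by
          rw [Matrix.transpose_mul]; simp only [Matrix.mul_assoc]
      _ = _ := by rw [ha, hb]
  have ht : ∀ a b : F, (tMat m a b).transpose * Cfsg.suzukiForm F * tMat m a b = Cfsg.suzukiForm F := by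
    intro a b
    ext i j; fin_cases i <;> fin_cases j <;>
      simp [tMat, Cfsg.suzukiForm, fSz, Matrix.mul_apply, Fin.sum_univ_succ]
    all_goals first
      | linear_combination hs.add_self a
      | linear_combination hs.add_self (b + sg m a * a) + (a * sg m a) * hs.two_eq_zero
      | linear_combination hs.add_self (sg m a)
      | linear_combination (b + sg m a * a) * hs.two_eq_zero
      | linear_combination (b * a + sg m a * a ^ 2 + sg m b + a * b) * hs.two_eq_zero
      | linear_combination (b * a + sg m a * a ^ 2 + sg m b) * hs.two_eq_zero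
      | linear_combination (sg m a * a) * hs.two_eq_zero
      | linear_combination b * hs.two_eq_zero
      | linear_combination (a * b + sg m a * a ^ 2 + sg m b + a * b) * hs.two_eq_zero
  have hd : ∀ s : F, s ≠ 0 → (dMat m s).transpose * Cfsg.suzukiForm F * dMat m s = Cfsg.suzukiForm F := by
    intro s h
    have := sg_ne_zero (m := m) h
    ext i j; fin_cases i <;> fin_cases j <;> simp [dMat, Cfsg.suzukiForm, Matrix.mul_apply, Fin.sum_univ_succ]
    all_goals field_simp
  have hw : (wMat F).transpose * Cfsg.suzukiForm F * wMat F = Cfsg.suzukiForm F := by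
    ext i j; fin_cases i <;> fin_cases j <;> simp [wMat, Cfsg.suzukiForm, Matrix.mul_apply, Fin.sum_univ_succ]
  rcases hs.exists_decomp hg with ⟨a, b, s, rfl⟩ | ⟨a, b, c, d, s, rfl⟩
  · exact hmul _ _ (ht a b) (hd _ s.ne_zero)
  · exact hmul _ _ (hmul _ _ (ht a b) hw) (hmul _ _ (ht c d) (hd _ s.ne_zero))

theorem stab_two_equiv :
    Nonempty (↥(MulAction.stabilizer (Cfsg.Sz F m) (Cfsg.suzukiPointInfinity F) ⊓
        MulAction.stabilizer (Cfsg.Sz F m) (Cfsg.suzukiPointZero F)) ≃* Fˣ) := by
  have hmem : ∀ s, hs.dS s ∈ MulAction.stabilizer (Cfsg.Sz F m) (Cfsg.suzukiPointInfinity F) ⊓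
      MulAction.stabilizer (Cfsg.Sz F m) (Cfsg.suzukiPointZero F) := fun s => by
    refine ⟨dG_infty s, ?_⟩
    show hs.dS s • Cfsg.suzukiPointZero F = _
    rw [pointZero_eq (m := m), Subgroup.smul_def, hs.dG_point, mul_zero, mul_zero]
  refine ⟨(MulEquiv.ofBijective (hs.dHom.codRestrict _ hmem) ⟨fun s t h => ?_, ?_⟩).symm⟩
  · exact hs.dG_injective (congrArg Subtype.val (congrArg Subtype.val h))
  · rintro ⟨g, h1, h0⟩
    replace h0 : g • Cfsg.suzukiPointZero F = _ := h0
    rw [pointZero_eq (m := m)] at h0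
    obtain ⟨s, e⟩ := hs.exists_dG g.2 h1 h0
    exact ⟨s, Subtype.ext (Subtype.ext e.symm)⟩

theorem independent_three (p : Fin 3 ↪ Cfsg.suzukiOvoid F m) :
    Projectivization.Independent (fun i => (p i : Projectivization F (Fin 4 → F))) := by
  have hne : ∀ i j, i ≠ j → (p i : Projectivization F (Fin 4 → F)) ≠ p j := fun i j h e =>
    h (p.injective (Subtype.ext e))
  obtain ⟨k, k0, k1⟩ := hs.exists_move (p 0).2 (p 1).2 (hne 0 1 (by decide))
  rcases mem_ovoid.mp (smul_mem k.2 (p 2).2) with h | ⟨x, y, h⟩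
  · exact absurd (MulAction.injective k (k0.trans h.symm)) (hne 0 2 (by decide))
  set g : Matrix.SpecialLinearGroup (Fin 4) F := (k : Matrix.SpecialLinearGroup (Fin 4) F) with hg
  set f : Fin 3 → Fin 4 → F := fun i => ((g⁻¹ : Matrix.SpecialLinearGroup (Fin 4) F) : Matrix (Fin 4) (Fin 4) F) *ᵥ
    (![![1, 0, 0, 0], vSz m 0 0, vSz m x y] i) with hf
  have hxy : ¬(x = 0 ∧ y = 0) := by
    rintro ⟨rfl, rfl⟩
    exact hne 1 2 (by decide) (MulAction.injective k (k1.trans h.symm))
  have hinj : Function.Injective fun v : Fin 4 → F =>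
      ((g⁻¹ : Matrix.SpecialLinearGroup (Fin 4) F) : Matrix (Fin 4) (Fin 4) F) *ᵥ v :=
    Matrix.mulVec_injective_iff_isUnit.mpr
      ((Matrix.isUnit_iff_isUnit_det _).mpr (by rw [(g⁻¹).2]; exact isUnit_one))
  have hv : ∀ i, ![![1, 0, 0, 0], vSz m 0 0, vSz m x y] i ≠ 0 := fun i => by
    fin_cases i
    exacts [infty_ne, vSz_ne 0 0, vSz_ne x y]
  have hnz : ∀ i, f i ≠ 0 := fun i e => hv i (hinj (by simpa [hf] using e))
  have hli : LinearIndependent F f := by
    have hL : LinearIndependent F ![![1, 0, 0, 0], vSz m 0 0, vSz m x y] := by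
      rw [Fintype.linearIndependent_iff]
      intro c hc
      simp only [Fin.sum_univ_three, vSz_zero] at hc
      have e0 := congrFun hc 0
      have e1 := congrFun hc 1
      have e2 := congrFun hc 2
      have e3 := congrFun hc 3
      simp [vSz] at e0 e1 e2 e3
      have h2 : c 2 = 0 := by
        by_contra h2
        exact hxy ⟨e2.resolve_left h2, e1.resolve_left h2⟩
      intro i; fin_cases i
      · simpa [h2] using e0
      · simpa [h2] using e3
      · exact h2
    exact hL.map' (Matrix.mulVecLin ((g⁻¹ : Matrix.SpecialLinearGroup (Fin 4) F) : Matrix (Fin 4) (Fin 4) F))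
      (LinearMap.ker_eq_bot.mpr hinj)
  have e : (fun i => (p i : Projectivization F (Fin 4 → F))) = fun i => Projectivization.mk F (f i) (hnz i) := by
    funext i
    have hk : ∀ i, k • (p i : Projectivization F (Fin 4 → F)) =
        Projectivization.mk F (![![1, 0, 0, 0], vSz m 0 0, vSz m x y] i) (hv i) := fun i => by
      fin_cases i
      exacts [k0, k1, h]
    rw [← inv_smul_smul k (p i : Projectivization F (Fin 4 → F)), hk i]
    rfl
  rw [e]
  exact Projectivization.Independent.mk f hnz hli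

end SzHyp

end Cfsg.Agent.Suzuki
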