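import Cfsg.Agent.Lib.Suzuki.Tori
import Cfsg.Agent.Lib.Suzuki.Sylow
import Cfsg.Agent.Lib.Suzuki.TI
import Cfsg.Agent.Lib.GL2.CentralExt
import Cfsg.Agent.Lib.Suzuki.Zass
import Cfsg.Agent.Lib.Struct.SchurTransfer
import Mathlib

/-!
Central extensions of the Suzuki groups.
-/

set_option autoImplicit false
set_option linter.unusedSectionVars false

open scoped commutatorElement Pointwise

namespace Cfsg.Agent.Suzuki.Multiplier

variable {F : Type*} [Field F] [Fintype F] {m : ℕ}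

/-- A biadditive map invariant under a group of dilatations vanishes. -/
theorem vanish {G : Type*} [Group G] (B : F → F → G) (σ : F → F) (h1 : σ 1 = 1)
    (hσ : ∀ x, x ≠ 0 → σ x ≠ 0)
    (hl : ∀ x x' y, B (x + x') y = B x y * B x' y) (hr : ∀ x y y', B x (y + y') = B x y * B x y')
    (hinv : ∀ s x y, s ≠ 0 → B (s * x) (σ s * y) = B x y)
    (hc : ∃ a : F, a ≠ 0 ∧ 1 + a ≠ 0 ∧ (σ (1 + a))⁻¹ - (1 + (σ a)⁻¹) ≠ 0) (x y : F) : B x y = 1 := by
  obtain ⟨a, ha, ha1, hc⟩ := hc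
  let φ : F → G := fun z => B 1 z
  have hB : ∀ u v, u ≠ 0 → B u v = φ ((σ u)⁻¹ * v) := by
    intro u v hu
    have := hinv u 1 ((σ u)⁻¹ * v) hu
    rwa [mul_one, mul_inv_cancel_left₀ (hσ u hu)] at this
  have hφ : ∀ z, φ z = 1 := by
    intro z
    set c := (σ (1 + a))⁻¹ - (1 + (σ a)⁻¹)
    have e : φ ((σ (1 + a))⁻¹ * (z / c)) = φ ((1 + (σ a)⁻¹) * (z / c)) := by
      rw [← hB _ _ ha1, hl, hB _ _ ha]
      show φ (z / c) * _ = _
      rw [add_mul, one_mul]
      exact (hr 1 _ _).symm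
    have e2 := hr 1 (c * (z / c)) ((1 + (σ a)⁻¹) * (z / c))
    rw [show c * (z / c) + (1 + (σ a)⁻¹) * (z / c) = (σ (1 + a))⁻¹ * (z / c) by rw [← add_mul]; simp [c]] at e2
    change φ _ = φ _ * φ _ at e2
    rw [e, eq_comm, mul_eq_right, mul_div_cancel₀ _ hc] at e2
    exact e2
  by_cases hx : x = 0
  · have := hl 0 0 y
    rw [add_zero, left_eq_mul] at this
    rw [hx, this]
  · rw [hB x y hx, hφ]

variable (hs : SzHyp F m)

/-- The weight of the torus on the centre of the unipotent group. -/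
def mu (x : F) : F := sg m x * x

theorem exists_good (hm : 2 ≤ m) (hs : SzHyp F m) :
    (∃ a : F, a ≠ 0 ∧ 1 + a ≠ 0 ∧ (id (1 + a) : F)⁻¹ - (1 + (id a : F)⁻¹) ≠ 0) ∧
    ∃ a : F, a ≠ 0 ∧ 1 + a ≠ 0 ∧ (mu (m := m) (1 + a))⁻¹ - (1 + (mu (m := m) a)⁻¹) ≠ 0 := by
  classical
  have hne : ∀ {u v : F}, u ≠ 0 → v ≠ 0 → u⁻¹ - (1 + v⁻¹) = 0 → v + u * v + u = 0 := by
    intro u v hu hv h
    field_simp at h
    have h2 := hs.two_eq_zero
    linear_combination h + (u * v + u) * h2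
  have hroot : ∀ p : Polynomial F, p.natDegree + 2 < Fintype.card F → p.eval 0 = 1 →
      ∃ a : F, a ≠ 0 ∧ 1 + a ≠ 0 ∧ p.eval a ≠ 0 := by
    intro p hp h0
    by_contra hall
    push Not at hall
    have hp0 : p ≠ 0 := fun e => by rw [e, Polynomial.eval_zero] at h0; exact zero_ne_one h0
    have hsub : (Finset.univ : Finset F) ⊆ insert 0 (insert (-1) p.roots.toFinset) := by
      intro a _
      by_cases ha : a = 0
      · simp [ha]
      by_cases ha1 : 1 + a = 0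
      · simp [eq_neg_of_add_eq_zero_right ha1]
      exact Finset.mem_insert_of_mem (Finset.mem_insert_of_mem (by simp [hp0, hall a ha ha1]))
    have h1 := Finset.card_le_card hsub
    have h2 := Finset.card_insert_le (0 : F) (insert (-1) p.roots.toFinset)
    have h3 := Finset.card_insert_le (-1 : F) p.roots.toFinset
    have h4 := (Multiset.toFinset_card_le p.roots).trans (Polynomial.card_roots' p)
    rw [Finset.card_univ] at h1
    omega
  have hθ : 2 * 2 ^ (m + 1) + 4 < Fintype.card F := by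
    rw [hs.card]
    have h4 : 4 ≤ 2 ^ m := by
      calc 4 = 2 ^ 2 := rfl
        _ ≤ 2 ^ m := Nat.pow_le_pow_right two_pos hm
    rw [show 2 ^ (2 * m + 1) = 2 * (2 ^ m * 2 ^ m) by rw [← pow_add, ← pow_succ']; ring_nf, pow_succ]
    nlinarith
  open Polynomial in
  constructor
  · obtain ⟨a, ha, ha1, he⟩ := hroot (1 + X + X ^ 2) (by
      have : (1 + X + X ^ 2 : F[X]).natDegree ≤ 2 := by compute_degree
      omega) (by simp)
    refine ⟨a, ha, ha1, fun h => he ?_⟩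
    have h' := hne (u := 1 + a) (v := a) ha1 ha h
    simp only [eval_add, eval_one, eval_X, eval_pow]
    linear_combination h' - a * hs.two_eq_zero
  · obtain ⟨a, ha, ha1, he⟩ := hroot (X * X ^ (2 ^ (m + 1)) + ((X + 1) * (X ^ (2 ^ (m + 1)) + 1)) * (X * X ^ (2 ^ (m + 1))) +
        (X + 1) * (X ^ (2 ^ (m + 1)) + 1)) (by
      have hA : (X * X ^ (2 ^ (m + 1)) : F[X]).natDegree ≤ 1 + 2 ^ (m + 1) :=
        natDegree_mul_le_of_le natDegree_X_le (natDegree_X_pow_le _)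
      have hB : ((X + 1) * (X ^ (2 ^ (m + 1)) + 1) : F[X]).natDegree ≤ 1 + 2 ^ (m + 1) :=
        natDegree_mul_le_of_le (natDegree_add_le_of_degree_le natDegree_X_le (by simp))
          (natDegree_add_le_of_degree_le (natDegree_X_pow_le _) (by simp))
      have := natDegree_add_le_of_degree_le (natDegree_add_le_of_degree_le
        (hA.trans (Nat.le_add_left _ (1 + 2 ^ (m + 1)))) (natDegree_mul_le_of_le hB hA))
        (hB.trans (Nat.le_add_left _ (1 + 2 ^ (m + 1))))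
      omega) (by simp)
    refine ⟨a, ha, ha1, fun h => he ?_⟩
    have h' := hne (mul_ne_zero (sg_ne_zero ha1) ha1) (mul_ne_zero (sg_ne_zero ha) ha) h
    rw [hs.sg_add, sg_one] at h'
    simp only [eval_add, eval_one, eval_X, eval_pow, eval_mul]
    simp only [sg] at h'
    linear_combination h'

section Ext

variable {G : Type*} [Group G] (f : G →* ↥(Cfsg.Sz F m))

theorem comm_congr (hc : f.ker ≤ Subgroup.center G) {x x' y y' : G} (hx : f x = f x') (hy : f y = f y') :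
    ⁅x, y⁆ = ⁅x', y'⁆ := by
  have key : ∀ {u u' : G}, f u = f u' → ∀ w : G, ⁅u, w⁆ = ⁅u', w⁆ := by
    intro u u' hu w
    obtain ⟨k, rfl⟩ : ∃ k, u = u' * k := ⟨u'⁻¹ * u, by group⟩
    have hk : ∀ g, g * k = k * g := Subgroup.mem_center_iff.mp (hc (by
      rw [MonoidHom.mem_ker]; simpa using hu))
    rw [commutatorElement_def, commutatorElement_def, mul_inv_rev, mul_assoc u' k w, ← hk w]
    group
  rw [key hx y, ← commutatorElement_inv y x', key hy x', commutatorElement_inv]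

theorem comm_mul_left (x x' y : G) (h : x * ⁅x', y⁆ = ⁅x', y⁆ * x) : ⁅x * x', y⁆ = ⁅x', y⁆ * ⁅x, y⁆ := by
  have : ⁅x * x', y⁆ = x * ⁅x', y⁆ * x⁻¹ * ⁅x, y⁆ := by simp only [commutatorElement_def]; group
  rw [this, h, mul_inv_cancel_right]

theorem comm_mul_right (x y y' : G) (h : y * ⁅x, y'⁆ = ⁅x, y'⁆ * y) : ⁅x, y * y'⁆ = ⁅x, y⁆ * ⁅x, y'⁆ := by
  have : ⁅x, y * y'⁆ = ⁅x, y⁆ * (y * ⁅x, y'⁆ * y⁻¹) := by simp only [commutatorElement_def]; group
  rw [this, h, mul_inv_cancel_right]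

/-- The centre of the unipotent group. -/
def tZ (hs : SzHyp F m) : Subgroup ↥(Cfsg.Sz F m) where
  carrier := {g | ∃ b, g = hs.tS 0 b}
  one_mem' := ⟨0, hs.tS_zero.symm⟩
  mul_mem' := by
    rintro _ _ ⟨b, rfl⟩ ⟨d, rfl⟩
    exact ⟨b + d, by rw [hs.tS_mul]; congr 1 <;> simp⟩
  inv_mem' := by
    rintro _ ⟨b, rfl⟩
    exact ⟨b, by rw [hs.tS_inv]; congr 1; simp⟩

theorem conj_tS (s : Fˣ) (a b : F) :
    hs.dS s * hs.tS a b * (hs.dS s)⁻¹ = hs.tS ((s : F) ^ 2 * a) (mu (m := m) ((s : F) ^ 2) * b) := by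
  rw [hs.dS_conj_tS, mul_inv_cancel_right]
  congr 1
  simp only [mu, sg, ← pow_mul]
  ring

include hs in
theorem exists_unit_sq {u : F} (hu : u ≠ 0) : ∃ s : Fˣ, (s : F) ^ 2 = u := by
  obtain ⟨y, hy⟩ := hs.exists_sq u
  refine ⟨Units.mk0 y fun h => hu ?_, hy⟩
  rw [← hy, h, zero_pow two_ne_zero]

include hs in
/-- The preimage of the unipotent group meets the kernel and its derived group in elements of exponent dividing `q - 1`. -/
theorem kill (hm : 2 ≤ m) (hf : Function.Surjective f) (hc : f.ker ≤ Subgroup.center G)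
    {y : G} (hy : y ∈ ⁅hs.tSub.comap f, hs.tSub.comap f⁆) (hy1 : f y = 1) :
    y ^ (Nat.card Fˣ) = 1 := by
  classical
  have hcen : ∀ k : G, f k = 1 → ∀ g, g * k = k * g := fun k hk => Subgroup.mem_center_iff.mp (hc hk)
  choose L hL using hf
  let la : F → G := fun a => L (hs.tS a 0)
  let lz : F → G := fun b => L (hs.tS 0 b)
  obtain ⟨hgood1, hgood2⟩ := exists_good hm hs
  have hmu : ∀ x : F, x ≠ 0 → mu (m := m) x ≠ 0 := fun x hx => mul_ne_zero (sg_ne_zero hx) hx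
  have hconj : ∀ (s : Fˣ) {x : G} {a b : F}, f x = hs.tS a b →
      f (L (hs.dS s) * x * (L (hs.dS s))⁻¹) = hs.tS ((s : F) ^ 2 * a) (mu (m := m) ((s : F) ^ 2) * b) := by
    intro s x a b hx
    rw [map_mul, map_mul, map_inv, hL, hx, conj_tS]
  have hconjc : ∀ (t u v : G), t * ⁅u, v⁆ * t⁻¹ = ⁅t * u * t⁻¹, t * v * t⁻¹⁆ := fun t u v => by
    simp only [commutatorElement_def]; group
  -- the preimage of the centre is abelian
  have hzz : ∀ b d, f ⁅lz b, lz d⁆ = 1 := fun b d => by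
    rw [map_commutatorElement, hL, hL, commutatorElement_eq_one_iff_mul_comm, hs.tS_mul, hs.tS_mul]
    congr 1
    simp [sg_zero, add_comm]
  have hBzz : ∀ b d, ⁅lz b, lz d⁆ = 1 := by
    refine vanish (fun b d => ⁅lz b, lz d⁆) id rfl (fun x hx => hx) ?_ ?_ ?_ hgood1
    · intro b b' d
      rw [(hcen _ (hzz b' d) ⁅lz b, lz d⁆), ← comm_mul_left _ _ _ (hcen _ (hzz b' d) _)]
      refine comm_congr f hc ?_ rfl
      rw [map_mul, hL, hL, hL, hs.tS_mul]
      congr 1 <;> simp [sg_zero, add_comm]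
    · intro b d d'
      rw [← comm_mul_right _ _ _ (hcen _ (hzz b d') _)]
      refine comm_congr f hc rfl ?_
      rw [map_mul, hL, hL, hL, hs.tS_mul]
      congr 1 <;> simp [sg_zero]
    · intro u b d hu
      obtain ⟨x, hx⟩ : ∃ x : F, mu (m := m) x = u := by
        obtain ⟨a, ha⟩ := hs.exists_sgmul u
        exact ⟨a, ha⟩
      have hx0 : x ≠ 0 := fun h => hu (by rw [← hx, h]; simp [mu])
      obtain ⟨s, hs'⟩ := exists_unit_sq hs hx0
      have h := hcen _ (hzz b d) (L (hs.dS s))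
      calc ⁅lz (u * b), lz (u * d)⁆ = ⁅L (hs.dS s) * lz b * (L (hs.dS s))⁻¹, L (hs.dS s) * lz d * (L (hs.dS s))⁻¹⁆ := by
            refine comm_congr f hc ?_ ?_ <;>
              rw [hL, hconj s (hL _), hs', hx, mul_zero]
        _ = L (hs.dS s) * ⁅lz b, lz d⁆ * (L (hs.dS s))⁻¹ := (hconjc _ _ _).symm
        _ = ⁅lz b, lz d⁆ := by rw [h, mul_inv_cancel_right]
  have hza : ∀ a b, f ⁅la a, lz b⁆ = 1 := fun a b => by
    rw [map_commutatorElement, hL, hL, commutatorElement_eq_one_iff_mul_comm, hs.tS_mul, hs.tS_mul]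
    congr 1 <;> simp [sg_zero]
  have hzcomm : ∀ b d, Commute (lz b) (lz d) := fun b d => commutatorElement_eq_one_iff_mul_comm.mp (hBzz b d)
  have hBza : ∀ a b, ⁅la a, lz b⁆ = 1 := by
    refine vanish (fun a b => ⁅la a, lz b⁆) (mu (m := m)) (by simp [mu, sg_one]) hmu ?_ ?_ ?_ hgood2
    · intro a a' b
      -- the two lifts differ by an element over the centre
      obtain ⟨d, hd⟩ : ∃ d, f (la a * la a') = f (la (a + a') * lz d) := ⟨sg m a * a', by
        rw [map_mul, map_mul, hL, hL, hL, hL, hs.tS_mul, hs.tS_mul]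
        congr 1 <;> simp⟩
      rw [(hcen _ (hza a' b) ⁅la a, lz b⁆), ← comm_mul_left _ _ _ (hcen _ (hza a' b) _), ← comm_congr f hc hd.symm rfl]
      rw [comm_mul_left _ _ _ (by rw [hBzz d b, mul_one, one_mul]), hBzz d b, one_mul]
    · intro a b b'
      rw [← comm_mul_right _ _ _ (hcen _ (hza a b') _)]
      refine comm_congr f hc rfl ?_
      rw [map_mul, hL, hL, hL, hs.tS_mul]
      congr 1 <;> simp [sg_zero]
    · intro x a b hx0
      obtain ⟨s, hs'⟩ := exists_unit_sq hs hx0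
      calc ⁅la (x * a), lz (mu (m := m) x * b)⁆
          = ⁅L (hs.dS s) * la a * (L (hs.dS s))⁻¹, L (hs.dS s) * lz b * (L (hs.dS s))⁻¹⁆ := by
            refine comm_congr f hc ?_ ?_ <;> rw [hL, hconj s (hL _), hs', mul_zero]
        _ = L (hs.dS s) * ⁅la a, lz b⁆ * (L (hs.dS s))⁻¹ := (hconjc _ _ _).symm
        _ = ⁅la a, lz b⁆ := by rw [hcen _ (hza a b), mul_inv_cancel_right]
  set T : Subgroup G := hs.tSub.comap f with hT
  set Zt : Subgroup G := (tZ hs).comap f with hZt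
  have hdec : ∀ x ∈ T, ∃ a b, f x = f (la a * lz b) := by
    rintro x ⟨a, b, hx⟩
    refine ⟨a, b, ?_⟩
    rw [map_mul, hL, hL, hs.tS_mul, hx]
    congr 1 <;> simp
  -- it is central in the preimage of the unipotent group
  have hcentral : ∀ w ∈ Zt, ∀ x ∈ T, x * w = w * x := by
    rintro w ⟨d, hw⟩ x hx
    obtain ⟨a, b, hab⟩ := hdec x hx
    rw [← commutatorElement_eq_one_iff_mul_comm, comm_congr f hc hab (show f w = f (lz d) by rw [hw, hL]),
      comm_mul_left _ _ _ (by rw [hBzz b d, mul_one, one_mul]), hBzz b d, one_mul, hBza]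
  have hZT : Zt ≤ T := by
    rintro w ⟨d, hw⟩
    exact ⟨0, d, hw⟩
  have hcommZ : ∀ x ∈ T, ∀ y ∈ T, ⁅x, y⁆ ∈ Zt := by
    rintro x ⟨a, b, hx⟩ y ⟨c, d, hy⟩
    show f ⁅x, y⁆ ∈ tZ hs
    rw [map_commutatorElement, hx, hy, commutatorElement_def, hs.tS_mul, hs.tS_inv, hs.tS_inv, hs.tS_mul, hs.tS_mul]
    refine ⟨_, congrArg (fun u => hs.tS u _) ?_⟩
    linear_combination (a + c) * hs.two_eq_zero
  letI : CommGroup Zt :=
    { (inferInstance : Group Zt) with
      mul_comm := fun u v => Subtype.ext (hcentral (v : G) v.2 (u : G) (hZT u.2)) }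
  have hmem : ∀ (s : Fˣ) (w : Zt), L (hs.dS s) * (w : G) * (L (hs.dS s))⁻¹ ∈ Zt := by
    rintro s ⟨w, d, hw⟩
    exact ⟨_, by rw [hconj s hw, mul_zero]⟩
  let act : Fˣ → Zt →* Zt := fun s =>
    { toFun := fun w => ⟨_, hmem s w⟩
      map_one' := Subtype.ext (by simp)
      map_mul' := fun u v => Subtype.ext (conj_mul.symm) }
  let N : Zt →* Zt :=
    { toFun := fun w => ∏ s : Fˣ, act s w
      map_one' := by simp
      map_mul' := fun u v => by simp [Finset.prod_mul_distrib] }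
  have hNact : ∀ (t : Fˣ) (w : Zt), N (act t w) = N w := by
    intro t w
    show ∏ s : Fˣ, act s (act t w) = ∏ s : Fˣ, act s w
    rw [← Equiv.prod_comp (Equiv.mulRight t) (fun s => act s w)]
    refine Finset.prod_congr rfl fun s _ => Subtype.ext ?_
    show L (hs.dS s) * (L (hs.dS t) * (w : G) * (L (hs.dS t))⁻¹) * (L (hs.dS s))⁻¹ =
      L (hs.dS (s * t)) * (w : G) * (L (hs.dS (s * t)))⁻¹
    have e : f ((L (hs.dS s) * L (hs.dS t))⁻¹ * L (hs.dS (s * t))) = 1 := by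
      rw [map_mul, map_inv, map_mul, hL, hL, hL, ← hs.dS_mul, inv_mul_cancel]
    set k := (L (hs.dS s) * L (hs.dS t))⁻¹ * L (hs.dS (s * t)) with hk
    rw [show L (hs.dS (s * t)) = L (hs.dS s) * L (hs.dS t) * k by rw [hk, mul_inv_cancel_left]]
    calc _ = L (hs.dS s) * L (hs.dS t) * ((w : G) * k) * k⁻¹ * (L (hs.dS t))⁻¹ * (L (hs.dS s))⁻¹ := by group
      _ = _ := by rw [hcen k e (w : G)]; group
  have hN1 : ∀ w : Zt, f (N w : G) = 1 := by
    intro w
    obtain ⟨d, hd⟩ := (N w).2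
    obtain ⟨v, hv0, hv1⟩ := hs.exists_gt
    obtain ⟨x, hx⟩ : ∃ x : F, mu (m := m) x = v := by
      obtain ⟨a, ha⟩ := hs.exists_sgmul v
      exact ⟨a, ha⟩
    obtain ⟨t, ht⟩ := exists_unit_sq hs (u := x) (fun h => hv0 (by rw [← hx, h]; simp [mu]))
    have he : act t (N w) = N w := by
      conv_rhs => rw [← hNact t w]
      show act t (∏ s : Fˣ, act s w) = ∏ s : Fˣ, act s (act t w)
      rw [map_prod]
      refine Finset.prod_congr rfl fun s _ => Subtype.ext ?_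
      show L (hs.dS t) * (L (hs.dS s) * (w : G) * (L (hs.dS s))⁻¹) * (L (hs.dS t))⁻¹ =
        L (hs.dS s) * (L (hs.dS t) * (w : G) * (L (hs.dS t))⁻¹) * (L (hs.dS s))⁻¹
      have e : f ((L (hs.dS t) * L (hs.dS s))⁻¹ * (L (hs.dS s) * L (hs.dS t))) = 1 := by
        rw [map_mul, map_inv, map_mul, map_mul, hL, hL, ← hs.dS_mul, ← hs.dS_mul, mul_comm t s, inv_mul_cancel]
      set k := (L (hs.dS t) * L (hs.dS s))⁻¹ * (L (hs.dS s) * L (hs.dS t)) with hk
      have hst : L (hs.dS s) * L (hs.dS t) = L (hs.dS t) * L (hs.dS s) * k := by rw [hk, mul_inv_cancel_left]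
      calc _ = L (hs.dS t) * L (hs.dS s) * ((w : G) * k) * k⁻¹ * (L (hs.dS s))⁻¹ * (L (hs.dS t))⁻¹ := by group
        _ = (L (hs.dS t) * L (hs.dS s) * k) * (w : G) * (L (hs.dS t) * L (hs.dS s) * k)⁻¹ := by
            rw [hcen k e (w : G)]; group
        _ = _ := by rw [← hst]; group
    have h2 := congrArg (fun u : Zt => f (u : G)) he
    change f (L (hs.dS t) * (N w : G) * (L (hs.dS t))⁻¹) = f (N w : G) at h2
    rw [hconj t hd, ht, hx, hd] at h2
    have h3 := (hs.tS_inj h2).2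
    have h4 : d = 0 := by
      by_contra hne
      exact hv1 (mul_right_cancel₀ hne (h3.trans (one_mul d).symm))
    rw [hd, h4]
    exact hs.tS_zero
  have hcm : ∀ a a', ⁅la a, la a'⁆ ∈ Zt := fun a a' =>
    hcommZ _ ⟨a, 0, hL _⟩ _ ⟨a', 0, hL _⟩
  have hlaT : ∀ a, la a ∈ T := fun a => ⟨a, 0, hL _⟩
  have hstrip : ∀ {x y : G} {a a' b b' : F}, f x = f (la a * lz b) → f y = f (la a' * lz b') →
      ⁅x, y⁆ = ⁅la a, la a'⁆ := by
    intro x y a a' b b' hx hy
    have hz : ∀ b, lz b ∈ Zt := fun b => ⟨b, hL _⟩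
    rw [comm_congr f hc hx hy]
    have c1 := hcentral _ (hz b) _ (hlaT a')
    have c2 := hcentral _ (hz b) _ (hZT (hz b'))
    have c3 := hcentral _ (hz b') _ (hlaT a)
    have e1 : ⁅lz b, la a' * lz b'⁆ = 1 :=
      commutatorElement_eq_one_iff_mul_comm.mpr (hcentral _ (hz b) _ (T.mul_mem (hlaT a') (hZT (hz b')))).symm
    have e2 : ⁅la a, lz b'⁆ = 1 := hBza a b'
    rw [comm_mul_left _ _ _ (by rw [e1, mul_one, one_mul]), e1, one_mul,
      comm_mul_right _ _ _ (by rw [e2, mul_one, one_mul]), e2, mul_one]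
  have hBaa : ∀ a a', N ⟨_, hcm a a'⟩ = 1 := by
    refine vanish (fun a a' => N ⟨_, hcm a a'⟩) id rfl (fun x hx => hx) ?_ ?_ ?_ hgood1
    · intro a a₁ a'
      rw [← map_mul]
      refine congrArg N (Subtype.ext ?_)
      show ⁅la (a + a₁), la a'⁆ = ⁅la a, la a'⁆ * ⁅la a₁, la a'⁆
      rw [← hcentral _ (hcm a₁ a') _ (hZT (hcm a a')) |>.symm, ← comm_mul_left _ _ _ (hcentral _ (hcm a₁ a') _ (hlaT a))]
      refine (hstrip (b := sg m a * a₁) (b' := 0) ?_ ?_).symm
      · rw [map_mul, map_mul, hL, hL, hL, hL, hs.tS_mul, hs.tS_mul]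
        congr 1 <;> simp
      · rw [map_mul, hL, hL, hs.tS_mul]
        congr 1 <;> simp
    · intro a a' a₁
      rw [← map_mul]
      refine congrArg N (Subtype.ext ?_)
      show ⁅la a, la (a' + a₁)⁆ = ⁅la a, la a'⁆ * ⁅la a, la a₁⁆
      rw [← comm_mul_right _ _ _ (hcentral _ (hcm a a₁) _ (hlaT a'))]
      refine (hstrip (b := 0) (b' := sg m a' * a₁) ?_ ?_).symm
      · rw [map_mul, hL, hL, hs.tS_mul]
        congr 1 <;> simp
      · rw [map_mul, map_mul, hL, hL, hL, hL, hs.tS_mul, hs.tS_mul]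
        congr 1 <;> simp
    · intro x a a' hx0
      obtain ⟨s, hs'⟩ := exists_unit_sq hs hx0
      rw [← hNact s ⟨_, hcm a a'⟩]
      refine congrArg N (Subtype.ext ?_)
      show ⁅la (x * a), la (x * a')⁆ = L (hs.dS s) * ⁅la a, la a'⁆ * (L (hs.dS s))⁻¹
      rw [hconjc]
      refine comm_congr f hc ?_ ?_ <;> rw [hL, hconj s (hL _), hs', mul_zero]
  have hle : ⁅T, T⁆ ≤ N.ker.map Zt.subtype := by
    rw [Subgroup.commutator_le]
    intro x hx x' hx'
    obtain ⟨a, b, hab⟩ := hdec x hx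
    obtain ⟨a', b', hab'⟩ := hdec x' hx'
    exact ⟨⟨_, hcm a a'⟩, hBaa a a', (hstrip hab hab').symm⟩
  obtain ⟨w, hw, rfl⟩ := hle hy
  have hw1 : N w = w ^ Fintype.card Fˣ := by
    show ∏ s : Fˣ, act s w = _
    rw [← Finset.card_univ, ← Finset.prod_const]
    refine Finset.prod_congr rfl fun s _ => Subtype.ext ?_
    show L (hs.dS s) * (w : G) * (L (hs.dS s))⁻¹ = (w : G)
    rw [hcen (w : G) hy1, mul_inv_cancel_right]
  change N w = 1 at hw
  rw [hw1, ← Nat.card_eq_fintype_card] at hw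
  exact congrArg Subtype.val hw

include hs in
theorem sylow_odd_cyclic {p : ℕ} [Fact p.Prime] (hp : p ≠ 2) (R : Sylow p ↥(Cfsg.Sz F m)) :
    IsCyclic ↥(R : Subgroup ↥(Cfsg.Sz F m)) := by
  classical
  by_cases hR : (R : Subgroup ↥(Cfsg.Sz F m)) = ⊥
  · rw [hR]; infer_instance
  haveI : Nontrivial ↥(R : Subgroup ↥(Cfsg.Sz F m)) := (Subgroup.nontrivial_iff_ne_bot _).mpr hR
  have hp3 : 3 ≤ p := by have := (Fact.out : p.Prime).two_le; omega
  by_cases hq : p ∣ 2 ^ (2 * m + 1) - 1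
  · -- two fixed points
    have hmod := R.isPGroup'.card_modEq_card_fixedPoints (α := ↥(Cfsg.suzukiOvoid F m))
    rw [hs.card_omega] at hmod
    have h2 : (2 ^ (2 * m + 1)) ^ 2 + 1 ≡ 2 [MOD p] := by
      have h1 : 2 ^ (2 * m + 1) ≡ 1 [MOD p] := ((Nat.modEq_iff_dvd' Nat.one_le_two_pow).mpr hq).symm
      simpa using (h1.pow 2).add_right 1
    have h3 := hmod.symm.trans h2
    have h4 : 2 ≤ Nat.card (MulAction.fixedPoints ↥(R : Subgroup ↥(Cfsg.Sz F m)) ↥(Cfsg.suzukiOvoid F m)) := by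
      by_contra hlt
      have := Nat.ModEq.eq_of_lt_of_lt h3 (by omega) (by omega)
      omega
    haveI : Nontrivial (MulAction.fixedPoints ↥(R : Subgroup ↥(Cfsg.Sz F m)) ↥(Cfsg.suzukiOvoid F m)) :=
      Finite.one_lt_card_iff_nontrivial.mp h4
    obtain ⟨⟨p₁, hp₁⟩, ⟨p₂, hp₂⟩, hne⟩ := exists_pair_ne
      (MulAction.fixedPoints ↥(R : Subgroup ↥(Cfsg.Sz F m)) ↥(Cfsg.suzukiOvoid F m))
    have hne' : p₁ ≠ p₂ := fun e => hne (Subtype.ext e)
    let H : Subgroup ↥(Cfsg.Sz F m) :=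
      MulAction.stabilizer (↥(Cfsg.Sz F m)) p₁ ⊓ MulAction.stabilizer (↥(Cfsg.Sz F m)) p₂
    obtain ⟨k, kp, kr⟩ := hs.exists_move p₁.2 p₂.2 (fun e => hne' (Subtype.ext e))
    have h0 : ∀ s : Fˣ, hs.dS s • ptSz m (0 : F) 0 = ptSz m 0 0 := fun s => by
      rw [Subgroup.smul_def]
      show dG m s • ptSz m (0 : F) 0 = _
      rw [hs.dG_point, mul_zero, mul_zero]
    let φ : Fˣ →* ↥(Cfsg.Sz F m) := (MulAut.conj k⁻¹).toMonoidHom.comp hs.dHom
    have hφ : φ.range ≤ H := by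
      rintro _ ⟨s, rfl⟩
      refine ⟨?_, ?_⟩ <;> refine Subtype.ext ?_ <;>
        simp only [φ, MonoidHom.comp_apply, MulEquiv.coe_toMonoidHom, MulAut.conj_apply, inv_inv] <;>
        rw [hs.coe_smul', mul_smul, mul_smul]
      · rw [kp, show hs.dHom s • Cfsg.suzukiPointInfinity F = Cfsg.suzukiPointInfinity F from dG_infty s, ← kp, inv_smul_smul]
      · rw [kr, show hs.dHom s • ptSz m (0 : F) 0 = ptSz m 0 0 from h0 s, ← kr, inv_smul_smul]
    have hinj : Function.Injective φ := fun s t e => hs.dG_injective (congrArg Subtype.val ((MulAut.conj k⁻¹).injective e))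
    have heq : φ.range = H := by
      refine Subgroup.eq_of_le_of_card_ge hφ (le_of_eq ?_)
      rw [← Nat.card_congr (MonoidHom.ofInjective hinj).toEquiv, hs.card_units, ← hs.stab_pair hne']
      exact Nat.card_congr (Equiv.subtypeEquivRight fun g => Iff.rfl)
    have hle : (R : Subgroup ↥(Cfsg.Sz F m)) ≤ φ.range := by
      rw [heq]
      exact fun g hg => ⟨hp₁ ⟨g, hg⟩, hp₂ ⟨g, hg⟩⟩
    haveI : IsCyclic φ.range := isCyclic_of_surjective φ.rangeRestrict φ.rangeRestrict_surjective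
    exact isCyclic_of_injective (Subgroup.inclusion hle) (Subgroup.inclusion_injective hle)
  · haveI := R.isPGroup'.center_nontrivial
    obtain ⟨⟨⟨u, huR⟩, huZ⟩, hu1⟩ := exists_ne (1 : ↥(Subgroup.center ↥(R : Subgroup ↥(Cfsg.Sz F m))))
    have hu : u ≠ 1 := fun e => hu1 (Subtype.ext (Subtype.ext e))
    have hEll : hs.Ell u := by
      intro x hx
      have h1 : orderOf u ∣ (2 ^ (2 * m + 1)) ^ 2 * (2 ^ (2 * m + 1) - 1) := by
        rw [← hs.stab_omega x, ← Subgroup.orderOf_mk u (show u ∈ MulAction.stabilizer (↥(Cfsg.Sz F m)) x from hx)]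
        exact orderOf_dvd_natCard _
      obtain ⟨j, hj⟩ := (IsPGroup.iff_orderOf.mp R.isPGroup') ⟨u, huR⟩
      rw [Subgroup.orderOf_mk] at hj
      have hj0 : j ≠ 0 := fun e => hu (orderOf_eq_one_iff.mp (by rw [hj, e, pow_zero]))
      rcases (Fact.out : p.Prime).dvd_mul.mp ((dvd_pow_self p hj0).trans (hj ▸ h1)) with h | h
      · exact hp ((Nat.prime_dvd_prime_iff_eq Fact.out Nat.prime_two).mp
          ((Fact.out : p.Prime).dvd_of_dvd_pow ((Fact.out : p.Prime).dvd_of_dvd_pow h)))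
      · exact hq h
    have hle : (R : Subgroup ↥(Cfsg.Sz F m)) ≤ Subgroup.centralizer ({u} : Set ↥(Cfsg.Sz F m)) := fun g hg =>
      Subgroup.mem_centralizer_singleton_iff.mpr (congrArg Subtype.val (Subgroup.mem_center_iff.mp huZ ⟨g, hg⟩))
    haveI := (hs.centralizer_facts hEll).1
    exact isCyclic_of_injective (Subgroup.inclusion hle) (Subgroup.inclusion_injective hle)

include hs in
theorem ker_inf_commutator [Finite G] (hm : 2 ≤ m) (hf : Function.Surjective f) (hc : f.ker ≤ Subgroup.center G) :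
    f.ker ⊓ commutator G = ⊥ := by
  classical
  by_contra hne
  obtain ⟨l, hl, hld⟩ := Nat.exists_prime_and_dvd (n := Nat.card ↥(f.ker ⊓ commutator G))
    (fun e => hne (Subgroup.card_eq_one.mp e))
  haveI := Fact.mk hl
  obtain ⟨⟨z, hzk, hzc⟩, hz⟩ := exists_prime_orderOf_dvd_card' (G := ↥(f.ker ⊓ commutator G)) l hld
  rw [← Subgroup.orderOf_coe] at hz
  change orderOf z = l at hz
  suffices H : ∃ P : Sylow l G, ∀ y : (P : Subgroup G), f y = 1 → y ∈ commutator (P : Subgroup G) → y = 1 by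
    obtain ⟨P, hP⟩ := H
    obtain ⟨y, hy, hy'⟩ := Struct.Schur.pow_index_mem_commutator (P : Subgroup G) (hc hzk) hzc
    have := hP y (by rw [hy', map_pow, show f z = 1 from hzk, one_pow]) hy
    rw [this, OneMemClass.coe_one] at hy'
    have h2 := orderOf_dvd_of_pow_eq_one hy'.symm
    rw [hz] at h2
    exact P.not_dvd_index h2
  obtain ⟨P⟩ : Nonempty (Sylow l G) := inferInstance
  let R := P.mapSurjective hf
  by_cases hl2 : l = 2
  · subst hl2
    obtain ⟨s, hs'⟩ := MulAction.exists_smul_eq ↥(Cfsg.Sz F m) R hs.tSylow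
    obtain ⟨t, rfl⟩ := hf s
    refine ⟨t • P, fun y hy hy' => ?_⟩
    have hmem : ((t • P : Sylow 2 G) : Subgroup G) ≤ hs.tSub.comap f := by
      intro x hx
      rw [Subgroup.mem_comap, ← hs.coe_tSylow, ← hs']
      obtain ⟨x₀, hx₀, he⟩ := ((Sylow.coe_subgroup_smul (g := t) (P := P)).le hx :
        (x : G) ∈ MulAut.conj t • (P : Subgroup G))
      rw [← he, Sylow.coe_subgroup_smul]
      exact ⟨f x₀, ⟨x₀, hx₀, rfl⟩, by simp⟩
    have hy2 : (y : G) ∈ ⁅hs.tSub.comap f, hs.tSub.comap f⁆ := by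
      have h := Subgroup.mem_map_of_mem ((t • P : Sylow 2 G) : Subgroup G).subtype hy'
      rw [commutator_def, Subgroup.map_commutator, ← MonoidHom.range_eq_map, Subgroup.range_subtype] at h
      exact Subgroup.commutator_mono hmem hmem h
    have h1 := kill hs f hm hf hc hy2 hy
    obtain ⟨j, hj⟩ := (IsPGroup.iff_orderOf.mp (t • P).isPGroup') y
    rw [← Subgroup.orderOf_coe] at hj
    have h2 := orderOf_dvd_of_pow_eq_one h1
    rw [hs.card_units, hj] at h2
    have hj0 : j = 0 := by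
      by_contra h
      have h3 : 2 ∣ 2 ^ (2 * m + 1) - 1 := (dvd_pow_self 2 h).trans h2
      have h4 : 2 ∣ 2 ^ (2 * m + 1) := dvd_pow_self 2 (by omega)
      have h5 : 1 ≤ 2 ^ (2 * m + 1) := Nat.one_le_two_pow
      omega
    rw [hj0, pow_zero, orderOf_eq_one_iff] at hj
    exact Subtype.ext hj
  · refine ⟨P, fun y hy hy' => ?_⟩
    haveI := sylow_odd_cyclic hs hl2 R
    let g : (P : Subgroup G) →* (R : Subgroup ↥(Cfsg.Sz F m)) :=
      (f.comp (P : Subgroup G).subtype).codRestrict _ fun x => ⟨x, x.2, rfl⟩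
    have hgc : g.ker ≤ Subgroup.center _ := fun x hx => Subgroup.mem_center_iff.mpr fun y =>
      Subtype.ext (Subgroup.mem_center_iff.mp (hc (congrArg Subtype.val hx)) y)
    exact Subgroup.mem_bot.mp (GL2.CentralExt.ker_inf_commutator_of_cyclic g hgc ▸ (⟨Subtype.ext hy, hy'⟩ :
      y ∈ g.ker ⊓ commutator (P : Subgroup G)))

end Ext

end Cfsg.Agent.Suzuki.Multiplier
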