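import Cfsg.Agent.Lib.Suzuki.Zass
import Cfsg.Agent.Lib.Suzuki.Sylow
import Cfsg.Agent.Lib.Suzuki.LieSz
import Mathlib.GroupTheory.Nilpotent
import Mathlib.Data.Nat.Choose.Basic

/-! No cover of a Suzuki group by fewest proper subgroups consists of nilpotent subgroups. -/

set_option autoImplicit false

namespace Cfsg.Agent.Suzuki

variable {F : Type*} [Field F] [Fintype F] {m : ℕ}

namespace SzHyp

variable (hs : SzHyp F m)

include hs

theorem comm_torus_fix {s : Fˣ} (h1 : s ≠ 1) {h : ↥(Cfsg.Sz F m)} (hc : Commute h (hs.dS s)) :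
    h • Cfsg.suzukiPointInfinity F = Cfsg.suzukiPointInfinity F ∧ h • ptSz m (0 : F) 0 = ptSz m 0 0 := by
  have hdi : ∀ t : Fˣ, hs.dS t • Cfsg.suzukiPointInfinity F = Cfsg.suzukiPointInfinity F := fun t => dG_infty t
  have hd0 : ∀ t : Fˣ, hs.dS t • ptSz m (0 : F) 0 = ptSz m 0 0 := fun t => by
    rw [Subgroup.smul_def]
    show dG m t • ptSz m (0 : F) 0 = _
    rw [hs.dG_point, mul_zero, mul_zero]
  have hdne : hs.dS s ≠ 1 := fun e => h1 (hs.dG_injective ((congrArg Subtype.val e).trans dG_one.symm))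
  have hinf : Cfsg.suzukiPointInfinity F ∈ Cfsg.suzukiOvoid F m := mem_ovoid.mpr (Or.inl rfl)
  have hzero : ptSz m (0 : F) 0 ∈ Cfsg.suzukiOvoid F m := mem_ovoid.mpr (Or.inr ⟨0, 0, rfl⟩)
  have himg : ∀ p ∈ Cfsg.suzukiOvoid F m, hs.dS s • p = p →
      p = Cfsg.suzukiPointInfinity F ∨ p = ptSz m 0 0 := by
    intro p hp hfix
    by_contra hne
    push Not at hne
    exact hdne (hs.fix_three hinf hzero hp (ptSz_ne_infty 0 0).symm hne.2.symm hne.1.symm (hdi s) (hd0 s) hfix)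
  have hfix : ∀ p : Projectivization F (Fin 4 → F), hs.dS s • p = p → hs.dS s • (h • p) = h • p := fun p hp => by
    rw [← mul_smul, ← hc.eq, mul_smul, hp]
  have ci : h • Cfsg.suzukiPointInfinity F = Cfsg.suzukiPointInfinity F ∨
      h • Cfsg.suzukiPointInfinity F = ptSz m 0 0 := himg _ (smul_mem h.2 hinf) (hfix _ (hdi s))
  have cz : h • ptSz m (0 : F) 0 = Cfsg.suzukiPointInfinity F ∨ h • ptSz m (0 : F) 0 = ptSz m 0 0 :=
    himg _ (smul_mem h.2 hzero) (hfix _ (hd0 s))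
  rcases ci with e | e
  · refine ⟨e, ?_⟩
    rcases cz with e' | e'
    · exact absurd (MulAction.injective h (e'.trans e.symm)) (ptSz_ne_infty 0 0)
    · exact e'
  · exfalso
    have e' : h • ptSz m (0 : F) 0 = Cfsg.suzukiPointInfinity F := by
      rcases cz with e' | e'
      · exact e'
      · exact absurd (MulAction.injective h (e'.trans e.symm)) (ptSz_ne_infty 0 0)
    have hwi : hs.wS • Cfsg.suzukiPointInfinity F = ptSz m (0 : F) 0 := wG_infty
    have hw0 : hs.wS • ptSz m (0 : F) 0 = Cfsg.suzukiPointInfinity F := wG_zero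
    obtain ⟨t, et⟩ := hs.exists_dG (hs.wS * h).2 (by rw [← Subgroup.smul_def, mul_smul, e, hw0])
      (by rw [← Subgroup.smul_def, mul_smul, e', hwi])
    have eh : h = hs.wS * hs.dS t := by
      rw [show hs.dS t = hs.wS * h from Subtype.ext et.symm, ← mul_assoc, hs.wS_sq, one_mul]
    have hs2 : hs.dS s⁻¹ = hs.dS s := by
      have h3 := hc.eq
      rw [eh, mul_assoc, ← hs.dS_mul, mul_comm t, hs.dS_mul, ← mul_assoc, ← mul_assoc] at h3
      have h4 := mul_right_cancel h3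
      rw [← hs.wS_conj_dS, h4, mul_assoc, hs.wS_sq, mul_one]
    have h5 : s⁻¹ = s := hs.dG_injective (congrArg Subtype.val hs2)
    refine h1 (Units.ext (hs.sq_inj ?_))
    rw [Units.val_one, one_pow, sq, ← Units.val_mul]
    nth_rw 1 [← h5]
    rw [inv_mul_cancel, Units.val_one]

theorem pair_spec {p r : Projectivization F (Fin 4 → F)} (hp : p ∈ Cfsg.suzukiOvoid F m)
    (hr : r ∈ Cfsg.suzukiOvoid F m) (hne : p ≠ r) :
    ∃ g : ↥(Cfsg.Sz F m), g ≠ 1 ∧ g • p = p ∧ g • r = r ∧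
      ∀ z : ↥(Cfsg.Sz F m), z ≠ 1 → Commute z g →
        ∀ a : ↥(Cfsg.Sz F m), Commute a z → a • p = p ∧ a • r = r := by
  obtain ⟨k, kp, kr⟩ := hs.exists_move hp hr hne
  obtain ⟨s, hs1⟩ := hs.exists_unit
  have hdne : hs.dS s ≠ 1 := fun e => hs1 (hs.dG_injective ((congrArg Subtype.val e).trans dG_one.symm))
  refine ⟨MulAut.conj k⁻¹ (hs.dS s), fun e => hdne ((MulEquiv.map_eq_one_iff _).mp e), ?_, ?_, ?_⟩
  · rw [MulAut.conj_apply, inv_inv, mul_smul, mul_smul, kp, show hs.dS s • Cfsg.suzukiPointInfinity F = _ from dG_infty s,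
      ← kp, inv_smul_smul]
  · have h0 : hs.dS s • ptSz m (0 : F) 0 = ptSz m 0 0 := by
      rw [Subgroup.smul_def]
      show dG m s • ptSz m (0 : F) 0 = _
      rw [hs.dG_point, mul_zero, mul_zero]
    rw [MulAut.conj_apply, inv_inv, mul_smul, mul_smul, kr, h0, ← kr, inv_smul_smul]
  intro z hz1 hzg a haz
  have hzd : Commute (MulAut.conj k z) (hs.dS s) := by
    have := hzg.map (MulAut.conj k)
    rwa [show MulAut.conj k (MulAut.conj k⁻¹ (hs.dS s)) = hs.dS s by simp [MulAut.conj_apply, mul_assoc]] at this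
  obtain ⟨z1, z2⟩ := hs.comm_torus_fix hs1 hzd
  obtain ⟨t, et⟩ := hs.exists_dG (MulAut.conj k z).2 z1 z2
  have ht : t ≠ 1 := fun e => hz1 ((MulEquiv.map_eq_one_iff _).mp (Subtype.ext (et.trans (e ▸ dG_one))))
  obtain ⟨a1, a2⟩ := hs.comm_torus_fix ht (h := MulAut.conj k a)
    (show Commute (MulAut.conj k a) (hs.dS t) from (show MulAut.conj k z = hs.dS t from Subtype.ext et) ▸ haz.map (MulAut.conj k))
  rw [MulAut.conj_apply, mul_smul, mul_smul, inv_smul_eq_iff.mpr kp.symm, ← eq_inv_smul_iff,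
    inv_smul_eq_iff.mpr kp.symm] at a1
  rw [MulAut.conj_apply, mul_smul, mul_smul, inv_smul_eq_iff.mpr kr.symm, ← eq_inv_smul_iff,
    inv_smul_eq_iff.mpr kr.symm] at a2
  exact ⟨a1, a2⟩

theorem no_nilpotent_minimal_cover {G : Type*} [Group G] (e : G ≃* ↥(Cfsg.Sz F m)) :
    ¬ ∃ 𝓐 : Finset (Subgroup G), ((∀ A ∈ 𝓐, A ≠ ⊤) ∧ (∀ g : G, ∃ A ∈ 𝓐, g ∈ A)) ∧
      (∀ 𝓑 : Finset (Subgroup G), (∀ A ∈ 𝓑, A ≠ ⊤) ∧ (∀ g : G, ∃ A ∈ 𝓑, g ∈ A) → 𝓐.card ≤ 𝓑.card) ∧
        (∀ A ∈ 𝓐, Group.IsNilpotent ↥A) := by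
  classical
  rintro ⟨𝓐, ⟨hprop, hcov⟩, hmin, hnil⟩
  letI : MulAction G ↥(Cfsg.suzukiOvoid F m) := MulAction.compHom _ e.toMonoidHom
  haveI : Fintype ↥(Cfsg.suzukiOvoid F m) := Fintype.ofFinite _
  have hact : ∀ (g : G) (p : ↥(Cfsg.suzukiOvoid F m)),
      ((g • p : ↥(Cfsg.suzukiOvoid F m)) : Projectivization F (Fin 4 → F)) = e g • (p : Projectivization F (Fin 4 → F)) :=
    fun g p => rfl
  set n := Fintype.card ↥(Cfsg.suzukiOvoid F m) with hn
  have hn5 : 5 ≤ n := by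
    rw [hn, ← Nat.card_eq_fintype_card, card_ovoid, hs.card_eq]
    have h2 : (2 : ℕ) ^ 1 ≤ 2 ^ (2 * m + 1) := Nat.pow_le_pow_right (by norm_num) (by omega)
    have := Nat.pow_le_pow_left h2 2
    omega
  let good : Subgroup G → Prop := fun A => ∃ p : ↥(Cfsg.suzukiOvoid F m), A ≤ MulAction.stabilizer G p
  -- the covering by stabilisers
  have hstab : ∀ p : ↥(Cfsg.suzukiOvoid F m), MulAction.stabilizer G p ≠ ⊤ := by
    intro p htop
    obtain ⟨r, hr⟩ := Fintype.exists_ne_of_one_lt_card (show 1 < n by omega) p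
    obtain ⟨g, hg, -⟩ := (MulAction.is_two_pretransitive_iff.mp hs.isMultiplyPretransitive) hr.symm hr
    have := MulAction.mem_stabilizer_iff.mp (show e.symm g ∈ MulAction.stabilizer G p from htop ▸ Subgroup.mem_top _)
    refine hr (Subtype.ext ?_)
    rw [← congrArg Subtype.val this, hact, e.apply_symm_apply, ← hs.coe_smul', hg]
  have hB := hmin (𝓐.filter (fun A => ¬ good A) ∪ Finset.univ.image (fun p : ↥(Cfsg.suzukiOvoid F m) => MulAction.stabilizer G p)) ⟨?_, ?_⟩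
  rotate_left
  · intro A hA
    rcases Finset.mem_union.mp hA with h | h
    · exact hprop A (Finset.mem_filter.mp h).1
    · obtain ⟨p, -, rfl⟩ := Finset.mem_image.mp h
      exact hstab p
  · intro g
    obtain ⟨A, hA, hg⟩ := hcov g
    by_cases h : good A
    · obtain ⟨p, hp⟩ := h
      exact ⟨_, Finset.mem_union_right _ (Finset.mem_image_of_mem _ (Finset.mem_univ p)), hp hg⟩
    · exact ⟨A, Finset.mem_union_left _ (Finset.mem_filter.mpr ⟨hA, h⟩), hg⟩
  -- many members fix two points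
  have hpair : ∀ s ∈ (Finset.univ : Finset ↥(Cfsg.suzukiOvoid F m)).powersetCard 2,
      ∃ A ∈ 𝓐.filter good, Finset.univ.filter (fun p => A ≤ MulAction.stabilizer G p) = s := by
    intro s hs'
    obtain ⟨p, r, hpr, rfl⟩ := Finset.card_eq_two.mp (Finset.mem_powersetCard.mp hs').2
    obtain ⟨g, hg1, hgp, hgr, hg⟩ := hs.pair_spec p.2 r.2 (fun h => hpr (Subtype.ext h))
    obtain ⟨A, hA, hgA⟩ := hcov (e.symm g)
    haveI := hnil A hA
    haveI : Nontrivial ↥A := ⟨⟨⟨_, hgA⟩, 1, fun h => hg1 (by simpa using congrArg e (congrArg Subtype.val h))⟩⟩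
    haveI : Nontrivial ↥(Subgroup.center ↥A) := (Subgroup.nontrivial_iff_ne_bot _).2 (Group.IsNilpotent.center_ne_bot _)
    obtain ⟨z, hz⟩ := exists_ne (1 : ↥(Subgroup.center ↥A))
    have hfix : ∀ a ∈ A, a • p = p ∧ a • r = r := by
      intro a ha
      have hcomm : ∀ b : ↥A, Commute (e b.1) (e (z.1 : ↥A).1) := fun b =>
        (show Commute b.1 ((z.1 : ↥A).1) from congrArg Subtype.val (Subgroup.mem_center_iff.mp z.2 b)).map e
      have hz1 : e ((z.1 : ↥A).1) ≠ 1 := fun h => hz (Subtype.ext (Subtype.ext ((MulEquiv.map_eq_one_iff e).mp h)))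
      obtain ⟨h1, h2⟩ := hg _ hz1 (by simpa using (hcomm ⟨_, hgA⟩).symm) (e a) (hcomm ⟨a, ha⟩)
      exact ⟨Subtype.ext ((hact a p).trans h1), Subtype.ext ((hact a r).trans h2)⟩
    refine ⟨A, Finset.mem_filter.mpr ⟨hA, p, fun a ha => (hfix a ha).1⟩, ?_⟩
    ext x
    simp only [Finset.mem_filter, Finset.mem_univ, true_and, Finset.mem_insert, Finset.mem_singleton]
    constructor
    · intro hx
      by_contra hne
      push Not at hne
      have hgx : g • (x : Projectivization F (Fin 4 → F)) = x := by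
        have := congrArg Subtype.val (hx hgA)
        rwa [hact, e.apply_symm_apply] at this
      exact hg1 (hs.fix_three p.2 r.2 x.2 (fun h => hpr (Subtype.ext h)) (fun h => hne.2 (Subtype.ext h).symm)
        (fun h => hne.1 (Subtype.ext h).symm) hgp hgr hgx)
    · rintro (rfl | rfl)
      · exact fun a ha => (hfix a ha).1
      · exact fun a ha => (hfix a ha).2
  choose f hfA hfs using hpair
  have hmany : n.choose 2 ≤ (𝓐.filter good).card := by
    rw [hn, ← Finset.card_univ (α := ↥(Cfsg.suzukiOvoid F m)), ← Finset.card_powersetCard, ← Finset.card_attach]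
    refine Finset.card_le_card_of_injOn (fun s => f s.1 s.2) (fun s _ => hfA s.1 s.2) ?_
    intro s _ t _ h
    refine Subtype.ext ?_
    rw [← hfs s.1 s.2, ← hfs t.1 t.2]
    simp only at h
    rw [h]
  have hsplit := Finset.card_filter_add_card_filter_not (s := 𝓐) (p := good)
  have hu := hB.trans (Finset.card_union_le _ _)
  have him : (Finset.univ.image fun p : ↥(Cfsg.suzukiOvoid F m) => MulAction.stabilizer G p).card ≤ n :=
    Finset.card_image_le.trans (by rw [Finset.card_univ])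
  have hch : n < n.choose 2 := by
    obtain ⟨k, hk⟩ : ∃ k, n = k + 5 := ⟨n - 5, by omega⟩
    rw [hk, Nat.choose_two_right, Nat.lt_div_iff_mul_lt' ⟨_, (Nat.even_mul_pred_self _).two_dvd.choose_spec⟩]
    simp
    nlinarith
  omega

end SzHyp

end Cfsg.Agent.Suzuki
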