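import Cfsg.Agent.Lib.Suzuki.Tori
import Cfsg.Agent.Lib.Suzuki.NilCover
import Cfsg.Agent.Lib.Suzuki.TI

/-!
The three kinds of elements of a Suzuki group and the resulting partition; the group is a CN-group.
-/

set_option autoImplicit false

open Matrix

namespace Cfsg.Agent.Suzuki

variable {F : Type*} [Field F] [Fintype F] {m : ℕ}

local notation "Q" => 2 ^ (2 * m + 1)
local notation "θ" => 2 ^ (m + 1)

namespace SzHyp

variable (hs : SzHyp F m)

include hs

/-- Conjugate to a non-identity element of the split torus. -/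
def Spl (g : ↥(Cfsg.Sz F m)) : Prop := ∃ k : ↥(Cfsg.Sz F m), ∃ s : Fˣ, s ≠ 1 ∧ k * g * k⁻¹ = hs.dS s

/-- Conjugate into the unipotent subgroup. -/
def Uni (g : ↥(Cfsg.Sz F m)) : Prop := ∃ k : ↥(Cfsg.Sz F m), k * g * k⁻¹ ∈ hs.tSub

theorem two_pow_of_uni {g : ↥(Cfsg.Sz F m)} (h : hs.Uni g) : g ^ 4 = 1 := by
  obtain ⟨k, hk⟩ := h
  have := Monoid.pow_exponent_eq_one (⟨k * g * k⁻¹, hk⟩ : ↥hs.tSub)
  rw [hs.exponent_tSub] at this
  have h4 : (k * g * k⁻¹) ^ 4 = 1 := congrArg Subtype.val this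
  rw [conj_pow] at h4
  have := congrArg (fun z => k⁻¹ * z * k) h4
  simpa [mul_assoc] using this

theorem dS_pow (s : Fˣ) (n : ℕ) : hs.dS s ^ n = hs.dS (s ^ n) := (map_pow hs.dHom s n).symm

theorem spl_pow {g : ↥(Cfsg.Sz F m)} (h : hs.Spl g) : g ^ (Q - 1) = 1 := by
  obtain ⟨k, s, -, hk⟩ := h
  have : (k * g * k⁻¹) ^ (Q - 1) = 1 := by
    rw [hk, hs.dS_pow, ← hs.card_units, pow_card_eq_one']
    exact map_one hs.dHom
  rw [conj_pow] at this
  have := congrArg (fun z => k⁻¹ * z * k) this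
  simpa [mul_assoc] using this

theorem odd_of_dvd {u : ℕ} (hu : u ∣ Q - 1) : Odd u := by
  refine Odd.of_dvd_nat ?_ hu
  exact Nat.Even.sub_odd Nat.one_le_two_pow (even_iff_two_dvd.mpr (dvd_pow_self 2 (by omega))) odd_one

theorem spl_odd {g : ↥(Cfsg.Sz F m)} (h : hs.Spl g) : Odd (orderOf g) :=
  hs.odd_of_dvd (orderOf_dvd_of_pow_eq_one (hs.spl_pow h))

/-- An element of odd order fixing a point is split. -/
theorem spl_of_fix {g : ↥(Cfsg.Sz F m)} (hg : g ≠ 1) (ho : Odd (orderOf g)) {x : ↥(Cfsg.suzukiOvoid F m)}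
    (hx : g • x = x) : hs.Spl g := by
  obtain ⟨p, hp, hpd⟩ := Nat.exists_prime_and_dvd (fun e => hg (orderOf_eq_one_iff.mp e))
  haveI := Fact.mk hp
  have hp2 : p ≠ 2 := by
    rintro rfl
    exact (Nat.not_even_iff_odd.mpr ho) (even_iff_two_dvd.mpr hpd)
  set u := g ^ (orderOf g / p) with hu'
  have hu : orderOf u = p := orderOf_pow_orderOf_div (orderOf_pos g).ne' hpd
  have hu1 : u ≠ 1 := fun e => by rw [e, orderOf_one] at hu; exact hp.one_lt.ne hu
  have hux : u • x = x := by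
    have : ∀ n : ℕ, (g ^ n) • x = x := fun n => by
      induction n with
      | zero => rw [pow_zero, one_smul]
      | succ n ih => rw [pow_succ, mul_smul, hx, ih]
    exact this _
  have hd : p ∣ Q - 1 := by
    have h1 : p ∣ Q ^ 2 * (Q - 1) := by
      rw [← hs.stab_omega x, ← hu]
      exact (Subgroup.orderOf_mk (H := MulAction.stabilizer (↥(Cfsg.Sz F m)) x) u hux) ▸
        orderOf_dvd_natCard (⟨u, hux⟩ : ↥(MulAction.stabilizer (↥(Cfsg.Sz F m)) x))
    refine (hp.dvd_mul.mp h1).resolve_left fun h => hp2 ?_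
    exact (Nat.prime_dvd_prime_iff_eq hp Nat.prime_two).mp (hp.dvd_of_dvd_pow (hp.dvd_of_dvd_pow h))
  -- a second fixed point
  obtain ⟨y, hyx, huy⟩ : ∃ y, y ≠ x ∧ u • y = y := by
    haveI : Fintype ↥(Cfsg.suzukiOvoid F m) := Fintype.ofFinite _
    have hgrp : IsPGroup p ↥(Subgroup.zpowers u) := IsPGroup.of_card (n := 1) (by rw [Nat.card_zpowers, hu, pow_one])
    by_contra hc
    push Not at hc
    have hset : MulAction.fixedPoints ↥(Subgroup.zpowers u) ↥(Cfsg.suzukiOvoid F m) = {x} := by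
      ext z
      refine ⟨fun hz => ?_, fun hz => ?_⟩
      · by_contra hzx
        exact hc z hzx (hz ⟨u, Subgroup.mem_zpowers u⟩)
      · rw [Set.mem_singleton_iff.mp hz]
        exact fun v => MulAction.mem_stabilizer_iff.mp
          ((Subgroup.zpowers_le.mpr (MulAction.mem_stabilizer_iff.mpr hux)) v.2)
    have := hgrp.card_modEq_card_fixedPoints ↥(Cfsg.suzukiOvoid F m)
    rw [hset, Nat.card_coe_set_eq {x}, Set.ncard_singleton, hs.card_omega] at this
    have h1 : p ∣ Q ^ 2 := (Nat.modEq_iff_dvd' (by omega)).mp this.symm |> fun h => by simpa using h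
    have := Nat.dvd_gcd h1 hd
    have hcop : Nat.Coprime (Q ^ 2) (Q - 1) := by
      refine Nat.Coprime.pow_left 2 (Nat.Coprime.pow_left _ (Nat.prime_two.coprime_iff_not_dvd.mpr ?_))
      have h2 : 2 ∣ Q := dvd_pow_self 2 (by omega)
      have := Nat.one_le_two_pow (n := 2 * m + 1)
      omega
    rw [hcop] at this
    exact hp.not_dvd_one this
  have hgy : g • y = y := hs.fix_of_commute ho hu1 (Commute.self_pow g _) huy
  obtain ⟨k, kx, ky⟩ := hs.exists_move x.2 y.2 (fun e => hyx (Subtype.ext e).symm)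
  obtain ⟨s, e⟩ := hs.exists_dG (k * g * k⁻¹).2
    (show (k * g * k⁻¹) • Cfsg.suzukiPointInfinity F = _ by
      rw [← kx, mul_smul, mul_smul, inv_smul_smul]; exact congrArg _ (congrArg Subtype.val hx))
    (show (k * g * k⁻¹) • ptSz m (0 : F) 0 = _ by
      rw [← ky, mul_smul, mul_smul, inv_smul_smul]; exact congrArg _ (congrArg Subtype.val hgy))
  refine ⟨k, s, fun hs1 => hg ?_, Subtype.ext e⟩
  have h1 : k * g * k⁻¹ = 1 := Subtype.ext (by rw [e, hs1, dG_one]; rfl)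
  have := congrArg (fun z => k⁻¹ * z * k) h1
  simpa [mul_assoc] using this

/-- The unique point fixed by a non-identity unipotent element. -/
theorem uni_fix {g : ↥(Cfsg.Sz F m)} (hg : g ≠ 1) {k : ↥(Cfsg.Sz F m)} (hk : k * g * k⁻¹ ∈ hs.tSub) :
    g • (k⁻¹ • infPt F m) = k⁻¹ • infPt F m ∧ ∀ x, g • x = x → x = k⁻¹ • infPt F m := by
  obtain ⟨a, b, hab⟩ := hk
  have ht1 : hs.tS a b ≠ 1 := fun e => hg (by
    have := congrArg (fun z => k⁻¹ * z * k) (hab.trans e)
    simpa [mul_assoc] using this)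
  have hgk : g = k⁻¹ * hs.tS a b * k := by rw [← hab]; group
  refine ⟨?_, fun x hx => ?_⟩
  · rw [hgk, mul_smul, mul_smul, smul_inv_smul]
    exact congrArg _ (Subtype.ext (tG_infty a b))
  · rw [hgk, mul_smul, mul_smul, inv_smul_eq_iff] at hx
    rw [eq_inv_smul_iff]
    exact Subtype.ext (hs.fix_of_tS ht1 (k • x).2 (congrArg Subtype.val hx))

theorem kinds (g : ↥(Cfsg.Sz F m)) : g = 1 ∨ hs.Ell g ∨ hs.Spl g ∨ hs.Uni g := by
  rcases eq_or_ne g 1 with h1 | h1
  · exact Or.inl h1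
  refine Or.inr ?_
  by_cases hf : ∀ p : ↥(Cfsg.suzukiOvoid F m), g • p ≠ p
  · exact Or.inl hf
  push Not at hf
  obtain ⟨x, hx⟩ := hf
  refine Or.inr ?_
  by_cases ho : Odd (orderOf g)
  · exact Or.inl (hs.spl_of_fix h1 ho hx)
  refine Or.inr ?_
  haveI := Fact.mk Nat.prime_two
  obtain ⟨e, o, ho', heq⟩ := Nat.exists_eq_two_pow_mul_odd (orderOf_pos g).ne'
  have horder : orderOf (g ^ 2 ^ e) = o := by
    rw [orderOf_pow' _ (by positivity), heq, Nat.gcd_mul_right_left]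
    exact Nat.mul_div_cancel_left o (by positivity)
  have hgen : g ^ 2 ^ e = 1 := by
    by_contra hne
    have he0 : e ≠ 0 := fun e0 => ho (by rw [heq, e0, pow_zero, one_mul]; exact ho')
    set u := g ^ (2 ^ (e - 1) * o) with hu
    have hu1 : u ≠ 1 := fun h => by
      have := orderOf_dvd_of_pow_eq_one h
      rw [heq, show 2 ^ e = 2 * 2 ^ (e - 1) by rw [← pow_succ']; congr 1; omega, mul_assoc] at this
      have hpos : 0 < 2 ^ (e - 1) * o := Nat.mul_pos (by positivity) ho'.pos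
      have := Nat.le_of_dvd hpos this
      omega
    have hu2 : u * u = 1 := by
      rw [hu, ← pow_add, ← pow_orderOf_eq_one g]
      congr 1
      rw [heq, show 2 ^ e = 2 * 2 ^ (e - 1) by rw [← pow_succ']; congr 1; omega]
      ring
    have hp : IsPGroup 2 ↥(Subgroup.zpowers u) := IsPGroup.of_card (n := 1) (by
      rw [Nat.card_zpowers, pow_one, orderOf_eq_prime (by rw [sq]; exact hu2) hu1])
    obtain ⟨P, hP⟩ := hp.exists_le_sylow
    obtain ⟨k, hk⟩ := hs.exists_conj P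
    obtain ⟨t, ht, htu⟩ := Subgroup.mem_map.mp (hk.symm ▸ hP (Subgroup.mem_zpowers u))
    obtain ⟨-, huniq⟩ := hs.uni_fix hu1 (k := k⁻¹) (by
      rw [← htu]
      simpa [mul_assoc] using ht)
    have hcu : Commute u (g ^ 2 ^ e) := (Commute.refl g).pow_pow _ _
    have hfx : ∀ n : ℕ, (g ^ n) • x = x := fun n => by
      induction n with
      | zero => rw [pow_zero, one_smul]
      | succ n ih => rw [pow_succ, mul_smul, hx, ih]
    obtain ⟨k', s, hs1, hk'⟩ := hs.spl_of_fix hne (horder ▸ ho') (hfx (2 ^ e))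
    have hzero : (finPt m (0 : F) 0) ≠ infPt F m := fun e => ptSz_ne_infty 0 0 (congrArg Subtype.val e)
    obtain ⟨f1, f2⟩ := hs.comm_torus_fix hs1 (h := k' * u * k'⁻¹) (by
      rw [← hk']
      exact hcu.map (MulAut.conj k').toMonoidHom)
    have g1 : u • (k'⁻¹ • infPt F m) = k'⁻¹ • infPt F m := by
      have : (k' * u * k'⁻¹) • infPt F m = infPt F m := Subtype.ext f1
      rwa [mul_smul, mul_smul, ← eq_inv_smul_iff] at this
    have g2 : u • (k'⁻¹ • finPt m (0 : F) 0) = k'⁻¹ • finPt m (0 : F) 0 := by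
      have : (k' * u * k'⁻¹) • finPt m (0 : F) 0 = finPt m (0 : F) 0 := Subtype.ext f2
      rwa [mul_smul, mul_smul, ← eq_inv_smul_iff] at this
    exact hzero (MulAction.injective k'⁻¹ ((huniq _ g2).trans (huniq _ g1).symm))
  have hp : IsPGroup 2 ↥(Subgroup.zpowers g) := by
    obtain ⟨j, -, hj⟩ := (Nat.dvd_prime_pow Nat.prime_two).mp (orderOf_dvd_of_pow_eq_one hgen)
    exact IsPGroup.of_card (n := j) (by rw [Nat.card_zpowers, hj])
  obtain ⟨P, hP⟩ := hp.exists_le_sylow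
  obtain ⟨k, hk⟩ := hs.exists_conj P
  obtain ⟨t, ht, htu⟩ := Subgroup.mem_map.mp (hk.symm ▸ hP (Subgroup.mem_zpowers g))
  exact ⟨k⁻¹, by rw [← htu]; simpa [mul_assoc] using ht⟩

theorem spl_centralizer {g : ↥(Cfsg.Sz F m)} (h : hs.Spl g) :
    IsCyclic ↥(Subgroup.centralizer ({g} : Set ↥(Cfsg.Sz F m))) ∧
      Nat.card ↥(Subgroup.centralizer ({g} : Set ↥(Cfsg.Sz F m))) = Q - 1 := by
  obtain ⟨k, s, hs1, hk⟩ := h
  have hinj : Function.Injective ((MulAut.conj k⁻¹).toMonoidHom.comp hs.dHom) := fun a b e =>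
    hs.dG_injective (congrArg Subtype.val ((MulAut.conj k⁻¹).injective e))
  have hrange : ((MulAut.conj k⁻¹).toMonoidHom.comp hs.dHom).range =
      Subgroup.centralizer ({g} : Set ↥(Cfsg.Sz F m)) := by
    have hg : g = MulAut.conj k⁻¹ (hs.dS s) := by rw [← hk, MulAut.conj_apply]; group
    ext z
    rw [Subgroup.mem_centralizer_singleton_iff]
    constructor
    · rintro ⟨t, rfl⟩
      show MulAut.conj k⁻¹ (hs.dS t) * g = g * MulAut.conj k⁻¹ (hs.dS t)
      rw [hg, ← map_mul, ← map_mul, ← hs.dS_mul, ← hs.dS_mul, mul_comm]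
    · intro hz
      obtain ⟨f1, f2⟩ := hs.comm_torus_fix hs1 (h := k * z * k⁻¹) (by
        rw [← hk]
        exact Commute.map (show Commute z g from hz) (MulAut.conj k).toMonoidHom)
      obtain ⟨t, et⟩ := hs.exists_dG (k * z * k⁻¹).2 f1 f2
      refine ⟨t, ?_⟩
      show MulAut.conj k⁻¹ (hs.dS t) = z
      rw [show hs.dS t = k * z * k⁻¹ from Subtype.ext et.symm, MulAut.conj_apply]
      group
  constructor
  · rw [← hrange]
    exact isCyclic_of_surjective _ (MonoidHom.rangeRestrict_surjective ((MulAut.conj k⁻¹).toMonoidHom.comp hs.dHom))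
  · rw [← hrange, ← Nat.card_congr (MonoidHom.ofInjective hinj).toEquiv, Nat.card_units, hs.card_eq]

theorem uni_centralizer {g : ↥(Cfsg.Sz F m)} (hg : g ≠ 1) (h : hs.Uni g) :
    IsPGroup 2 ↥(Subgroup.centralizer ({g} : Set ↥(Cfsg.Sz F m))) := by
  obtain ⟨k, hk⟩ := h
  obtain ⟨hfix, huniq⟩ := hs.uni_fix hg hk
  rintro ⟨z, hz⟩
  rw [Subgroup.mem_centralizer_singleton_iff] at hz
  refine ⟨2, Subtype.ext ?_⟩
  show z ^ (2 ^ 2) = 1
  have hzx : z • (k⁻¹ • infPt F m) = k⁻¹ • infPt F m := huniq _ (by rw [← mul_smul, ← hz, mul_smul, hfix])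
  rcases hs.kinds z with e | e | e | e
  · rw [e, one_pow]
  · exact absurd hzx (e _)
  · exfalso
    obtain ⟨k', s, hs1, hk'⟩ := e
    obtain ⟨f1, f2⟩ := hs.comm_torus_fix hs1 (h := k' * g * k'⁻¹) (by
      rw [← hk']
      exact Commute.map (show Commute g z from hz.symm) (MulAut.conj k').toMonoidHom)
    have g1 : (k' * g * k'⁻¹) • infPt F m = infPt F m := Subtype.ext f1
    have g2 : (k' * g * k'⁻¹) • finPt m (0 : F) 0 = finPt m (0 : F) 0 := Subtype.ext f2
    rw [mul_smul, mul_smul, ← eq_inv_smul_iff] at g1 g2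
    exact ptSz_ne_infty 0 0 (congrArg Subtype.val (MulAction.injective k'⁻¹ ((huniq _ g2).trans (huniq _ g1).symm)))
  · exact hs.two_pow_of_uni e

theorem cn : Cfsg.IsCNGroup ↥(Cfsg.Sz F m) := by
  intro g hg
  rcases hs.kinds g with e | e | e | e
  · exact absurd e hg
  · haveI := (hs.centralizer_facts e).1
    letI := IsCyclic.commGroup (α := ↥(Subgroup.centralizer ({g} : Set ↥(Cfsg.Sz F m))))
    infer_instance
  · haveI := (hs.spl_centralizer e).1
    letI := IsCyclic.commGroup (α := ↥(Subgroup.centralizer ({g} : Set ↥(Cfsg.Sz F m))))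
    infer_instance
  · haveI := Fact.mk Nat.prime_two
    exact (hs.uni_centralizer hg e).isNilpotent

theorem sylow_odd_cyclic {p : ℕ} [Fact p.Prime] (hp : p ≠ 2) (P : Sylow p ↥(Cfsg.Sz F m)) : IsCyclic ↥P := by
  rcases subsingleton_or_nontrivial ↥(P : Subgroup ↥(Cfsg.Sz F m)) with h | h
  · exact isCyclic_of_subsingleton
  haveI : Nontrivial ↥(Subgroup.center ↥(P : Subgroup ↥(Cfsg.Sz F m))) := P.isPGroup'.center_nontrivial
  obtain ⟨⟨z, hz⟩, hz1⟩ := exists_ne (1 : ↥(Subgroup.center ↥(P : Subgroup ↥(Cfsg.Sz F m))))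
  have hne : (z : ↥(Cfsg.Sz F m)) ≠ 1 := fun e => hz1 (Subtype.ext (Subtype.ext e))
  have hle : (P : Subgroup ↥(Cfsg.Sz F m)) ≤ Subgroup.centralizer {(z : ↥(Cfsg.Sz F m))} := fun x hx =>
    Subgroup.mem_centralizer_singleton_iff.mpr (congrArg Subtype.val (Subgroup.mem_center_iff.mp hz ⟨x, hx⟩))
  have hcyc : IsCyclic ↥(Subgroup.centralizer {(z : ↥(Cfsg.Sz F m))}) := by
    rcases hs.kinds z.1 with e | e | e | e
    · exact absurd e hne
    · exact (hs.centralizer_facts e).1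
    · exact (hs.spl_centralizer e).1
    · exfalso
      obtain ⟨n, hn⟩ := P.isPGroup' z
      have h1 : orderOf z.1 ∣ p ^ n := orderOf_dvd_of_pow_eq_one (congrArg Subtype.val hn)
      have h2 : orderOf z.1 ∣ 2 ^ 2 := orderOf_dvd_of_pow_eq_one (hs.two_pow_of_uni e)
      have := Nat.dvd_gcd h1 h2
      rw [((Nat.coprime_primes Fact.out Nat.prime_two).mpr hp).pow n 2, Nat.dvd_one] at this
      exact hne (orderOf_eq_one_iff.mp this)
  exact @isCyclic_of_injective _ _ _ _ hcyc (Subgroup.inclusion hle) (Subgroup.inclusion_injective hle)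

theorem coprime_orders : Nat.Coprime (Q - 1) (Q + θ + 1) ∧ Nat.Coprime (Q - 1) (Q - θ + 1) ∧
    Nat.Coprime (Q + θ + 1) (Q - θ + 1) := by
  obtain ⟨-, hθ, -, -, -, hab⟩ := hs.arith
  have h := (@coprime_sq_add_one_pred Q (dvd_pow_self 2 (by omega))).symm
  rw [← hab] at h
  refine ⟨h.coprime_mul_right_right, h.coprime_mul_left_right, ?_⟩
  have hQe : 2 ∣ Q := dvd_pow_self 2 (by omega)
  have hθe : 2 ∣ θ := dvd_pow_self 2 (by omega)
  have hd : Nat.gcd (Q + θ + 1) (Q - θ + 1) ∣ 2 ^ (m + 2) := by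
    have := Nat.dvd_sub (Nat.gcd_dvd_left (Q + θ + 1) (Q - θ + 1)) (Nat.gcd_dvd_right (Q + θ + 1) (Q - θ + 1))
    rwa [show Q + θ + 1 - (Q - θ + 1) = 2 ^ (m + 2) by rw [pow_succ 2 (m + 1)]; omega] at this
  obtain ⟨j, -, hj⟩ := (Nat.dvd_prime_pow Nat.prime_two).mp hd
  rcases Nat.eq_zero_or_pos j with rfl | hjp
  · exact hj
  · exfalso
    have h2 : 2 ∣ Q + θ + 1 := ((dvd_pow_self 2 hjp.ne').trans (dvd_of_eq hj.symm)).trans (Nat.gcd_dvd_left _ _)
    omega

theorem partition (g : ↥(Cfsg.Sz F m)) (hg : g ≠ 1) :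
    ∃! U : Subgroup ↥(Cfsg.Sz F m), ((∃ P : Sylow 2 ↥(Cfsg.Sz F m), U = (P : Subgroup ↥(Cfsg.Sz F m))) ∨
      (IsCyclic ↥U ∧ Nat.card ↥U ∈ ({Q - 1, Q + θ + 1, Q - θ + 1} : Set ℕ))) ∧ g ∈ U := by
  haveI := Fact.mk Nat.prime_two
  obtain ⟨hc1, hc2, hc3⟩ := hs.coprime_orders
  obtain ⟨-, -, -, -, -, hab⟩ := hs.arith
  have hodd : ∀ U : Subgroup ↥(Cfsg.Sz F m), Nat.card ↥U ∈ ({Q - 1, Q + θ + 1, Q - θ + 1} : Set ℕ) → g ∈ U →
      Odd (orderOf g) := by
    intro U hU hgU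
    refine Odd.of_dvd_nat ?_ ((Subgroup.orderOf_mk g hgU) ▸ orderOf_dvd_natCard (⟨g, hgU⟩ : ↥U))
    have he : Even Q := even_iff_two_dvd.mpr (dvd_pow_self 2 (by omega))
    have hq : Odd (Q ^ 2 + 1) := (he.pow_of_ne_zero two_ne_zero).add_one
    rw [← hab] at hq
    rcases hU with e | e | e <;> rw [e]
    · exact hs.odd_of_dvd dvd_rfl
    · exact (Nat.odd_mul.mp hq).1
    · exact (Nat.odd_mul.mp hq).2
  by_cases hu : hs.Uni g
  · obtain ⟨k, hk⟩ := hu
    refine ⟨hs.tSub.map (MulAut.conj k⁻¹).toMonoidHom, ⟨Or.inl ?_, ?_⟩, ?_⟩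
    · exact ⟨k⁻¹ • hs.tSylow, by rw [Sylow.coe_subgroup_smul]; rfl⟩
    · exact ⟨_, hk, by simp [mul_assoc]⟩
    · rintro U ⟨hU | ⟨-, hU⟩, hgU⟩
      · obtain ⟨P, rfl⟩ := hU
        obtain ⟨k', hk'⟩ := hs.exists_conj P
        obtain ⟨t, ht, htg⟩ := Subgroup.mem_map.mp (hk'.symm ▸ hgU)
        have hk'' : k'⁻¹ * g * k'⁻¹⁻¹ ∈ hs.tSub := by rw [← htg]; simpa [mul_assoc] using ht
        have e := (hs.uni_fix hg hk).2 _ (hs.uni_fix hg hk'').1
        rw [inv_inv] at e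
        have hn : k * k' ∈ Subgroup.normalizer (hs.tSub : Set ↥(Cfsg.Sz F m)) := by
          rw [hs.normalizer_tSub, MulAction.mem_stabilizer_iff, mul_smul]
          have := congrArg (fun z => k • z) e
          simp only [smul_inv_smul] at this
          exact congrArg Subtype.val this
        rw [← hk']
        ext z
        rw [Subgroup.mem_map_equiv, Subgroup.mem_map_equiv, MulAut.conj_symm_apply, MulAut.conj_symm_apply, inv_inv]
        have := Subgroup.mem_normalizer_iff.mp hn (k'⁻¹ * z * k')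
        rw [show k * k' * (k'⁻¹ * z * k') * (k * k')⁻¹ = k * z * k⁻¹ by group] at this
        exact this
      · exfalso
        have h4 := Nat.dvd_gcd (orderOf_dvd_of_pow_eq_one (hs.two_pow_of_uni ⟨k, hk⟩)) (dvd_refl (orderOf g))
        have ho := hodd U hU hgU
        have : Nat.Coprime 4 (orderOf g) :=
          (Nat.prime_two.coprime_iff_not_dvd.mpr (fun h => (Nat.not_even_iff_odd.mpr ho) (even_iff_two_dvd.mpr h))).pow_left 2
        rw [this, Nat.dvd_one] at h4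
        exact hg (orderOf_eq_one_iff.mp h4)
  · have hC : IsCyclic ↥(Subgroup.centralizer ({g} : Set ↥(Cfsg.Sz F m))) ∧
        Nat.card ↥(Subgroup.centralizer ({g} : Set ↥(Cfsg.Sz F m))) ∈ ({Q - 1, Q + θ + 1, Q - θ + 1} : Set ℕ) := by
      rcases hs.kinds g with e | e | e | e
      · exact absurd e hg
      · exact ⟨(hs.centralizer_facts e).1, Or.inr (hs.card_centralizer_ell e)⟩
      · exact ⟨(hs.spl_centralizer e).1, Or.inl (hs.spl_centralizer e).2⟩
      · exact absurd e hu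
    refine ⟨_, ⟨Or.inr hC, Subgroup.mem_centralizer_singleton_iff.mpr rfl⟩, ?_⟩
    rintro U ⟨hU | ⟨hcyc, hU⟩, hgU⟩
    · exfalso
      obtain ⟨P, rfl⟩ := hU
      obtain ⟨k, hk⟩ := hs.exists_conj P
      obtain ⟨t, ht, htg⟩ := Subgroup.mem_map.mp (hk.symm ▸ hgU)
      exact hu ⟨k⁻¹, by rw [← htg]; simpa [mul_assoc] using ht⟩
    · have hle : U ≤ Subgroup.centralizer ({g} : Set ↥(Cfsg.Sz F m)) := fun x hx => by
        letI := IsCyclic.commGroup (α := ↥U)
        exact Subgroup.mem_centralizer_singleton_iff.mpr (congrArg Subtype.val (mul_comm (⟨x, hx⟩ : ↥U) ⟨g, hgU⟩))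
      have hd := Subgroup.card_dvd_of_le hle
      have hne : Nat.card ↥U ≠ 1 := fun e => hg (Subgroup.mem_bot.mp (Subgroup.card_eq_one.mp e ▸ hgU))
      refine Subgroup.eq_of_le_of_card_ge hle (le_of_eq ?_)
      have hself : ∀ {x y : ℕ}, Nat.Coprime x y → x ∣ y → x = 1 := fun h h' =>
        Nat.eq_one_of_dvd_coprimes h dvd_rfl h'
      rcases hU with e | e | e <;> rcases hC.2 with e' | e' | e' <;> rw [e] at hne hd ⊢ <;> rw [e'] at hd ⊢
      exacts [absurd (hself hc1 hd) hne, absurd (hself hc2 hd) hne, absurd (hself hc1.symm hd) hne,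
        absurd (hself hc3 hd) hne, absurd (hself hc2.symm hd) hne, absurd (hself hc3.symm hd) hne]

end SzHyp

end Cfsg.Agent.Suzuki
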