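import Cfsg.Agent.Lib.Suzuki.Group
import Mathlib.GroupTheory.Solvable
import Mathlib.GroupTheory.Sylow

/-!
The action on the points, orders, perfectness and simplicity.
-/

set_option autoImplicit false

open Matrix
open scoped Pointwise

namespace Cfsg.Agent.Suzuki

variable {F : Type*} [Field F] [Fintype F] {m : ℕ}

omit [Fintype F] in
theorem tG_inj {a b a' b' : F} (h : tG m a b = tG m a' b') : a = a' ∧ b = b' :=
  ⟨congrArg (fun g : Matrix.SpecialLinearGroup (Fin 4) F => (g : Matrix (Fin 4) (Fin 4) F) 0 1) h,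
    congrArg (fun g : Matrix.SpecialLinearGroup (Fin 4) F => (g : Matrix (Fin 4) (Fin 4) F) 1 3) h⟩

theorem dG_one : dG m (1 : Fˣ) = 1 := by
  have h : dG m (1 : Fˣ) = dG m 1 * dG m 1 := by rw [← SzHyp.dG_mul, mul_one]
  exact (mul_eq_left (a := dG m (1 : Fˣ))).mp h.symm

omit [Fintype F] in
theorem card_ovoid [Finite F] : Nat.card (Cfsg.suzukiOvoid F m) = Nat.card F ^ 2 + 1 := by
  classical
  let f : Option (F × F) → Cfsg.suzukiOvoid F m := fun o => match o with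
    | none => ⟨_, mem_ovoid.mpr (Or.inl rfl)⟩
    | some z => ⟨_, mem_ovoid.mpr (Or.inr ⟨z.1, z.2, rfl⟩)⟩
  have hf : Function.Bijective f := by
    constructor
    · rintro (_ | ⟨x, y⟩) (_ | ⟨x', y'⟩) h
      · rfl
      · exact absurd (congrArg Subtype.val h).symm (ptSz_ne_infty x' y')
      · exact absurd (congrArg Subtype.val h) (ptSz_ne_infty x y)
      · obtain ⟨rfl, rfl⟩ := ptSz_inj (congrArg Subtype.val h); rfl
    · rintro ⟨p, hp⟩
      rcases mem_ovoid.mp hp with rfl | ⟨x, y, rfl⟩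
      exacts [⟨none, rfl⟩, ⟨some (x, y), rfl⟩]
  rw [← Nat.card_congr (Equiv.ofBijective f hf), Finite.card_option, Nat.card_prod, sq]

namespace SzHyp

variable (hs : SzHyp F m)

include hs

theorem card_eq : Nat.card F = 2 ^ (2 * m + 1) := by rw [Nat.card_eq_fintype_card, hs.card]

/-- The elements of the group. -/
abbrev tS (a b : F) : ↥(Cfsg.Sz F m) := ⟨tG m a b, hs.tG_mem a b⟩

/-- The diagonal elements of the group. -/
abbrev dS (s : Fˣ) : ↥(Cfsg.Sz F m) := ⟨dG m s, hs.dG_mem s⟩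

/-- The inversion in the group. -/
abbrev wS : ↥(Cfsg.Sz F m) := ⟨wG F, hs.wG_mem⟩

theorem tS_mul (a b c d : F) : hs.tS a b * hs.tS c d = hs.tS (a + c) (b + d + sg m a * c) :=
  Subtype.ext (hs.tG_mul a b c d)

theorem tS_inv (a b : F) : (hs.tS a b)⁻¹ = hs.tS a (b + sg m a * a) := Subtype.ext (hs.tG_inv a b)

theorem tS_zero : hs.tS 0 0 = 1 := Subtype.ext tG_zero

theorem dS_mul (s t : Fˣ) : hs.dS (s * t) = hs.dS s * hs.dS t := Subtype.ext (dG_mul s t)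

/-- The diagonal elements as a homomorphism. -/
def dHom : Fˣ →* ↥(Cfsg.Sz F m) where
  toFun := hs.dS
  map_one' := Subtype.ext dG_one
  map_mul' := hs.dS_mul

theorem dS_inv (s : Fˣ) : (hs.dS s)⁻¹ = hs.dS s⁻¹ := (map_inv hs.dHom s).symm

theorem wS_sq : hs.wS * hs.wS = 1 := Subtype.ext wG_mul_wG

theorem wS_inv : hs.wS⁻¹ = hs.wS := inv_eq_of_mul_eq_one_right hs.wS_sq

theorem dS_conj_tS (s : Fˣ) (a b : F) :
    hs.dS s * hs.tS a b = hs.tS ((s : F) ^ 2 * a) (sg m (s : F) ^ 2 * (s : F) ^ 2 * b) * hs.dS s :=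
  Subtype.ext (hs.dG_conj_tG s a b)

theorem wS_conj_dS (s : Fˣ) : hs.wS * hs.dS s * hs.wS = hs.dS s⁻¹ := Subtype.ext (hs.wG_conj_dG s)

theorem decompB {g : ↥(Cfsg.Sz F m)}
    (h : g ∈ MulAction.stabilizer (↥(Cfsg.Sz F m)) (Cfsg.suzukiPointInfinity F)) :
    ∃ (a b : F) (s : Fˣ), g = hs.tS a b * hs.dS s := by
  obtain ⟨a, b, s, e⟩ := hs.exists_tG_dG g.2 h
  exact ⟨a, b, s, Subtype.ext e⟩

theorem memB (a b : F) (s : Fˣ) :
    hs.tS a b * hs.dS s ∈ MulAction.stabilizer (↥(Cfsg.Sz F m)) (Cfsg.suzukiPointInfinity F) := by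
  rw [MulAction.mem_stabilizer_iff, Subgroup.smul_def, Subgroup.coe_mul, mul_smul, dG_infty, tG_infty]

theorem decomp (g : ↥(Cfsg.Sz F m)) :
    (∃ (a b : F) (s : Fˣ), g = hs.tS a b * hs.dS s) ∨
      ∃ (a b c d : F) (s : Fˣ), g = hs.tS a b * hs.wS * (hs.tS c d * hs.dS s) := by
  rcases hs.exists_decomp g.2 with ⟨a, b, s, e⟩ | ⟨a, b, c, d, s, e⟩
  exacts [Or.inl ⟨a, b, s, Subtype.ext e⟩, Or.inr ⟨a, b, c, d, s, Subtype.ext e⟩]

theorem gen_top (H : Subgroup ↥(Cfsg.Sz F m)) (ht : ∀ a b, hs.tS a b ∈ H) (hd : ∀ s, hs.dS s ∈ H)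
    (hw : hs.wS ∈ H) : H = ⊤ := by
  refine eq_top_iff.mpr fun g _ => ?_
  rcases hs.decomp g with ⟨a, b, s, rfl⟩ | ⟨a, b, c, d, s, rfl⟩
  exacts [mul_mem (ht a b) (hd s), mul_mem (mul_mem (ht a b) hw) (mul_mem (ht c d) (hd s))]

theorem card_stabilizer_infty :
    Nat.card (MulAction.stabilizer (↥(Cfsg.Sz F m)) (Cfsg.suzukiPointInfinity F)) =
      (2 ^ (2 * m + 1)) ^ 2 * (2 ^ (2 * m + 1) - 1) := by
  classical
  let f : F × F × Fˣ → MulAction.stabilizer (↥(Cfsg.Sz F m)) (Cfsg.suzukiPointInfinity F) :=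
    fun z => ⟨hs.tS z.1 z.2.1 * hs.dS z.2.2, hs.memB _ _ _⟩
  have hf : Function.Bijective f := by
    constructor
    · rintro ⟨a, b, s⟩ ⟨a', b', s'⟩ h
      have h' : tG m a b * dG m s = tG m a' b' * dG m s' :=
        congrArg Subtype.val (congrArg Subtype.val h)
      have h0 := congrArg (fun g : Matrix.SpecialLinearGroup (Fin 4) F => g • ptSz m (0 : F) 0) h'
      simp only [mul_smul, hs.dG_point, mul_zero, hs.tG_point, zero_add, add_zero] at h0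
      obtain ⟨rfl, rfl⟩ := ptSz_inj h0
      rw [hs.dG_injective (mul_left_cancel h')]
    · rintro ⟨g, hg⟩
      obtain ⟨a, b, s, e⟩ := hs.decompB hg
      exact ⟨(a, b, s), Subtype.ext e.symm⟩
  rw [← Nat.card_congr (Equiv.ofBijective f hf), Nat.card_prod, Nat.card_prod, Nat.card_units, hs.card_eq]
  ring

theorem orbit_infty : MulAction.orbit (↥(Cfsg.Sz F m)) (Cfsg.suzukiPointInfinity F) = Cfsg.suzukiOvoid F m := by
  ext p
  constructor
  · rintro ⟨g, rfl⟩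
    exact smul_mem g.2 (mem_ovoid.mpr (Or.inl rfl))
  · intro hp
    rcases mem_ovoid.mp hp with rfl | ⟨x, y, rfl⟩
    · exact MulAction.mem_orbit_self _
    · refine ⟨hs.tS x y * hs.wS, ?_⟩
      show (tG m x y * wG F) • Cfsg.suzukiPointInfinity F = _
      rw [mul_smul, wG_infty (m := m), hs.tG_point]
      simp

theorem card_sz :
    Nat.card ↥(Cfsg.Sz F m) =
      (2 ^ (2 * m + 1)) ^ 2 * ((2 ^ (2 * m + 1)) ^ 2 + 1) * (2 ^ (2 * m + 1) - 1) := by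
  have h := Subgroup.card_mul_index (MulAction.stabilizer (↥(Cfsg.Sz F m)) (Cfsg.suzukiPointInfinity F))
  rw [hs.card_stabilizer_infty, MulAction.index_stabilizer, hs.orbit_infty, ← Nat.card_coe_set_eq, card_ovoid,
    hs.card_eq] at h
  rw [← h]
  ring

theorem exists_move {p r : Projectivization F (Fin 4 → F)} (hp : p ∈ Cfsg.suzukiOvoid F m)
    (hr : r ∈ Cfsg.suzukiOvoid F m) (hne : p ≠ r) :
    ∃ g : ↥(Cfsg.Sz F m), g • p = Cfsg.suzukiPointInfinity F ∧ g • r = ptSz m 0 0 := by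
  obtain ⟨g, rfl⟩ : p ∈ MulAction.orbit (↥(Cfsg.Sz F m)) (Cfsg.suzukiPointInfinity F) := hs.orbit_infty ▸ hp
  rcases mem_ovoid.mp (smul_mem (g⁻¹).2 hr) with h | ⟨x, y, h⟩
  · exfalso
    refine hne ?_
    rw [show ((g⁻¹ : ↥(Cfsg.Sz F m)) : Matrix.SpecialLinearGroup (Fin 4) F) • r = g⁻¹ • r from rfl,
      inv_smul_eq_iff] at h
    exact h.symm
  refine ⟨(hs.tS x y)⁻¹ * g⁻¹, ?_, ?_⟩
  · rw [mul_smul, inv_smul_smul, inv_smul_eq_iff]
    exact (tG_infty x y).symm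
  · rw [mul_smul, inv_smul_eq_iff, show g⁻¹ • r = ptSz m x y from h]
    show ptSz m x y = tG m x y • ptSz m (0 : F) 0
    rw [hs.tG_point]
    simp

theorem fix_three {g : ↥(Cfsg.Sz F m)} {a b c : Projectivization F (Fin 4 → F)} (ha : a ∈ Cfsg.suzukiOvoid F m)
    (hb : b ∈ Cfsg.suzukiOvoid F m) (hc : c ∈ Cfsg.suzukiOvoid F m) (hab : a ≠ b) (hbc : b ≠ c) (hac : a ≠ c)
    (ga : g • a = a) (gb : g • b = b) (gc : g • c = c) : g = 1 := by
  obtain ⟨k, ka, kb⟩ := hs.exists_move ha hb hab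
  have f1 : (k * g * k⁻¹) • Cfsg.suzukiPointInfinity F = Cfsg.suzukiPointInfinity F := by
    rw [← ka, mul_smul, mul_smul, inv_smul_smul, ga]
  have f0 : (k * g * k⁻¹) • ptSz m (0 : F) 0 = ptSz m 0 0 := by
    rw [← kb, mul_smul, mul_smul, inv_smul_smul, gb]
  obtain ⟨s, e⟩ := hs.exists_dG (k * g * k⁻¹).2 f1 f0
  rcases mem_ovoid.mp (smul_mem k.2 hc) with h | ⟨x, y, h⟩
  · exact absurd (MulAction.injective k (ka.trans h.symm)) hac
  have fc : (k * g * k⁻¹) • ptSz m x y = ptSz m x y := by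
    rw [show ptSz m x y = k • c from h.symm, mul_smul, mul_smul, inv_smul_smul, gc]
  rw [Subgroup.smul_def, e, hs.dG_point] at fc
  obtain ⟨e1, e2⟩ := ptSz_inj fc
  have hxy : ¬(x = 0 ∧ y = 0) := by
    rintro ⟨rfl, rfl⟩
    exact hbc (MulAction.injective k (kb.trans h.symm))
  have hs1 : s = 1 := by
    refine Units.ext ?_
    by_cases hx : x = 0
    · have hy : y ≠ 0 := fun e => hxy ⟨hx, e⟩
      have h2 : sg m ((s : F) ^ 2) * (s : F) ^ 2 = 1 := by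
        rw [show sg m ((s : F) ^ 2) = sg m (s : F) ^ 2 by rw [sq, sg_mul, sq]]
        exact (mul_eq_right₀ hy).mp e2
      exact hs.sq_inj (by rw [hs.eq_one_of_mul_sg (pow_ne_zero 2 s.ne_zero) h2]; simp)
    · exact hs.sq_inj (by rw [(mul_eq_right₀ hx).mp e1]; simp)
  have h1 : k * g * k⁻¹ = 1 := Subtype.ext (by rw [e, hs1, dG_one]; rfl)
  have h2 : g = k⁻¹ * (k * g * k⁻¹) * k := by group
  rw [h2, h1]
  group

theorem smul_infty_iff (a b : F) : hs.tS a b • ptSz m 0 0 = ptSz m a b := by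
  show tG m a b • ptSz m (0 : F) 0 = _
  rw [hs.tG_point]
  simp

theorem fix_of_tS {a b : F} (hne : hs.tS a b ≠ 1) {p : Projectivization F (Fin 4 → F)}
    (hp : p ∈ Cfsg.suzukiOvoid F m) (h : hs.tS a b • p = p) : p = Cfsg.suzukiPointInfinity F := by
  rcases mem_ovoid.mp hp with rfl | ⟨x, y, rfl⟩
  · rfl
  rw [Subgroup.smul_def] at h
  rw [hs.tG_point] at h
  obtain ⟨h1, h2⟩ := ptSz_inj h
  rw [add_eq_left] at h1
  subst h1
  rw [sg_zero, zero_mul, add_zero, add_eq_left] at h2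
  subst h2
  exact absurd hs.tS_zero hne

/-! ### Perfectness and simplicity -/

theorem exists_gt : ∃ u : F, u ≠ 0 ∧ u ≠ 1 := by
  classical
  by_contra h
  push Not at h
  have : (Finset.univ : Finset F) ⊆ {0, 1} := fun u _ => by
    by_cases e : u = 0
    · simp [e]
    · simp [h u e]
  have h1 := (Finset.card_le_card this).trans Finset.card_le_two
  rw [Finset.card_univ, hs.card] at h1
  have : 2 ^ 3 ≤ 2 ^ (2 * m + 1) := Nat.pow_le_pow_right two_pos (by have := hs.hm; omega)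
  omega

theorem exists_unit : ∃ s : Fˣ, s ≠ 1 := by
  obtain ⟨u, h0, h1⟩ := hs.exists_gt
  exact ⟨Units.mk0 u h0, fun e => h1 (by simpa using congrArg Units.val e)⟩

theorem comm_dS_tS (s : Fˣ) (a b : F) :
    hs.dS s * hs.tS a b * (hs.dS s)⁻¹ * (hs.tS a b)⁻¹ =
      hs.tS (((s : F) ^ 2 + 1) * a)
        (sg m (s : F) ^ 2 * (s : F) ^ 2 * b + (b + sg m a * a) + sg m ((s : F) ^ 2 * a) * a) := by
  rw [hs.dS_conj_tS, mul_inv_cancel_right, hs.tS_inv, hs.tS_mul]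
  congr 1
  ring

theorem tS_mem_of_comm (H : Subgroup ↥(Cfsg.Sz F m)) {s : Fˣ} (hs1 : s ≠ 1)
    (h : ∀ a b, hs.dS s * hs.tS a b * (hs.dS s)⁻¹ * (hs.tS a b)⁻¹ ∈ H) (a b : F) : hs.tS a b ∈ H := by
  have hne : ((s : F) ^ 2 + 1) ≠ 0 := by
    rw [Ne, hs.add_eq_zero_iff]
    exact fun e => hs1 (Units.ext (hs.sq_inj (by simpa using e)))
  have hne2 : sg m (s : F) ^ 2 * (s : F) ^ 2 + 1 ≠ 0 := by
    rw [Ne, hs.add_eq_zero_iff]
    intro e
    refine hs1 (Units.ext (hs.eq_one_of_mul_sg s.ne_zero (hs.sq_inj ?_)))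
    rw [mul_pow, e, one_pow]
  set A := a / ((s : F) ^ 2 + 1)
  set B := (b - sg m A * A - sg m ((s : F) ^ 2 * A) * A) / (sg m (s : F) ^ 2 * (s : F) ^ 2 + 1)
  have := h A B
  rw [hs.comm_dS_tS] at this
  have e1 : ((s : F) ^ 2 + 1) * A = a := by simp only [A]; field_simp
  have e2 : sg m (s : F) ^ 2 * (s : F) ^ 2 * B + (B + sg m A * A) + sg m ((s : F) ^ 2 * A) * A = b := by
    have : (sg m (s : F) ^ 2 * (s : F) ^ 2 + 1) * B = b - sg m A * A - sg m ((s : F) ^ 2 * A) * A := by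
      simp only [B]; field_simp
    linear_combination this
  rwa [e1, e2] at this

theorem top_of_tS (H : Subgroup ↥(Cfsg.Sz F m)) [H.Normal] (ht : ∀ a b, hs.tS a b ∈ H) : H = ⊤ := by
  obtain ⟨a, b, c, d, t, e⟩ : ∃ (a b c d : F) (t : Fˣ),
      hs.wS * hs.tS 0 1 * hs.wS = hs.tS a b * hs.wS * (hs.tS c d * hs.dS t) := by
    rcases hs.decomp (hs.wS * hs.tS 0 1 * hs.wS) with ⟨a, b, s, e⟩ | h
    · exfalso
      have hfix : (hs.wS * hs.tS 0 1 * hs.wS) • Cfsg.suzukiPointInfinity F = Cfsg.suzukiPointInfinity F := by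
        rw [e]; exact hs.memB a b s
      have hw0 : hs.wS • Cfsg.suzukiPointInfinity F = ptSz m (0 : F) 0 := wG_infty
      have hw1 : hs.wS • ptSz m (0 : F) 0 = Cfsg.suzukiPointInfinity F := wG_zero
      rw [mul_smul, mul_smul, hw0, ← hw1] at hfix
      have := MulAction.injective hs.wS hfix
      rw [hs.smul_infty_iff] at this
      exact one_ne_zero (ptSz_inj this).2
    · exact h
  have hd : ∀ u : Fˣ, hs.dS (u * u) ∈ H → hs.dS (u * u) ∈ H := fun _ => id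
  have hwmem : ∀ u : Fˣ, (hs.wS * hs.dS u ∈ H) → ∀ s : Fˣ, hs.dS s ∈ H := by
    intro u hu s
    obtain ⟨r, hr⟩ := hs.exists_sq (s : F)
    have hr0 : r ≠ 0 := fun e => s.ne_zero (by rw [← hr, e]; simp)
    have e2 : s = Units.mk0 r hr0 * Units.mk0 r hr0 := Units.ext (by rw [Units.val_mul, ← sq]; exact hr.symm)
    have h1 := (inferInstance : H.Normal).conj_mem _ hu (hs.dS (Units.mk0 r hr0))
    have h2 := mul_mem (inv_mem hu) h1
    have e3 : (hs.wS * hs.dS u)⁻¹ * (hs.dS (Units.mk0 r hr0) * (hs.wS * hs.dS u) * (hs.dS (Units.mk0 r hr0))⁻¹) =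
        hs.dS (s⁻¹) := by
      rw [_root_.mul_inv_rev, hs.wS_inv, hs.dS_inv, hs.dS_inv]
      calc _ = hs.dS u⁻¹ * (hs.wS * hs.dS (Units.mk0 r hr0) * hs.wS) * hs.dS u * hs.dS (Units.mk0 r hr0)⁻¹ := by
            simp only [mul_assoc]
        _ = _ := by
            rw [hs.wS_conj_dS, ← hs.dS_mul, ← hs.dS_mul, ← hs.dS_mul, e2, _root_.mul_inv_rev]
            congr 1
            rw [mul_comm u⁻¹, mul_assoc, mul_assoc, ← mul_assoc u⁻¹, inv_mul_cancel, one_mul]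
    rw [e3] at h2
    have := inv_mem h2
    rwa [hs.dS_inv, inv_inv] at this
  have hwtw : hs.wS * hs.tS 0 1 * hs.wS ∈ H := by
    have := (inferInstance : H.Normal).conj_mem _ (ht 0 1) hs.wS
    rwa [hs.wS_inv] at this
  rw [e] at hwtw
  have hwd : hs.wS * hs.dS t ∈ H := by
    have h1 := mul_mem (inv_mem (ht a b)) hwtw
    rw [← mul_assoc, ← mul_assoc, ← mul_assoc, inv_mul_cancel, one_mul] at h1
    have h2 : hs.wS * hs.tS c d * hs.dS t = (hs.wS * hs.tS c d * hs.wS⁻¹) * (hs.wS * hs.dS t) := by group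
    rw [h2] at h1
    exact (Subgroup.mul_mem_cancel_left H ((inferInstance : H.Normal).conj_mem _ (ht c d) _)).mp h1
  have hD := hwmem t hwd
  refine hs.gen_top H ht hD ?_
  have := mul_mem hwd (inv_mem (hD t))
  rwa [mul_inv_cancel_right] at this

theorem perfect : commutator ↥(Cfsg.Sz F m) = ⊤ := by
  obtain ⟨s, hs1⟩ := hs.exists_unit
  refine hs.top_of_tS _ (hs.tS_mem_of_comm _ hs1 fun a b => ?_)
  exact Subgroup.commutator_mem_commutator (Subgroup.mem_top (hs.dS s)) (Subgroup.mem_top (hs.tS a b))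

theorem top_of_normal (H : Subgroup ↥(Cfsg.Sz F m)) [hH : H.Normal] (hne : H ≠ ⊥) : H = ⊤ := by
  obtain ⟨g, hg, hg1⟩ := (Subgroup.ne_bot_iff_exists_ne_one.mp hne).elim fun x hx =>
    (⟨x.1, x.2, fun e => hx (Subtype.ext e)⟩ : ∃ g, g ∈ H ∧ g ≠ 1)
  obtain ⟨s, hs1⟩ := hs.exists_unit
  -- an element of the subgroup moving the distinguished point
  obtain ⟨h, hh, hmove⟩ : ∃ h ∈ H, h • Cfsg.suzukiPointInfinity F ≠ Cfsg.suzukiPointInfinity F := by
    by_contra hc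
    push Not at hc
    refine hg1 ?_
    have hall : ∀ p ∈ Cfsg.suzukiOvoid F m, g • p = p := by
      intro p hp
      obtain ⟨k, rfl⟩ : p ∈ MulAction.orbit (↥(Cfsg.Sz F m)) (Cfsg.suzukiPointInfinity F) := hs.orbit_infty ▸ hp
      have := hc _ (hH.conj_mem g hg k⁻¹)
      rw [inv_inv, mul_smul, mul_smul, inv_smul_eq_iff] at this
      exact this
    refine hs.fix_three (mem_ovoid.mpr (Or.inl rfl)) (mem_ovoid.mpr (Or.inr ⟨0, 0, rfl⟩))
      (mem_ovoid.mpr (Or.inr ⟨1, 0, rfl⟩)) (ptSz_ne_infty 0 0).symm (fun e => zero_ne_one (ptSz_inj e).1)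
      (ptSz_ne_infty 1 0).symm (hall _ (mem_ovoid.mpr (Or.inl rfl))) (hall _ (mem_ovoid.mpr (Or.inr ⟨0, 0, rfl⟩)))
      (hall _ (mem_ovoid.mpr (Or.inr ⟨1, 0, rfl⟩)))
  obtain ⟨a, b, c, d, t, e⟩ : ∃ (a b c d : F) (t : Fˣ), h = hs.tS a b * hs.wS * (hs.tS c d * hs.dS t) := by
    rcases hs.decomp h with ⟨a, b, u, rfl⟩ | h'
    · exact absurd (hs.memB a b u) hmove
    · exact h'
  -- so the quotient is the image of the solvable stabiliser
  set π := QuotientGroup.mk' H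
  have hπw : π hs.wS = (π (hs.tS a b))⁻¹ * (π (hs.tS c d * hs.dS t))⁻¹ := by
    have h1 : π h = 1 := (QuotientGroup.eq_one_iff h).mpr hh
    rw [e, map_mul, map_mul] at h1
    rw [eq_inv_mul_iff_mul_eq]
    exact eq_inv_of_mul_eq_one_left h1
  have hperf : ∀ x : ↥(Cfsg.Sz F m) ⧸ H, x ∈ commutator (↥(Cfsg.Sz F m) ⧸ H) := by
    intro x
    obtain ⟨y, rfl⟩ := QuotientGroup.mk'_surjective H x
    have : π y ∈ (commutator ↥(Cfsg.Sz F m)).map π := Subgroup.mem_map_of_mem π (by rw [hs.perfect]; trivial)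
    rw [commutator_def, Subgroup.map_commutator] at this
    exact Subgroup.commutator_mono le_top le_top this
  -- the images of translations and diagonal elements commute modulo the images of translations
  have hU : ∀ x : ↥(Cfsg.Sz F m) ⧸ H, ∃ (a' b' : F) (u : Fˣ), x = π (hs.tS a' b' * hs.dS u) := by
    intro x
    obtain ⟨y, rfl⟩ := QuotientGroup.mk'_surjective H x
    have hmul : ∀ p q : ↥(Cfsg.Sz F m) ⧸ H, (∃ (a' b' : F) (u : Fˣ), p = π (hs.tS a' b' * hs.dS u)) →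
        (∃ (a' b' : F) (u : Fˣ), q = π (hs.tS a' b' * hs.dS u)) →
        ∃ (a' b' : F) (u : Fˣ), p * q = π (hs.tS a' b' * hs.dS u) := by
      rintro p q ⟨a₁, b₁, u₁, rfl⟩ ⟨a₂, b₂, u₂, rfl⟩
      refine ⟨a₁ + (u₁ : F) ^ 2 * a₂, b₁ + sg m (u₁ : F) ^ 2 * (u₁ : F) ^ 2 * b₂ + sg m a₁ * ((u₁ : F) ^ 2 * a₂), u₁ * u₂, ?_⟩
      rw [← map_mul, mul_assoc, ← mul_assoc (hs.dS u₁), hs.dS_conj_tS, mul_assoc, ← hs.dS_mul, ← mul_assoc,
        hs.tS_mul]
    have hinv : ∀ p : ↥(Cfsg.Sz F m) ⧸ H, (∃ (a' b' : F) (u : Fˣ), p = π (hs.tS a' b' * hs.dS u)) →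
        ∃ (a' b' : F) (u : Fˣ), p⁻¹ = π (hs.tS a' b' * hs.dS u) := by
      rintro p ⟨a₁, b₁, u₁, rfl⟩
      rw [← map_inv, _root_.mul_inv_rev, hs.dS_inv, hs.tS_inv, hs.dS_conj_tS]
      exact ⟨_, _, _, rfl⟩
    have hT : ∀ a' b', ∃ (a'' b'' : F) (u : Fˣ), π (hs.tS a' b') = π (hs.tS a'' b'' * hs.dS u) := fun a' b' =>
      ⟨a', b', 1, by rw [show hs.dS 1 = 1 from map_one hs.dHom, mul_one]⟩
    have hW : ∃ (a' b' : F) (u : Fˣ), π hs.wS = π (hs.tS a' b' * hs.dS u) := by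
      rw [hπw]; exact hmul _ _ (hinv _ (hT a b)) (hinv _ ⟨c, d, t, rfl⟩)
    rcases hs.decomp y with ⟨a', b', u, rfl⟩ | ⟨a', b', c', d', u, rfl⟩
    · exact ⟨a', b', u, rfl⟩
    · rw [map_mul, map_mul]
      exact hmul _ _ (hmul _ _ (hT a' b') hW) ⟨c', d', u, rfl⟩
  have hcomT : ∀ x : ↥(Cfsg.Sz F m) ⧸ H, x ∈ commutator (↥(Cfsg.Sz F m) ⧸ H) →
      ∃ a' b' : F, x = π (hs.tS a' b') := by
    intro x hx
    let T : Subgroup ↥(Cfsg.Sz F m) :=
      { carrier := {z | ∃ a' b' : F, z = hs.tS a' b'}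
        one_mem' := ⟨0, 0, hs.tS_zero.symm⟩
        mul_mem' := by rintro _ _ ⟨p, q, rfl⟩ ⟨p', q', rfl⟩; exact ⟨_, _, hs.tS_mul p q p' q'⟩
        inv_mem' := by rintro _ ⟨p, q, rfl⟩; exact ⟨_, _, hs.tS_inv p q⟩ }
    suffices h : commutator (↥(Cfsg.Sz F m) ⧸ H) ≤ T.map π by
      obtain ⟨z, ⟨a', b', rfl⟩, rfl⟩ := h hx
      exact ⟨a', b', rfl⟩
    rw [commutator_def]
    refine Subgroup.commutator_le.mpr fun p _ q _ => ?_
    obtain ⟨a₁, b₁, u₁, rfl⟩ := hU p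
    obtain ⟨a₂, b₂, u₂, rfl⟩ := hU q
    rw [← map_commutatorElement]
    refine Subgroup.mem_map_of_mem π ?_
    rw [commutatorElement_def, _root_.mul_inv_rev, _root_.mul_inv_rev, hs.dS_inv, hs.dS_inv, hs.tS_inv, hs.tS_inv]
    have push : ∀ (v : Fˣ) (p q : F) (z : ↥(Cfsg.Sz F m)),
        hs.dS v * (hs.tS p q * z) = hs.tS ((v : F) ^ 2 * p) (sg m (v : F) ^ 2 * (v : F) ^ 2 * q) * (hs.dS v * z) := by
      intro v p q z; rw [← mul_assoc, hs.dS_conj_tS, mul_assoc]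
    have comb : ∀ (v w : Fˣ) (z : ↥(Cfsg.Sz F m)), hs.dS v * (hs.dS w * z) = hs.dS (v * w) * z := by
      intro v w z; rw [← mul_assoc, ← hs.dS_mul]
    simp only [mul_assoc, push, comb]
    rw [show u₁ * (u₂ * (u₁⁻¹ * u₂⁻¹)) = 1 by rw [← mul_assoc, ← _root_.mul_inv_rev, mul_comm u₂ u₁, mul_inv_cancel]]
    simp only [show hs.dS 1 = 1 from map_one hs.dHom, one_mul]
    exact mul_mem ⟨_, _, rfl⟩ (mul_mem ⟨_, _, rfl⟩ (mul_mem ⟨_, _, rfl⟩ ⟨_, _, rfl⟩))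
  have hcomZ : ∀ x : ↥(Cfsg.Sz F m) ⧸ H, x ∈ commutator (↥(Cfsg.Sz F m) ⧸ H) →
      ∃ b' : F, x = π (hs.tS 0 b') := by
    intro x hx
    let Z : Subgroup ↥(Cfsg.Sz F m) :=
      { carrier := {z | ∃ b' : F, z = hs.tS 0 b'}
        one_mem' := ⟨0, hs.tS_zero.symm⟩
        mul_mem' := by
          rintro _ _ ⟨q, rfl⟩ ⟨q', rfl⟩
          refine ⟨q + q', ?_⟩
          rw [hs.tS_mul, add_zero, sg_zero, zero_mul, add_zero]
        inv_mem' := by
          rintro _ ⟨q, rfl⟩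
          refine ⟨q, ?_⟩
          rw [hs.tS_inv, sg_zero, zero_mul, add_zero] }
    suffices h : commutator (↥(Cfsg.Sz F m) ⧸ H) ≤ Z.map π by
      obtain ⟨z, ⟨b', rfl⟩, rfl⟩ := h hx
      exact ⟨b', rfl⟩
    rw [commutator_def]
    refine Subgroup.commutator_le.mpr fun p _ q _ => ?_
    obtain ⟨a₁, b₁, rfl⟩ := hcomT p (hperf p)
    obtain ⟨a₂, b₂, rfl⟩ := hcomT q (hperf q)
    rw [← map_commutatorElement]
    refine Subgroup.mem_map_of_mem π ⟨sg m a₁ * a₂ + sg m a₂ * a₁, ?_⟩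
    rw [commutatorElement_def, hs.tS_inv, hs.tS_inv, hs.tS_mul, hs.tS_mul, hs.tS_mul]
    simp only [hs.sg_add]
    congr 1
    · linear_combination (a₁ + a₂) * hs.two_eq_zero
    · linear_combination (b₁ + b₂ + sg m a₁ * a₁ + sg m a₂ * a₂ + sg m a₁ * a₂) * hs.two_eq_zero
  have htriv : commutator (↥(Cfsg.Sz F m) ⧸ H) ≤ ⊥ := by
    rw [commutator_def]
    refine Subgroup.commutator_le.mpr fun p _ q _ => ?_
    obtain ⟨b₁, rfl⟩ := hcomZ p (hperf p)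
    obtain ⟨b₂, rfl⟩ := hcomZ q (hperf q)
    rw [Subgroup.mem_bot, ← map_commutatorElement, commutatorElement_eq_one_iff_mul_comm.mpr, map_one]
    rw [hs.tS_mul, hs.tS_mul, add_comm b₁ b₂]
  refine eq_top_iff.mpr fun y _ => ?_
  exact (QuotientGroup.eq_one_iff y).mp (Subgroup.mem_bot.mp (htriv (hperf (π y))))

theorem isSimpleGroup : IsSimpleGroup ↥(Cfsg.Sz F m) :=
  haveI : Nontrivial ↥(Cfsg.Sz F m) := ⟨⟨hs.tS 0 1, 1, fun e => one_ne_zero (α := F)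
    (tG_inj ((congrArg Subtype.val e).trans (tG_zero (F := F) (m := m)).symm)).2⟩⟩
  ⟨fun H hH => by
    by_cases h : H = ⊥
    · exact Or.inl h
    · haveI := hH; exact Or.inr (hs.top_of_normal H h)⟩

end SzHyp

end Cfsg.Agent.Suzuki
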