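import Cfsg.Agent.Lib.Suzuki.LieSz
import Cfsg.Agent.Lib.Suzuki.TI
import Mathlib.Analysis.Fourier.FiniteAbelian.PontryaginDuality
import Mathlib.NumberTheory.LegendreSymbol.AddCharacter
import Mathlib.RepresentationTheory.Irreducible

/-! The smallest degree of a non-trivial complex representation. -/

set_option autoImplicit false

namespace Cfsg.Agent.Suzuki

variable {F : Type*} [Field F] [Fintype F] {m : ℕ}

namespace SzHyp

variable (hs : SzHyp F m)

include hs

/-- The commutator pairing against a fixed element. -/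
def pairHom (a : F) : F →+ F where
  toFun c := sg m a * c + sg m c * a
  map_zero' := by simp [sg_zero]
  map_add' c d := by rw [hs.sg_add]; ring

theorem pairHom_index {a : F} (ha : a ≠ 0) : (hs.pairHom a).range.index = 2 := by
  have hker : ∀ c, c ∈ (hs.pairHom a).ker ↔ c = 0 ∨ c = a := by
    intro c
    rw [AddMonoidHom.mem_ker]
    show sg m a * c + sg m c * a = 0 ↔ _
    constructor
    · intro h
      have hu : sg m (c / a) = c / a := by
        rw [hs.add_eq_zero_iff] at h
        rw [div_eq_mul_inv, sg_mul, sg_inv]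
        have := sg_ne_zero (m := m) ha
        field_simp
        linear_combination -h
      rcases hs.eq_zero_or_one_of_sg hu with e | e
      · exact Or.inl ((div_eq_zero_iff.mp e).resolve_right ha)
      · exact Or.inr ((div_eq_one_iff_eq ha).mp e)
    · rintro (rfl | rfl)
      · simp [sg_zero]
      · rw [mul_comm, hs.add_self]
  have hk2 : Nat.card (hs.pairHom a).ker = 2 := by
    rw [Nat.card_congr (Equiv.ofBijective (fun i : Bool => (⟨bif i then a else 0,
      (hker _).mpr (by cases i <;> simp)⟩ : (hs.pairHom a).ker)) ⟨?_, ?_⟩).symm, Nat.card_eq_fintype_card,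
      Fintype.card_bool]
    · intro i j h
      have := congrArg Subtype.val h
      cases i <;> cases j <;> simp [ha, Ne.symm ha] at this ⊢
    · rintro ⟨c, hc⟩
      rcases (hker c).mp hc with rfl | rfl
      exacts [⟨false, rfl⟩, ⟨true, rfl⟩]
  have h1 := (hs.pairHom a).ker.card_mul_index
  rw [AddSubgroup.index_ker, hk2] at h1
  have h2 := (hs.pairHom a).range.card_mul_index
  have h0 : 0 < Nat.card (hs.pairHom a).range := Nat.card_pos
  rw [← h1] at h2
  exact Nat.eq_of_mul_eq_mul_left h0 (h2.trans (mul_comm _ _))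

theorem char_sq (ψ : AddChar F ℂ) (x : F) : ψ x = 1 ∨ ψ x = -1 := by
  have h : ψ x ^ 2 = 1 := by rw [sq, ← AddChar.map_add_eq_mul, hs.add_self, AddChar.map_zero_eq_one]
  exact sq_eq_one_iff.mp h

theorem radical_le (ψ : AddChar F ℂ) (hψ : ψ ≠ 1) {a b : F} (ha : a ≠ 0) (hb : b ≠ 0)
    (h1 : ∀ c, ψ (hs.pairHom a c) = 1) (h2 : ∀ c, ψ (hs.pairHom b c) = 1) : a = b := by
  obtain ⟨x0, hx0⟩ := AddChar.ne_one_iff.mp hψ
  set μ := sg m (b / a) * (b / a) with hμ
  have hba : b / a ≠ 0 := div_ne_zero hb ha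
  have hμ0 : μ ≠ 0 := mul_ne_zero (sg_ne_zero hba) hba
  -- both characters kill the image of the second pairing
  have h3 : ∀ c, ψ (μ⁻¹ * hs.pairHom b c) = 1 := by
    intro c
    rw [show μ⁻¹ * hs.pairHom b c = hs.pairHom a (c / (b / a)) from ?_]
    · exact h1 _
    · show μ⁻¹ * (sg m b * c + sg m c * b) = sg m a * (c / (b / a)) + sg m (c / (b / a)) * a
      simp only [hμ, div_eq_mul_inv, sg_mul, sg_inv, mul_inv_rev, inv_inv]
      have := sg_ne_zero (m := m) ha
      have := sg_ne_zero (m := m) hb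
      field_simp
  have hidx := hs.pairHom_index hb
  have key : ∀ x, ψ (μ⁻¹ * x) = ψ x := by
    intro x
    by_cases hx : x ∈ (hs.pairHom b).range
    · obtain ⟨c, rfl⟩ := hx
      rw [h3, h2]
    · -- both values are minus one off the image
      have hx0' : x0 ∉ (hs.pairHom b).range := fun ⟨c, e⟩ => hx0 (e ▸ h2 c)
      have hy0 : μ * x0 ∉ (hs.pairHom b).range := fun ⟨c, e⟩ => by
        refine hx0 ?_
        have := h3 c
        rwa [e, inv_mul_cancel_left₀ hμ0] at this
      have e1 : ψ x = -1 := by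
        have hm : x + x0 ∈ (hs.pairHom b).range :=
          (AddSubgroup.add_mem_iff_of_index_two hidx).mpr (by simp [hx, hx0'])
        obtain ⟨c, hc⟩ := hm
        have := h2 c
        rw [hc, AddChar.map_add_eq_mul] at this
        rcases hs.char_sq ψ x0 with e | e
        · exact absurd e hx0
        · rw [e] at this; linear_combination -this
      have e2 : ψ (μ⁻¹ * x) = -1 := by
        have hm : x + μ * x0 ∈ (hs.pairHom b).range :=
          (AddSubgroup.add_mem_iff_of_index_two hidx).mpr (by simp [hx, hy0])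
        obtain ⟨c, hc⟩ := hm
        have := h3 c
        rw [hc, mul_add, inv_mul_cancel_left₀ hμ0, AddChar.map_add_eq_mul] at this
        rcases hs.char_sq ψ x0 with e | e
        · exact absurd e hx0
        · rw [e] at this; linear_combination -this
      rw [e1, e2]
  have hμ1 : μ⁻¹ = 1 := by
    by_contra hne
    have h : ∀ x, ψ ((μ⁻¹ + 1) * x) = 1 := fun x => by
      rw [add_mul, one_mul, AddChar.map_add_eq_mul, key]
      rcases hs.char_sq ψ x with e | e <;> rw [e] <;> norm_num
    have hne' : μ⁻¹ + 1 ≠ 0 := fun e => hne (hs.add_eq_zero_iff.mp e)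
    exact hx0 (by have := h ((μ⁻¹ + 1)⁻¹ * x0); rwa [mul_inv_cancel_left₀ hne'] at this)
  exact ((div_eq_one_iff_eq ha).mp (hs.eq_one_of_mul_sg hba (inv_eq_one.mp hμ1))).symm

variable {V : Type*} [AddCommGroup V] [Module ℂ V]
variable (ρ : Representation ℂ ↥(Cfsg.Sz F m) V)

/-- The eigenspace of a character of the centre. -/
def eigen (ψ : AddChar F ℂ) : Submodule ℂ V where
  carrier := {v | ∀ b, ρ (hs.tS 0 b) v = ψ b • v}
  add_mem' {v w} hv hw b := by rw [map_add, hv b, hw b, smul_add]
  zero_mem' b := by rw [map_zero, smul_zero]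
  smul_mem' r v hv b := by rw [map_smul, hv b, smul_comm]

theorem tS_central (a b b' : F) : hs.tS 0 b' * hs.tS a b = hs.tS a b * hs.tS 0 b' := by
  rw [hs.tS_mul, hs.tS_mul]
  congr 1
  · rw [zero_add, add_zero]
  · rw [sg_zero]; ring

theorem tS_swap (a c : F) : hs.tS c 0 * hs.tS a 0 = hs.tS 0 (hs.pairHom a c) * (hs.tS a 0 * hs.tS c 0) := by
  rw [hs.tS_mul, hs.tS_mul, hs.tS_mul]
  congr 1
  · ring
  · show _ = (sg m a * c + sg m c * a) + (0 + 0 + sg m a * c) + sg m 0 * (a + c)
    rw [sg_zero]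
    linear_combination -(sg m a * c) * hs.two_eq_zero

theorem finrank_eigen [FiniteDimensional ℂ V] (ψ : AddChar F ℂ) (hψ : ψ ≠ 1) (h : hs.eigen ρ ψ ≠ ⊥) :
    2 ^ m ≤ Module.finrank ℂ (hs.eigen ρ ψ) := by
  classical
  have hinv : ∀ a, ∀ v ∈ hs.eigen ρ ψ, ρ (hs.tS a 0) v ∈ hs.eigen ρ ψ := fun a v hv b => by
    rw [← Module.End.mul_apply, ← map_mul, hs.tS_central, map_mul, Module.End.mul_apply, hv b, map_smul]
  let A : F → Module.End ℂ (hs.eigen ρ ψ) := fun a => (ρ (hs.tS a 0)).restrict (hinv a)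
  have hA0 : ∀ a, A a ≠ 0 := by
    intro a e
    obtain ⟨v, hv, hv0⟩ := Submodule.exists_mem_ne_zero_of_ne_bot h
    have h1 : ρ (hs.tS a 0) v = 0 := congrArg Subtype.val (LinearMap.congr_fun e ⟨v, hv⟩)
    have h2 := ρ.inv_self_apply (hs.tS a 0) v
    rw [h1, map_zero] at h2
    exact hv0 h2.symm
  have hswap : ∀ a c, A c * A a = ψ (hs.pairHom a c) • (A a * A c) := fun a c => by
    refine LinearMap.ext fun v => Subtype.ext ?_
    show ρ (hs.tS c 0) (ρ (hs.tS a 0) v) = ψ (hs.pairHom a c) • ρ (hs.tS a 0) (ρ (hs.tS c 0) v)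
    rw [← Module.End.mul_apply, ← map_mul, hs.tS_swap, map_mul, map_mul, Module.End.mul_apply,
      Module.End.mul_apply]
    exact hinv a _ (hinv c _ v.2) _
  have hright : ∀ c (X : Module.End ℂ (hs.eigen ρ ψ)), X * A c = 0 → X = 0 := fun c X e => by
    refine LinearMap.ext fun v => ?_
    have hmem : ρ (hs.tS c 0)⁻¹ v ∈ hs.eigen ρ ψ := by
      intro b
      rw [hs.tS_inv, ← Module.End.mul_apply, ← map_mul, hs.tS_central, map_mul, Module.End.mul_apply, v.2 b,
        map_smul]
    have h1 := LinearMap.congr_fun e ⟨_, hmem⟩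
    have h2 : A c ⟨_, hmem⟩ = v := Subtype.ext (ρ.self_inv_apply (hs.tS c 0) v)
    rw [Module.End.mul_apply, h2] at h1
    exact h1
  -- the set of pairing characters
  let χ : F → AddChar F ℂ := fun a => ψ.compAddMonoidHom (hs.pairHom a)
  have hfib : ∀ s ∈ Finset.univ.image χ, (Finset.univ.filter fun a => χ a = s).card ≤ 2 := by
    intro s hs'
    obtain ⟨a0, -, rfl⟩ := Finset.mem_image.mp hs'
    have hsub : ∀ a, χ a = χ a0 → ∀ c, ψ (hs.pairHom (a + a0) c) = 1 := fun a e c => by
      have e1 : hs.pairHom (a + a0) c = hs.pairHom a c + hs.pairHom a0 c := by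
        show sg m (a + a0) * c + sg m c * (a + a0) = sg m a * c + sg m c * a + (sg m a0 * c + sg m c * a0)
        rw [hs.sg_add]; ring
      rw [e1, AddChar.map_add_eq_mul, show ψ (hs.pairHom a c) = ψ (hs.pairHom a0 c) from DFunLike.congr_fun e c,
        ← AddChar.map_add_eq_mul, hs.add_self, AddChar.map_zero_eq_one]
    have key : ∀ a b, χ a = χ a0 → χ b = χ a0 → a ≠ a0 → b ≠ a0 → a = b := fun a b ea eb na nb => by
      have := hs.radical_le ψ hψ (fun e => na (hs.add_eq_zero_iff.mp e)) (fun e => nb (hs.add_eq_zero_iff.mp e))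
        (hsub a ea) (hsub b eb)
      exact add_right_cancel this
    by_contra hlt
    obtain ⟨a, ha, b, hb, c, hc, hab, hac, hbc⟩ := Finset.two_lt_card.mp (not_le.mp hlt)
    simp only [Finset.mem_filter, Finset.mem_univ, true_and] at ha hb hc
    by_cases e : a = a0
    · exact hbc (key b c hb hc (e ▸ hab.symm) (e ▸ hac.symm))
    by_cases e' : b = a0
    · exact hac (key a c ha hc e (e' ▸ hbc.symm))
    exact hab (key a b ha hb e e')
  have hS : 2 ^ (2 * m) ≤ (Finset.univ.image χ).card := by
    have := Finset.card_le_mul_card_image (f := χ) Finset.univ 2 hfib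
    rw [Finset.card_univ, hs.card, pow_succ'] at this
    exact Nat.le_of_mul_le_mul_left this two_pos
  have hrep : ∀ s : ↥(Finset.univ.image χ), ∃ a, χ a = s := fun s => by
    obtain ⟨a, -, e⟩ := Finset.mem_image.mp s.2
    exact ⟨a, e⟩
  choose r hr using hrep
  have hli : LinearIndependent ℂ fun s => A (r s) := by
    rw [Fintype.linearIndependent_iff]
    intro g hg s0
    have h1 : ∀ c, ∑ s, (g s * (s : AddChar F ℂ) c) • A (r s) = 0 := fun c => by
      refine hright c _ ?_
      rw [Finset.sum_mul]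
      have := congrArg (fun X => A c * X) hg
      simp only [Finset.mul_sum, mul_zero] at this
      rw [← this]
      refine Finset.sum_congr rfl fun s _ => ?_
      rw [mul_smul_comm, smul_mul_assoc, hswap (r s) c, ← hr s, mul_smul]
      rfl
    have h2 : ∑ s : ↥(Finset.univ.image χ), (g s * ∑ c, (s : AddChar F ℂ) c * (s0 : AddChar F ℂ) c) • A (r s) = 0 := by
      simp only [Finset.mul_sum, Finset.sum_smul]
      rw [Finset.sum_comm]
      refine Finset.sum_eq_zero fun c _ => ?_
      have := congrArg (fun X => (s0 : AddChar F ℂ) c • X) (h1 c)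
      simp only [Finset.smul_sum, smul_zero, smul_smul] at this
      rw [← this]
      refine Finset.sum_congr rfl fun s _ => ?_
      congr 1
      ring
    rw [Finset.sum_eq_single s0] at h2
    · have hsum : ∑ c, (s0 : AddChar F ℂ) c * (s0 : AddChar F ℂ) c = (Fintype.card F : ℂ) := by
        rw [Finset.sum_congr rfl (fun c _ => show (s0 : AddChar F ℂ) c * (s0 : AddChar F ℂ) c = 1 by
          rw [← AddChar.map_add_eq_mul, hs.add_self, AddChar.map_zero_eq_one])]
        simp
      rw [hsum, smul_eq_zero, mul_eq_zero] at h2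
      exact (h2.resolve_right (hA0 _)).resolve_right (Nat.cast_ne_zero.mpr Fintype.card_ne_zero)
    · intro s _ hne
      have hne1 : (s : AddChar F ℂ) * (s0 : AddChar F ℂ) ≠ 1 := fun e => by
        refine hne (Subtype.ext (DFunLike.ext _ _ fun c => ?_))
        have h1 := DFunLike.congr_fun e c
        rw [AddChar.mul_apply, AddChar.one_apply] at h1
        rcases hs.char_sq (s0 : AddChar F ℂ) c with e0 | e0 <;> rw [e0] at h1 ⊢
        · linear_combination h1
        · linear_combination -h1
      have := AddChar.sum_eq_zero_of_ne_one hne1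
      simp only [AddChar.mul_apply] at this
      rw [this, mul_zero, zero_smul]
    · exact fun h => absurd (Finset.mem_univ s0) h
  have hd := hli.fintype_card_le_finrank
  rw [Fintype.card_coe, Module.finrank_linearMap] at hd
  refine Nat.mul_self_le_mul_self_iff.mp ?_
  rw [← pow_add, ← two_mul]
  exact hS.trans hd

theorem le_finrank [FiniteDimensional ℂ V] (hne : ρ (hs.tS 0 1) ≠ 1) :
    2 ^ m * (2 ^ (2 * m + 1) - 1) ≤ Module.finrank ℂ V := by
  classical
  let P : AddChar F ℂ → Module.End ℂ V := fun ψ => ∑ b, ψ b • ρ (hs.tS 0 b)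
  have hP : ∀ ψ v, P ψ v ∈ hs.eigen ρ ψ := by
    intro ψ v b'
    simp only [P, LinearMap.sum_apply, LinearMap.smul_apply, map_sum, map_smul, Finset.smul_sum, smul_smul]
    refine Fintype.sum_equiv (Equiv.addLeft b') _ _ fun b => ?_
    rw [← Module.End.mul_apply, ← map_mul, hs.tS_mul, sg_zero]
    simp only [zero_add, zero_mul, add_zero, Equiv.coe_addLeft, AddChar.map_add_eq_mul]
    congr 1
    rcases hs.char_sq ψ b' with e | e <;> rw [e] <;> ring
  have hsum : ∀ v, ∑ ψ, P ψ v = (Fintype.card F : ℂ) • v := by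
    intro v
    simp only [P, LinearMap.sum_apply, LinearMap.smul_apply]
    rw [Finset.sum_comm]
    simp only [← Finset.sum_smul, AddChar.sum_apply_eq_ite, ite_smul, zero_smul]
    rw [Finset.sum_ite_eq' Finset.univ (0 : F), if_pos (Finset.mem_univ _), hs.tS_zero, map_one,
      Module.End.one_apply]
  obtain ⟨ψ, hψ, hbot⟩ : ∃ ψ : AddChar F ℂ, ψ ≠ 1 ∧ hs.eigen ρ ψ ≠ ⊥ := by
    by_contra hc
    push Not at hc
    refine hne (LinearMap.ext fun v => ?_)
    have h := hsum v
    rw [Finset.sum_eq_single (1 : AddChar F ℂ)] at h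
    · have hv : v ∈ hs.eigen ρ 1 := by
        have := (hs.eigen ρ 1).smul_mem (Fintype.card F : ℂ)⁻¹ (hP 1 v)
        rwa [h, smul_smul, inv_mul_cancel₀ (Nat.cast_ne_zero.mpr Fintype.card_ne_zero), one_smul] at this
      rw [hv 1, AddChar.one_apply, one_smul, Module.End.one_apply]
    · intro ψ _ hψ1
      have := hP ψ v
      rwa [hc ψ hψ1, Submodule.mem_bot] at this
    · exact fun h => absurd (Finset.mem_univ _) h
  -- the translates of the character
  let χ : Fˣ → AddChar F ℂ := fun μ => AddChar.mulShift ψ (μ : F)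
  have hχinj : Function.Injective χ := by
    intro μ ν e
    by_contra hne'
    obtain ⟨x0, hx0⟩ := AddChar.ne_one_iff.mp hψ
    have hd : (μ : F) + (ν : F) ≠ 0 := fun h => hne' (Units.ext (hs.add_eq_zero_iff.mp h))
    refine hx0 ?_
    have h := DFunLike.congr_fun e (((μ : F) + (ν : F))⁻¹ * x0)
    simp only [χ, AddChar.mulShift_apply] at h
    rw [show x0 = (μ : F) * (((μ : F) + ν)⁻¹ * x0) + (ν : F) * (((μ : F) + ν)⁻¹ * x0) by
      rw [← add_mul, mul_inv_cancel_left₀ hd], AddChar.map_add_eq_mul, h, ← AddChar.map_add_eq_mul, hs.add_self,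
      AddChar.map_zero_eq_one]
  set d := Module.finrank ℂ (hs.eigen ρ ψ)
  let f : Fin d → V := fun i => (Module.finBasis ℂ (hs.eigen ρ ψ) i : V)
  have hmove : ∀ μ : Fˣ, ∃ g : ↥(Cfsg.Sz F m), ∀ i, ρ g (f i) ∈ hs.eigen ρ (χ μ) := by
    intro μ
    obtain ⟨s, hs'⟩ := hs.exists_dS_zero μ
    refine ⟨(hs.dS s)⁻¹, fun i b => ?_⟩
    have e : hs.tS 0 b * (hs.dS s)⁻¹ = (hs.dS s)⁻¹ * hs.tS 0 ((μ : F) * b) := by
      rw [← hs' b]; group
    rw [← Module.End.mul_apply, ← map_mul, e, map_mul, Module.End.mul_apply,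
      (Module.finBasis ℂ (hs.eigen ρ ψ) i).2 ((μ : F) * b), map_smul]
    rfl
  choose g hg using hmove
  have hli : LinearIndependent ℂ fun z : Fˣ × Fin d => ρ (g z.1) (f z.2) := by
    rw [Fintype.linearIndependent_iff]
    intro c hc z0
    have hproj := congrArg (P (χ z0.1)) hc
    simp only [map_sum, map_smul, map_zero] at hproj
    have hPv : ∀ z : Fˣ × Fin d, P (χ z0.1) (ρ (g z.1) (f z.2)) =
        (if z.1 = z0.1 then (Fintype.card F : ℂ) else 0) • ρ (g z.1) (f z.2) := by
      intro z
      simp only [P, LinearMap.sum_apply, LinearMap.smul_apply]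
      rw [Finset.sum_congr rfl fun b _ => by rw [hg z.1 z.2 b, smul_smul], ← Finset.sum_smul]
      congr 1
      split_ifs with h
      · rw [h, Finset.sum_congr rfl (fun b _ => show χ z0.1 b * χ z0.1 b = (1 : ℂ) by
          rw [← AddChar.map_add_eq_mul, hs.add_self, AddChar.map_zero_eq_one])]
        simp
      · have hne1 : χ z0.1 * χ z.1 ≠ 1 := fun e => by
          refine h (hχinj (DFunLike.ext _ _ fun b => ?_))
          have h1 := DFunLike.congr_fun e b
          rw [AddChar.mul_apply, AddChar.one_apply] at h1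
          rcases hs.char_sq (χ z0.1) b with e0 | e0 <;> rw [e0] at h1 ⊢
          · linear_combination h1
          · linear_combination -h1
        exact AddChar.sum_eq_zero_of_ne_one hne1
    simp only [hPv, ite_smul, zero_smul, smul_ite, smul_zero] at hproj
    rw [Fintype.sum_prod_type, Finset.sum_eq_single z0.1] at hproj
    · simp only [if_true, smul_comm (c _) (Fintype.card F : ℂ)] at hproj
      rw [← Finset.smul_sum, smul_eq_zero] at hproj
      have h := hproj.resolve_left (Nat.cast_ne_zero.mpr Fintype.card_ne_zero)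
      simp only [← map_smul, ← map_sum] at h
      have h' : ρ (g z0.1) (∑ i, c (z0.1, i) • f i) = ρ (g z0.1) 0 := by rw [h, map_zero]
      have h'' := congrArg (ρ (g z0.1)⁻¹) h'
      rw [ρ.inv_self_apply, ρ.inv_self_apply] at h''
      have hb : ∑ i, c (z0.1, i) • Module.finBasis ℂ (hs.eigen ρ ψ) i = 0 := Subtype.ext (by simpa [f] using h'')
      exact Fintype.linearIndependent_iff.mp (Module.finBasis ℂ (hs.eigen ρ ψ)).linearIndependent _ hb z0.2
    · intro μ _ hμ
      simp [hμ]
    · exact fun h => absurd (Finset.mem_univ _) h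
  have hd := hli.fintype_card_le_finrank
  rw [Fintype.card_prod, Fintype.card_units, Fintype.card_fin, hs.card] at hd
  rw [mul_comm]
  exact (Nat.mul_le_mul_left _ (hs.finrank_eigen ρ ψ hψ hbot)).trans hd

theorem min_degree (k : ℕ) (ρ : Representation ℂ ↥(Cfsg.Lie.Sz F (2 ^ (m + 1))) (Fin k → ℂ))
    (hirr : ρ.IsIrreducible) (hk : 2 ≤ k) : 2 ^ m * (2 ^ (2 * m + 1) - 1) ≤ k := by
  let σ : Representation ℂ ↥(Cfsg.Sz F m) (Fin k → ℂ) := ρ.comp hs.lieEquiv.symm.toMonoidHom
  suffices hne : σ (hs.tS 0 1) ≠ 1 by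
    have := hs.le_finrank σ hne
    rwa [Module.finrank_fin_fun] at this
  intro h1
  haveI : (σ.ker).Normal := MonoidHom.normal_ker σ
  have hker : σ.ker = ⊤ := hs.top_of_normal _ fun e => by
    have hmem : hs.tS 0 1 ∈ σ.ker := h1
    rw [e, Subgroup.mem_bot, hs.tS_eq_one] at hmem
    exact one_ne_zero hmem.2
  have htriv : ∀ x, ρ x = 1 := fun x => by
    have hx : hs.lieEquiv x ∈ σ.ker := hker ▸ Subgroup.mem_top _
    have : ρ (hs.lieEquiv.symm (hs.lieEquiv x)) = 1 := hx
    rwa [MulEquiv.symm_apply_apply] at this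
  let v : Fin k → ℂ := Pi.single ⟨0, by omega⟩ 1
  let L : Subrepresentation ρ :=
    { toSubmodule := ℂ ∙ v
      apply_mem_toSubmodule := fun x u hu => by rw [htriv x]; exact hu }
  rcases hirr.eq_bot_or_eq_top L with h | h
  · have : (ℂ ∙ v) = ⊥ := congrArg Subrepresentation.toSubmodule h
    rw [Submodule.span_singleton_eq_bot] at this
    simpa [v] using congrFun this ⟨0, by omega⟩
  · have : (ℂ ∙ v) = ⊤ := congrArg Subrepresentation.toSubmodule h
    have h2 := finrank_span_singleton (K := ℂ) (show v ≠ 0 from fun e => by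
      simpa [v] using congrFun e ⟨0, by omega⟩)
    rw [this, finrank_top, Module.finrank_fin_fun] at h2
    omega

end SzHyp

end Cfsg.Agent.Suzuki
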