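import Cfsg.Agent.Lib.Suzuki.Partition
import Mathlib.GroupTheory.Solvable
import Mathlib.GroupTheory.SpecificGroups.Cyclic

/-!
The elements generating a solvable subgroup together with a given element of a Suzuki group.
-/

set_option autoImplicit false

open Matrix
open scoped Pointwise commutatorElement

namespace Cfsg.Agent.Suzuki

variable {F : Type*} [Field F] [Fintype F] {m : ℕ}

local notation "Q" => 2 ^ (2 * m + 1)
local notation "θ" => 2 ^ (m + 1)

theorem conjC {G : Type*} [Group G] (k g : G) :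
    Subgroup.centralizer ({k * g * k⁻¹} : Set G) = (Subgroup.centralizer ({g} : Set G)).map (MulAut.conj k).toMonoidHom := by
  ext z
  rw [Subgroup.mem_map_equiv, MulAut.conj_symm_apply, Subgroup.mem_centralizer_singleton_iff,
    Subgroup.mem_centralizer_singleton_iff]
  constructor <;> intro h
  · calc k⁻¹ * z * k * g = k⁻¹ * (z * (k * g * k⁻¹)) * k := by group
      _ = k⁻¹ * ((k * g * k⁻¹) * z) * k := by rw [h]
      _ = g * (k⁻¹ * z * k) := by group
  · calc z * (k * g * k⁻¹) = k * (k⁻¹ * z * k * g) * k⁻¹ := by group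
      _ = k * (g * (k⁻¹ * z * k)) * k⁻¹ := by rw [h]
      _ = k * g * k⁻¹ * z := by group

theorem card_normalizer_map {G : Type*} [Group G] (k : G) (C : Subgroup G) :
    Nat.card ↥(Subgroup.normalizer ((C.map (MulAut.conj k).toMonoidHom : Subgroup G) : Set G)) =
      Nat.card ↥(Subgroup.normalizer (C : Set G)) := by
  rw [← Subgroup.map_equiv_normalizer_eq, Subgroup.card_map_of_injective (MulEquiv.injective _)]

namespace SzHyp

variable (hs : SzHyp F m)

include hs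

/-- The centralisers of the elements that are not unipotent. -/
def Tor (hs : SzHyp F m) (C : Subgroup ↥(Cfsg.Sz F m)) : Prop := ∃ a : ↥(Cfsg.Sz F m), ¬ hs.Uni a ∧ C = Subgroup.centralizer {a}

theorem uni_one : hs.Uni 1 := ⟨1, by simp [Subgroup.one_mem]⟩

theorem not_uni {a : ↥(Cfsg.Sz F m)} (h : ¬ hs.Uni a) : a ≠ 1 ∧ (hs.Ell a ∨ hs.Spl a) := by
  refine ⟨fun e => h (e ▸ hs.uni_one), ?_⟩
  rcases hs.kinds a with e | e | e | e
  · exact absurd (e ▸ hs.uni_one) h
  · exact Or.inl e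
  · exact Or.inr e
  · exact absurd e h

theorem uni_iff {a : ↥(Cfsg.Sz F m)} : hs.Uni a ↔ ¬ Odd (orderOf a) ∨ a = 1 := by
  constructor
  · intro h
    by_contra hc
    push Not at hc
    obtain ⟨ho, h1⟩ := hc
    obtain ⟨j, -, hj⟩ := (Nat.dvd_prime_pow Nat.prime_two).mp
      (orderOf_dvd_of_pow_eq_one (show a ^ 2 ^ 2 = 1 from hs.two_pow_of_uni h))
    rcases Nat.eq_zero_or_pos j with rfl | hjp
    · exact h1 (orderOf_eq_one_iff.mp hj)
    · rw [hj] at ho
      exact (Nat.not_even_iff_odd.mpr ho) ((Nat.even_pow' hjp.ne').mpr even_two)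
  · rintro (h | h)
    · rcases hs.kinds a with e | e | e | e
      · exact e ▸ hs.uni_one
      · exact absurd (hs.elliptic_of_no_fix e).2.1 h
      · exact absurd (hs.spl_odd e) h
      · exact e
    · exact h ▸ hs.uni_one

theorem spl_normalizer {a : ↥(Cfsg.Sz F m)} (h : hs.Spl a) :
    Nat.card ↥(Subgroup.normalizer (Subgroup.centralizer ({a} : Set ↥(Cfsg.Sz F m)) : Set ↥(Cfsg.Sz F m))) = 2 * (Q - 1) := by
  obtain ⟨k, s, hs1, hk⟩ := h
  obtain ⟨-, hcard⟩ := hs.spl_centralizer (g := hs.dS s) ⟨1, s, hs1, by simp⟩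
  have key : Nat.card ↥(Subgroup.normalizer (Subgroup.centralizer ({hs.dS s} : Set ↥(Cfsg.Sz F m)) : Set ↥(Cfsg.Sz F m))) = 2 * (Q - 1) := by
    set C := Subgroup.centralizer ({hs.dS s} : Set ↥(Cfsg.Sz F m)) with hC
    set N := Subgroup.normalizer (C : Set ↥(Cfsg.Sz F m)) with hN
    have hsC : hs.dS s ∈ C := Subgroup.mem_centralizer_singleton_iff.mpr rfl
    have hCfix : ∀ u ∈ C, u • infPt F m = infPt F m ∧ u • finPt m (0 : F) 0 = finPt m (0 : F) 0 := fun u hu => by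
      obtain ⟨f1, f2⟩ := hs.comm_torus_fix hs1 (Subgroup.mem_centralizer_singleton_iff.mp hu)
      exact ⟨Subtype.ext f1, Subtype.ext f2⟩
    have hfixC : ∀ u : ↥(Cfsg.Sz F m), u • infPt F m = infPt F m → u • finPt m (0 : F) 0 = finPt m (0 : F) 0 → u ∈ C := by
      intro u h1 h2
      obtain ⟨t, et⟩ := hs.exists_dG u.2 (congrArg Subtype.val h1) (congrArg Subtype.val h2)
      rw [hC, Subgroup.mem_centralizer_singleton_iff, show u = hs.dS t from Subtype.ext et, ← hs.dS_mul, ← hs.dS_mul,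
        mul_comm]
    have hne : (finPt m (0 : F) 0) ≠ infPt F m := fun e => ptSz_ne_infty 0 0 (congrArg Subtype.val e)
    have hsne : hs.dS s ≠ 1 := fun e => hs1 (hs.dG_injective ((congrArg Subtype.val e).trans dG_one.symm))
    have hperm : ∀ x ∈ N, x • infPt F m = infPt F m ∨ x • infPt F m = finPt m (0 : F) 0 := by
      intro x hx
      have hm' : x⁻¹ * hs.dS s * x ∈ C := (Subgroup.mem_normalizer_iff.mp hx _).mpr (by
        rw [show x * (x⁻¹ * hs.dS s * x) * x⁻¹ = hs.dS s by group]; exact hsC)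
      have h1 : hs.dS s • (x • infPt F m) = x • infPt F m := by
        calc hs.dS s • (x • infPt F m) = x • ((x⁻¹ * hs.dS s * x) • infPt F m) := by simp only [mul_smul, smul_inv_smul]
          _ = _ := by rw [(hCfix _ hm').1]
      obtain ⟨d1, d2⟩ := hCfix _ hsC
      rcases hs.fix_le hsne d1 d2 h1 with e | e | e
      exacts [absurd e.symm hne, Or.inr e.symm, Or.inl e.symm]
    have hperm2 : ∀ x ∈ N, x • infPt F m = infPt F m → x ∈ C := by
      intro x hx h1
      have hm' : x⁻¹ * hs.dS s * x ∈ C := (Subgroup.mem_normalizer_iff.mp hx _).mpr (by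
        rw [show x * (x⁻¹ * hs.dS s * x) * x⁻¹ = hs.dS s by group]; exact hsC)
      have h2 : hs.dS s • (x • finPt m (0 : F) 0) = x • finPt m (0 : F) 0 := by
        calc hs.dS s • (x • finPt m (0 : F) 0) = x • ((x⁻¹ * hs.dS s * x) • finPt m (0 : F) 0) := by
              simp only [mul_smul, smul_inv_smul]
          _ = _ := by rw [(hCfix _ hm').2]
      obtain ⟨d1, d2⟩ := hCfix _ hsC
      refine hfixC x h1 ?_
      rcases hs.fix_le hsne d1 d2 h2 with e | e | e
      · exact absurd e.symm hne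
      · exact e.symm
      · exact absurd (MulAction.injective x (h1.trans e)) hne.symm
    haveI : (C.subgroupOf N).Normal := Subgroup.normal_in_normalizer
    have hw : hs.wS ∈ N := by
      have : ∀ u ∈ C, hs.wS * u * hs.wS⁻¹ ∈ C := by
        intro u hu
        obtain ⟨t, et⟩ := hs.exists_dG u.2 (congrArg Subtype.val (hCfix u hu).1) (congrArg Subtype.val (hCfix u hu).2)
        rw [hs.wS_inv, show u = hs.dS t from Subtype.ext et, hs.wS_conj_dS, hC, Subgroup.mem_centralizer_singleton_iff,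
          ← hs.dS_mul, ← hs.dS_mul, mul_comm]
      refine Subgroup.mem_normalizer_iff.mpr fun u => ⟨this u, fun h => ?_⟩
      have := this _ h
      rwa [← mul_assoc, ← mul_assoc, hs.wS_inv, hs.wS_sq, one_mul, mul_assoc, hs.wS_sq, mul_one] at this
    have hwC : hs.wS ∉ C := fun h => hne ((show hs.wS • infPt F m = finPt m (0 : F) 0 from Subtype.ext wG_infty).symm.trans (hCfix _ h).1)
    have hidx : (C.subgroupOf N).index = 2 := by
      refine Subgroup.index_eq_two_iff.mpr ⟨⟨hs.wS, hw⟩, fun x => ?_⟩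
      have hxw : x.1 * hs.wS ∈ N := mul_mem x.2 hw
      show Xor' (x.1 * hs.wS ∈ C) (x.1 ∈ C)
      rcases hperm _ x.2 with e | e
      · exact Or.inr ⟨hperm2 _ x.2 e, fun h => hwC (by
          simpa using mul_mem (inv_mem (hperm2 _ x.2 e)) h)⟩
      · refine Or.inl ⟨?_, fun h => hne (e.symm.trans (hCfix _ h).1)⟩
        refine hperm2 _ hxw ?_
        rw [mul_smul, show hs.wS • infPt F m = finPt m (0 : F) 0 from Subtype.ext wG_infty]
        rcases hperm _ hxw with e' | e'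
        · rw [mul_smul, show hs.wS • infPt F m = finPt m (0 : F) 0 from Subtype.ext wG_infty] at e'
          exact e'
        · rw [mul_smul, show hs.wS • infPt F m = finPt m (0 : F) 0 from Subtype.ext wG_infty] at e'
          exact absurd (MulAction.injective x.1 (e'.trans e.symm)) hne
    have h := Subgroup.card_mul_index (C.subgroupOf N)
    rw [hidx, Nat.card_congr (Subgroup.subgroupOfEquivOfLe (Subgroup.le_normalizer (H := C))).toEquiv, hcard] at h
    rw [← h, mul_comm]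
  rw [show a = k⁻¹ * hs.dS s * k⁻¹⁻¹ by rw [← hk]; group, conjC, card_normalizer_map, key]

theorem tor_info {C : Subgroup ↥(Cfsg.Sz F m)} (hC : hs.Tor C) :
    IsCyclic ↥C ∧ (∀ u ∈ C, u ≠ 1 → ¬ hs.Uni u ∧ Subgroup.centralizer ({u} : Set ↥(Cfsg.Sz F m)) = C) ∧
      Odd (Nat.card ↥C) ∧ 3 ≤ Nat.card ↥C ∧
      ((Nat.card ↥C = Q - 1 ∧ Nat.card ↥(Subgroup.normalizer (C : Set ↥(Cfsg.Sz F m))) = 2 ^ 1 * Nat.card ↥C) ∨
        ((Nat.card ↥C = Q + θ + 1 ∨ Nat.card ↥C = Q - θ + 1) ∧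
          Nat.card ↥(Subgroup.normalizer (C : Set ↥(Cfsg.Sz F m))) = 2 ^ 2 * Nat.card ↥C)) := by
  obtain ⟨a, ha, rfl⟩ := hC
  obtain ⟨ha1, ha2⟩ := hs.not_uni ha
  obtain ⟨-, hθ, hθ4, h8, -, hab⟩ := hs.arith
  have he : Even Q := even_iff_two_dvd.mpr (dvd_pow_self 2 (by omega))
  have hpar : ∀ {n : ℕ}, (n = Q - 1 ∨ n = Q + θ + 1 ∨ n = Q - θ + 1) → Odd n ∧ 3 ≤ n := by
    have het : Even θ := even_iff_two_dvd.mpr (dvd_pow_self 2 (by omega))
    rintro n (rfl | rfl | rfl) <;> refine ⟨?_, by omega⟩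
    · exact hs.odd_of_dvd dvd_rfl
    · exact (he.add het).add_one
    · exact ((Nat.even_sub (by omega)).mpr ⟨fun _ => het, fun _ => he⟩).add_one
  have huni : ∀ u ∈ Subgroup.centralizer ({a} : Set ↥(Cfsg.Sz F m)), u ≠ 1 → Odd (Nat.card ↥(Subgroup.centralizer ({a} : Set ↥(Cfsg.Sz F m)))) →
      ¬ hs.Uni u := fun u hu hu1 ho h => by
    rcases hs.uni_iff.mp h with e | e
    · exact e (Odd.of_dvd_nat ho ((Subgroup.orderOf_mk u hu) ▸
        orderOf_dvd_natCard (⟨u, hu⟩ : ↥(Subgroup.centralizer ({a} : Set ↥(Cfsg.Sz F m))))))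
    · exact hu1 e
  rcases ha2 with e | e
  · have hc := hs.card_centralizer_ell e
    have hp := hpar (n := Nat.card ↥(Subgroup.centralizer ({a} : Set ↥(Cfsg.Sz F m)))) (by tauto)
    refine ⟨(hs.centralizer_facts e).1, fun u hu hu1 => ⟨huni u hu hu1 hp.1, (hs.centralizer_eq e hu hu1).2⟩, hp.1,
      hp.2, Or.inr ⟨hc, ?_⟩⟩
    obtain ⟨k, hk, hN⟩ := hs.index_cases e
    have h4 := hs.normalizer_ell_four_dvd e
    rw [hN] at h4 ⊢
    simp only [Finset.mem_insert, Finset.mem_singleton] at hk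
    have hcop : Nat.Coprime 4 (Nat.card ↥(Subgroup.centralizer ({a} : Set ↥(Cfsg.Sz F m)))) :=
      (Nat.prime_two.coprime_iff_not_dvd.mpr
        fun h => (Nat.not_even_iff_odd.mpr hp.1) (even_iff_two_dvd.mpr h)).pow_left 2
    have := hcop.dvd_of_dvd_mul_right h4
    rcases hk with rfl | rfl | rfl <;> omega
  · obtain ⟨hcy, hc⟩ := hs.spl_centralizer e
    have hp := hpar (n := Nat.card ↥(Subgroup.centralizer ({a} : Set ↥(Cfsg.Sz F m)))) (Or.inl hc)
    refine ⟨hcy, fun u hu hu1 => ⟨huni u hu hu1 hp.1, ?_⟩, hp.1, hp.2, Or.inl ⟨hc, by rw [hs.spl_normalizer e, hc, pow_one]⟩⟩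
    have hu' := huni u hu hu1 hp.1
    rcases (hs.not_uni hu').2 with eu | eu
    · exfalso
      refine ha1 ?_
      have hau : a ∈ Subgroup.centralizer ({u} : Set ↥(Cfsg.Sz F m)) :=
        Subgroup.mem_centralizer_singleton_iff.mpr (Subgroup.mem_centralizer_singleton_iff.mp hu).symm
      by_contra h
      obtain ⟨hE, -⟩ := hs.centralizer_eq eu hau h
      obtain ⟨k, s, hs1, hk⟩ := e
      refine hE (k⁻¹ • infPt F m) ?_
      rw [show a = k⁻¹ * hs.dS s * k by rw [← hk]; group, mul_smul, mul_smul, smul_inv_smul]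
      exact congrArg _ (Subtype.ext (dG_infty s))
    · refine (Subgroup.eq_of_le_of_card_ge ?_ (by rw [hc, (hs.spl_centralizer eu).2])).symm
      intro z hz
      letI := IsCyclic.commGroup (α := ↥(Subgroup.centralizer ({a} : Set ↥(Cfsg.Sz F m))))
      exact Subgroup.mem_centralizer_singleton_iff.mpr
        (congrArg Subtype.val (mul_comm (⟨z, hz⟩ : ↥(Subgroup.centralizer ({a} : Set ↥(Cfsg.Sz F m)))) ⟨u, hu⟩))

theorem tor_conj {C C' : Subgroup ↥(Cfsg.Sz F m)} (hC : hs.Tor C) (hC' : hs.Tor C') (h : Nat.card ↥C = Nat.card ↥C') :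
    ∃ k : ↥(Cfsg.Sz F m), C' = C.map (MulAut.conj k).toMonoidHom := by
  obtain ⟨a, ha, rfl⟩ := hC
  obtain ⟨b, hb, rfl⟩ := hC'
  obtain ⟨hc1, hc2, hc3⟩ := hs.coprime_orders
  obtain ⟨-, -, -, h8, -⟩ := hs.arith
  have hne : ∀ {c : ↥(Cfsg.Sz F m)}, hs.Ell c → Nat.card ↥(Subgroup.centralizer ({c} : Set ↥(Cfsg.Sz F m))) ≠ Q - 1 := by
    intro c hc e
    rcases hs.card_centralizer_ell hc with h | h <;> rw [h] at e
    · rw [e, Nat.coprime_self] at hc1; omega
    · rw [e, Nat.coprime_self] at hc2; omega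
  rcases (hs.not_uni ha).2 with ea | ea <;> rcases (hs.not_uni hb).2 with eb | eb
  · obtain ⟨g, g', hg, hg', hall, hcg, hcg', -, -⟩ := hs.two_classes
    have step : ∀ {g c : ↥(Cfsg.Sz F m)}, hs.Ell g → c ∈ hs.torClass g →
        ∃ k : ↥(Cfsg.Sz F m), Subgroup.centralizer ({c} : Set ↥(Cfsg.Sz F m)) = (Subgroup.centralizer ({g} : Set ↥(Cfsg.Sz F m))).map (MulAut.conj k).toMonoidHom := by
      intro g c hg hc
      obtain ⟨hc1, x, hx⟩ := hs.mem_torClass.mp hc
      have hne : x⁻¹ * c * x ≠ 1 := fun h => hc1 (by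
        have := congrArg (fun z => x * z * x⁻¹) h
        simpa [mul_assoc] using this)
      refine ⟨x, ?_⟩
      rw [← (hs.centralizer_eq hg hx hne).2, ← conjC]
      congr 2
      group
    have hcardmap : ∀ (k : ↥(Cfsg.Sz F m)) (D : Subgroup ↥(Cfsg.Sz F m)), Nat.card ↥(D.map (MulAut.conj k).toMonoidHom) = Nat.card ↥D :=
      fun k D => Subgroup.card_map_of_injective (MulEquiv.injective _)
    have fin : ∀ {D : Subgroup ↥(Cfsg.Sz F m)}, (∃ k : ↥(Cfsg.Sz F m), Subgroup.centralizer ({a} : Set ↥(Cfsg.Sz F m)) = D.map (MulAut.conj k).toMonoidHom) →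
        (∃ k : ↥(Cfsg.Sz F m), Subgroup.centralizer ({b} : Set ↥(Cfsg.Sz F m)) = D.map (MulAut.conj k).toMonoidHom) →
        ∃ k : ↥(Cfsg.Sz F m), Subgroup.centralizer ({b} : Set ↥(Cfsg.Sz F m)) =
          (Subgroup.centralizer ({a} : Set ↥(Cfsg.Sz F m))).map (MulAut.conj k).toMonoidHom := by
      rintro D ⟨k, hk⟩ ⟨l, hl⟩
      refine ⟨l * k⁻¹, ?_⟩
      rw [hl, hk, Subgroup.map_map]
      refine congrArg (fun f : ↥(Cfsg.Sz F m) →* ↥(Cfsg.Sz F m) => D.map f) (MonoidHom.ext fun z => ?_)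
      simp [mul_assoc]
    rcases hall a ea with xa | xa <;> rcases hall b eb with xb | xb
    · exact fin (step hg xa) (step hg xb)
    · exfalso
      obtain ⟨k, hk⟩ := step hg xa
      obtain ⟨l, hl⟩ := step hg' xb
      rw [hk, hl, hcardmap, hcardmap, hcg, hcg'] at h
      rw [h, Nat.coprime_self] at hc3
      omega
    · exfalso
      obtain ⟨k, hk⟩ := step hg' xa
      obtain ⟨l, hl⟩ := step hg xb
      rw [hk, hl, hcardmap, hcardmap, hcg, hcg'] at h
      rw [← h, Nat.coprime_self] at hc3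
      omega
    · exact fin (step hg' xa) (step hg' xb)
  · exact absurd (h.trans (hs.spl_centralizer eb).2) (hne ea)
  · exact absurd (h.symm.trans (hs.spl_centralizer ea).2) (hne eb)
  · have std : ∀ {c : ↥(Cfsg.Sz F m)}, hs.Spl c → ∃ k : ↥(Cfsg.Sz F m),
        Subgroup.centralizer ({c} : Set ↥(Cfsg.Sz F m)) = hs.dHom.range.map (MulAut.conj k).toMonoidHom := by
      rintro c ⟨k, s, hs1, hk⟩
      refine ⟨k⁻¹, ?_⟩
      rw [show c = k⁻¹ * hs.dS s * k⁻¹⁻¹ by rw [← hk]; group, conjC]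
      congr 1
      refine (Subgroup.eq_of_le_of_card_ge ?_ (le_of_eq ?_)).symm
      · rintro _ ⟨t, rfl⟩
        rw [Subgroup.mem_centralizer_singleton_iff]
        show hs.dS t * hs.dS s = hs.dS s * hs.dS t
        rw [← hs.dS_mul, ← hs.dS_mul, mul_comm]
      · rw [(hs.spl_centralizer ⟨1, s, hs1, by simp⟩).2,
          ← Nat.card_congr (MonoidHom.ofInjective (show Function.Injective hs.dHom from fun p r e =>
            hs.dG_injective (congrArg Subtype.val e))).toEquiv, Nat.card_units, hs.card_eq]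
    obtain ⟨k, hk⟩ := std ea
    obtain ⟨l, hl⟩ := std eb
    refine ⟨l * k⁻¹, ?_⟩
    rw [hl, hk, Subgroup.map_map]
    refine congrArg (fun f : ↥(Cfsg.Sz F m) →* ↥(Cfsg.Sz F m) => hs.dHom.range.map f) (MonoidHom.ext fun z => ?_)
    simp [mul_assoc]

/-- The odd elements normalising a torus lie in it. -/
theorem odd_mem_tor {C : Subgroup ↥(Cfsg.Sz F m)} (hC : hs.Tor C) {z : ↥(Cfsg.Sz F m)} (hz : z ∈ Subgroup.normalizer (C : Set ↥(Cfsg.Sz F m)))
    (ho : Odd (orderOf z)) : z ∈ C := by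
  obtain ⟨-, -, -, h3, hN⟩ := hs.tor_info hC
  obtain ⟨j, hj⟩ : ∃ j, Nat.card ↥(Subgroup.normalizer (C : Set ↥(Cfsg.Sz F m))) = 2 ^ j * Nat.card ↥C := by
    rcases hN with ⟨-, h⟩ | ⟨-, h⟩ <;> exact ⟨_, h⟩
  haveI : (C.subgroupOf (Subgroup.normalizer (C : Set ↥(Cfsg.Sz F m)))).Normal := Subgroup.normal_in_normalizer
  have h := Subgroup.card_mul_index (C.subgroupOf (Subgroup.normalizer (C : Set ↥(Cfsg.Sz F m))))
  rw [hj, Nat.card_congr (Subgroup.subgroupOfEquivOfLe (Subgroup.le_normalizer (H := C))).toEquiv, mul_comm] at h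
  have hidx := Nat.eq_of_mul_eq_mul_right (show 0 < Nat.card ↥C by omega) h
  have hm' := Subgroup.pow_index_mem (C.subgroupOf (Subgroup.normalizer (C : Set ↥(Cfsg.Sz F m)))) ⟨z, hz⟩
  rw [hidx, Subgroup.mem_subgroupOf, SubmonoidClass.coe_pow] at hm'
  have hcop : Nat.Coprime (2 ^ j) (orderOf z) := (Nat.prime_two.coprime_iff_not_dvd.mpr
    fun h => (Nat.not_even_iff_odd.mpr ho) (even_iff_two_dvd.mpr h)).pow_left j
  obtain ⟨i, hi⟩ := exists_pow_eq_self_of_coprime (x := z) hcop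
  rw [← hi]
  exact C.pow_mem hm' i

theorem stab_solvable (p : ↥(Cfsg.suzukiOvoid F m)) :
    Group.IsSolvable ↥(MulAction.stabilizer ↥(Cfsg.Sz F m) p) := by
  haveI : MulAction.IsMultiplyPretransitive ↥(Cfsg.Sz F m) ↥(Cfsg.suzukiOvoid F m) 2 := hs.isMultiplyPretransitive
  haveI : MulAction.IsPretransitive ↥(Cfsg.Sz F m) ↥(Cfsg.suzukiOvoid F m) := MulAction.isPretransitive_of_is_two_pretransitive
  set B := MulAction.stabilizer ↥(Cfsg.Sz F m) (Cfsg.suzukiPointInfinity F) with hB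
  have hBsol : Group.IsSolvable ↥B := by
    haveI : Fact (Nat.Prime 2) := ⟨Nat.prime_two⟩
    haveI : Group.IsNilpotent ↥hs.tSub := hs.isPGroup_tSub.isNilpotent
    haveI : (hs.tSub.subgroupOf B).Normal := by rw [hB, ← hs.normalizer_tSub]; exact Subgroup.normal_in_normalizer
    have hle : hs.tSub ≤ B := by rw [hB, ← hs.normalizer_tSub]; exact Subgroup.le_normalizer
    haveI : Group.IsSolvable ↥(hs.tSub.subgroupOf B) :=
      solvable_of_solvable_injective (f := (Subgroup.subgroupOfEquivOfLe hle).toMonoidHom) (MulEquiv.injective _)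
    haveI : Group.IsSolvable (↥B ⧸ hs.tSub.subgroupOf B) := by
      refine Group.isSolvable_of_comm fun u v => ?_
      induction u using QuotientGroup.induction_on with | _ u =>
      induction v using QuotientGroup.induction_on with | _ v =>
      have hu : ∀ u : ↥B, ∃ (s : Fˣ) (hd : hs.dS s ∈ B), (QuotientGroup.mk u : ↥B ⧸ hs.tSub.subgroupOf B) =
          QuotientGroup.mk ⟨hs.dS s, hd⟩ := by
        intro u
        obtain ⟨c, d, s, e⟩ := hs.decompB u.2
        refine ⟨s, dG_infty s, (QuotientGroup.eq).mpr ?_⟩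
        rw [Subgroup.mem_subgroupOf, Subgroup.coe_mul, Subgroup.coe_inv]
        show u.1⁻¹ * hs.dS s ∈ hs.tSub
        rw [e, _root_.mul_inv_rev, mul_assoc, hs.tS_inv, show (hs.dS s)⁻¹ * (hs.tS c (d + sg m c * c) * hs.dS s) =
          hs.dS s⁻¹ * hs.tS c (d + sg m c * c) * (hs.dS s⁻¹)⁻¹ by rw [← hs.dS_inv, inv_inv, mul_assoc],
          hs.dS_conj_tS, mul_inv_cancel_right]
        exact hs.tS_mem _ _
      obtain ⟨s, hd, eu⟩ := hu u
      obtain ⟨t, hd', ev⟩ := hu v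
      rw [eu, ev, ← QuotientGroup.mk_mul, ← QuotientGroup.mk_mul]
      congr 1
      exact Subtype.ext (show hs.dS s * hs.dS t = hs.dS t * hs.dS s by rw [← hs.dS_mul, ← hs.dS_mul, mul_comm])
    exact solvable_of_ker_le_range (hs.tSub.subgroupOf B).subtype (QuotientGroup.mk' (hs.tSub.subgroupOf B))
      (by rw [QuotientGroup.ker_mk', Subgroup.range_subtype])
  obtain ⟨g, hg⟩ := MulAction.exists_smul_eq ↥(Cfsg.Sz F m) (infPt F m) p
  have heq : MulAction.stabilizer ↥(Cfsg.Sz F m) p = B.map (MulAut.conj g).toMonoidHom := by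
    ext z
    rw [Subgroup.mem_map_equiv, MulAut.conj_symm_apply, hB, MulAction.mem_stabilizer_iff, MulAction.mem_stabilizer_iff,
      ← hg]
    have : (g⁻¹ * z * g) • infPt F m = infPt F m ↔ z • g • infPt F m = g • infPt F m := by
      rw [mul_smul, mul_smul, inv_smul_eq_iff]
    rw [← this]
    exact ⟨fun h => congrArg Subtype.val h, fun h => Subtype.ext h⟩
  rw [heq]
  haveI := hBsol
  exact solvable_of_surjective (f := (MulAut.conj g).toMonoidHom.subgroupMap B) (MonoidHom.subgroupMap_surjective _ _)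

theorem normalizer_solvable {C : Subgroup ↥(Cfsg.Sz F m)} (hC : hs.Tor C) :
    Group.IsSolvable ↥(Subgroup.normalizer (C : Set ↥(Cfsg.Sz F m))) := by
  obtain ⟨hcy, -, -, h3, hN⟩ := hs.tor_info hC
  haveI := Fact.mk Nat.prime_two
  set N := Subgroup.normalizer (C : Set ↥(Cfsg.Sz F m))
  haveI : (C.subgroupOf N).Normal := Subgroup.normal_in_normalizer
  letI := IsCyclic.commGroup (α := ↥C)
  haveI : Group.IsSolvable ↥(C.subgroupOf N) := Group.isSolvable_of_comm fun u v =>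
    (Subgroup.subgroupOfEquivOfLe (Subgroup.le_normalizer (H := C))).injective (by rw [map_mul, map_mul, mul_comm])
  haveI : Group.IsSolvable (↥N ⧸ C.subgroupOf N) := by
    obtain ⟨j, hj⟩ : ∃ j, Nat.card ↥N = 2 ^ j * Nat.card ↥C := by
      rcases hN with ⟨-, h⟩ | ⟨-, h⟩ <;> exact ⟨_, h⟩
    have h := Subgroup.card_mul_index (C.subgroupOf N)
    rw [hj, Nat.card_congr (Subgroup.subgroupOfEquivOfLe (Subgroup.le_normalizer (H := C))).toEquiv, mul_comm] at h
    have hq : IsPGroup 2 (↥N ⧸ C.subgroupOf N) :=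
      IsPGroup.of_card (n := j) (Nat.eq_of_mul_eq_mul_right (show 0 < Nat.card ↥C by omega) h)
    haveI : Group.IsNilpotent (↥N ⧸ C.subgroupOf N) := hq.isNilpotent
    infer_instance
  exact solvable_of_ker_le_range (C.subgroupOf N).subtype (QuotientGroup.mk' (C.subgroupOf N))
    (by rw [QuotientGroup.ker_mk', Subgroup.range_subtype])

theorem two_group_fix {M : Subgroup ↥(Cfsg.Sz F m)} (h : IsPGroup 2 ↥M) :
    ∃ p : ↥(Cfsg.suzukiOvoid F m), ∀ z ∈ M, z • p = p := by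
  haveI := Fact.mk Nat.prime_two
  obtain ⟨P, hP⟩ := h.exists_le_sylow
  obtain ⟨k, hk⟩ := hs.exists_conj P
  refine ⟨k • infPt F m, fun z hz => ?_⟩
  obtain ⟨t, ⟨a, b, rfl⟩, ht⟩ := Subgroup.mem_map.mp (hk.symm ▸ hP hz)
  rw [← ht]
  show (k * hs.tS a b * k⁻¹) • (k • infPt F m) = _
  rw [mul_smul, mul_smul, inv_smul_smul]
  exact congrArg _ (Subtype.ext (tG_infty a b))

theorem not_isPGroup {M : Subgroup ↥(Cfsg.Sz F m)} (h : ¬ IsPGroup 2 ↥M) : ∃ z ∈ M, ¬ hs.Uni z := by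
  by_contra hc
  push Not at hc
  exact h fun z => ⟨2, Subtype.ext (hs.two_pow_of_uni (hc z.1 z.2))⟩

/-- A solvable subgroup fixes a point or normalises a torus. -/
theorem solvable_cases {M : Subgroup ↥(Cfsg.Sz F m)} [hM : Group.IsSolvable ↥M] :
    (∃ p : ↥(Cfsg.suzukiOvoid F m), ∀ z ∈ M, z • p = p) ∨
      ∃ C : Subgroup ↥(Cfsg.Sz F m), hs.Tor C ∧ M ≤ Subgroup.normalizer (C : Set ↥(Cfsg.Sz F m)) := by
  classical
  by_cases hbot : M = ⊥
  · exact Or.inl ⟨infPt F m, fun z hz => by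
      have hz' : z = 1 := Subgroup.mem_bot.mp (by rwa [hbot] at hz)
      rw [hz', one_smul]⟩
  obtain ⟨nn, hnn⟩ := hM.solvable
  have hnt : Nontrivial ↥M := (Subgroup.nontrivial_iff_ne_bot M).mpr hbot
  have h0 : derivedSeries (↥M) 0 ≠ ⊥ := by
    rw [derivedSeries_zero]
    exact top_ne_bot
  obtain ⟨i, hi, hi'⟩ : ∃ i, derivedSeries ↥M i ≠ ⊥ ∧ derivedSeries ↥M (i + 1) = ⊥ := by
    by_contra hc
    push Not at hc
    have : ∀ i, derivedSeries ↥M i ≠ ⊥ := fun i => by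
      induction i with
      | zero => exact h0
      | succ i ih => exact hc i ih
    exact this nn hnn
  set A := derivedSeries ↥M i with hA
  haveI : A.Normal := derivedSeries_normal _ i
  have hab : ∀ x ∈ A, ∀ y ∈ A, x * y = y * x := by
    intro x hx y hy
    refine commutatorElement_eq_one_iff_mul_comm.mp ?_
    have hmem : ⁅x, y⁆ ∈ derivedSeries ↥M (i + 1) := by
      rw [derivedSeries_succ]
      exact Subgroup.commutator_mem_commutator hx hy
    rwa [hi', Subgroup.mem_bot] at hmem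
  by_cases hodd : ∃ a ∈ A, ¬ hs.Uni a.1
  · obtain ⟨a, ha, hau⟩ := hodd
    refine Or.inr ⟨_, ⟨a.1, hau, rfl⟩, fun z hz => ?_⟩
    have hconj : ∀ z : ↥(Cfsg.Sz F m), z ∈ M → z * a.1 * z⁻¹ ∈ Subgroup.centralizer ({a.1} : Set ↥(Cfsg.Sz F m)) ∧ z * a.1 * z⁻¹ ≠ 1 := by
      intro z hz
      have hm' := Subgroup.Normal.conj_mem inferInstance a ha (⟨z, hz⟩ : ↥M)
      refine ⟨Subgroup.mem_centralizer_singleton_iff.mpr (congrArg Subtype.val (hab _ hm' _ ha)), fun e => (hs.not_uni hau).1 ?_⟩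
      have := congrArg (fun w => z⁻¹ * w * z) e
      simpa [mul_assoc] using this
    obtain ⟨h1, h2⟩ := hconj z hz
    obtain ⟨-, hCu, -⟩ := hs.tor_info (C := Subgroup.centralizer ({a.1} : Set ↥(Cfsg.Sz F m))) ⟨a.1, hau, rfl⟩
    have e := ((conjC z a.1).symm.trans (hCu _ h1 h2).2)
    refine Subgroup.mem_normalizer_iff.mpr fun u => ?_
    conv_rhs => rw [← e]
    rw [Subgroup.mem_map_equiv, MulAut.conj_symm_apply]
    simp [mul_assoc]
  · push Not at hodd
    left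
    obtain ⟨a, ha, ha1⟩ := A.bot_or_exists_ne_one.resolve_left hi
    have ha1' : a.1 ≠ 1 := fun e => ha1 (Subtype.ext e)
    obtain ⟨k, hk⟩ := hodd a ha
    obtain ⟨hfix, huniq⟩ := hs.uni_fix ha1' hk
    have hall : ∀ c ∈ A, c.1 • (k⁻¹ • infPt F m) = k⁻¹ • infPt F m := fun c hc => huniq _ (by
      have hcomm : a.1 * c.1 = c.1 * a.1 := congrArg Subtype.val (hab a ha c hc)
      rw [← mul_smul, hcomm, mul_smul, hfix])
    refine ⟨k⁻¹ • infPt F m, fun z hz => huniq _ ?_⟩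
    have hm' := Subgroup.Normal.conj_mem inferInstance a ha (⟨z, hz⟩⁻¹ : ↥M)
    have hz2 := hall _ hm'
    have hz3 : (z⁻¹ * a.1 * z) • (k⁻¹ • infPt F m) = k⁻¹ • infPt F m := by simpa using hz2
    rw [mul_smul, mul_smul, inv_smul_eq_iff] at hz3
    exact hz3

theorem closure_solvable_iff (x y : ↥(Cfsg.Sz F m)) :
    Group.IsSolvable ↥(Subgroup.closure ({x, y} : Set ↥(Cfsg.Sz F m))) ↔
      (∃ p : ↥(Cfsg.suzukiOvoid F m), x • p = p ∧ y • p = p) ∨
        ∃ C : Subgroup ↥(Cfsg.Sz F m), hs.Tor C ∧ x ∈ Subgroup.normalizer (C : Set ↥(Cfsg.Sz F m)) ∧ y ∈ Subgroup.normalizer (C : Set ↥(Cfsg.Sz F m)) := by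
  constructor
  · intro h
    rcases hs.solvable_cases (M := Subgroup.closure ({x, y} : Set ↥(Cfsg.Sz F m))) with ⟨p, hp⟩ | ⟨C, hC, hle⟩
    · exact Or.inl ⟨p, hp _ (Subgroup.subset_closure (by simp)), hp _ (Subgroup.subset_closure (by simp))⟩
    · exact Or.inr ⟨C, hC, hle (Subgroup.subset_closure (by simp)), hle (Subgroup.subset_closure (by simp))⟩
  · have key : ∀ {N : Subgroup ↥(Cfsg.Sz F m)}, Group.IsSolvable ↥N → x ∈ N → y ∈ N →
        Group.IsSolvable ↥(Subgroup.closure ({x, y} : Set ↥(Cfsg.Sz F m))) := fun {N} hN hx hy => by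
      have hle : Subgroup.closure ({x, y} : Set ↥(Cfsg.Sz F m)) ≤ N := (Subgroup.closure_le N).mpr (by
        rintro z (rfl | rfl) <;> assumption)
      haveI := hN
      exact solvable_of_solvable_injective (f := Subgroup.inclusion hle) (Subgroup.inclusion_injective hle)
    rintro (⟨p, hx, hy⟩ | ⟨C, hC, hx, hy⟩)
    · exact key (hs.stab_solvable p) (MulAction.mem_stabilizer_iff.mpr hx) (MulAction.mem_stabilizer_iff.mpr hy)
    · exact key (hs.normalizer_solvable hC) hx hy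

/-- The solubilizer of an element of odd order without fixed points. -/
theorem sol_ell {x : ↥(Cfsg.Sz F m)} (hx : hs.Ell x) :
    Nat.card {y : ↥(Cfsg.Sz F m) // Group.IsSolvable ↥(Subgroup.closure ({x, y} : Set ↥(Cfsg.Sz F m)))} =
      4 * Nat.card ↥(Subgroup.centralizer ({x} : Set ↥(Cfsg.Sz F m))) := by
  have hxu : ¬ hs.Uni x := fun h => by
    rcases hs.uni_iff.mp h with e | e
    · exact e (hs.elliptic_of_no_fix hx).2.1
    · exact (hs.elliptic_of_no_fix hx).1 e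
  have htor : hs.Tor (Subgroup.centralizer ({x} : Set ↥(Cfsg.Sz F m))) := ⟨x, hxu, rfl⟩
  have hiff : ∀ y, Group.IsSolvable ↥(Subgroup.closure ({x, y} : Set ↥(Cfsg.Sz F m))) ↔
      y ∈ Subgroup.normalizer (Subgroup.centralizer ({x} : Set ↥(Cfsg.Sz F m)) : Set ↥(Cfsg.Sz F m)) := by
    intro y
    rw [hs.closure_solvable_iff]
    constructor
    · rintro (⟨p, hp, -⟩ | ⟨C, hC, hxC, hyC⟩)
      · exact absurd hp (hx p)
      · have := hs.odd_mem_tor hC hxC (hs.elliptic_of_no_fix hx).2.1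
        rw [((hs.tor_info hC).2.1 x this (hs.not_uni hxu).1).2]
        exact hyC
    · intro hy
      exact Or.inr ⟨_, htor, Subgroup.le_normalizer (Subgroup.mem_centralizer_singleton_iff.mpr rfl), hy⟩
  rw [Nat.card_congr (Equiv.subtypeEquivRight hiff)]
  obtain ⟨-, -, -, -, ⟨h1, -⟩ | ⟨-, h2⟩⟩ := hs.tor_info htor
  · obtain ⟨hc1, hc2, -⟩ := hs.coprime_orders
    obtain ⟨-, -, -, h8, -⟩ := hs.arith
    rcases hs.card_centralizer_ell hx with h | h <;> rw [h] at h1
    · rw [h1, Nat.coprime_self] at hc1; omega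
    · rw [h1, Nat.coprime_self] at hc2; omega
  · rw [h2]
    norm_num

/-- The solubilizer of a split element. -/
theorem sol_spl {x : ↥(Cfsg.Sz F m)} (hx : hs.Spl x) :
    Nat.card {y : ↥(Cfsg.Sz F m) // Group.IsSolvable ↥(Subgroup.closure ({x, y} : Set ↥(Cfsg.Sz F m)))} = 2 * Q ^ 2 * (Q - 1) := by
  classical
  haveI : Fintype ↥(Cfsg.Sz F m) := Fintype.ofFinite _
  have hxu : ¬ hs.Uni x := fun h => by
    rcases hs.uni_iff.mp h with e | e
    · exact e (hs.spl_odd hx)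
    · obtain ⟨k, s, hs1, hk⟩ := hx
      refine hs1 (hs.dG_injective ?_)
      rw [dG_one]
      exact congrArg Subtype.val (show hs.dS s = 1 by rw [← hk, e]; simp)
  have htor : hs.Tor (Subgroup.centralizer ({x} : Set ↥(Cfsg.Sz F m))) := ⟨x, hxu, rfl⟩
  obtain ⟨k, s, hs1, hk⟩ := hx
  set p := k⁻¹ • infPt F m with hp
  set r := k⁻¹ • finPt m (0 : F) 0 with hr
  have hne : p ≠ r := fun e => ptSz_ne_infty 0 0 (congrArg Subtype.val (MulAction.injective k⁻¹ e)).symm
  have hxp : x • p = p := by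
    rw [show x = k⁻¹ * hs.dS s * k by rw [← hk]; group, hp, mul_smul, mul_smul, smul_inv_smul]
    exact congrArg _ (Subtype.ext (dG_infty s))
  have hxr : x • r = r := by
    rw [show x = k⁻¹ * hs.dS s * k by rw [← hk]; group, hr, mul_smul, mul_smul, smul_inv_smul]
    refine congrArg _ (Subtype.ext ?_)
    rw [hs.coe_smul', Subgroup.smul_def]
    show dG m s • ptSz m (0 : F) 0 = _
    rw [hs.dG_point, mul_zero, mul_zero]
    rfl
  have hx1 := (hs.not_uni hxu).1
  have honly : ∀ z, x • z = z → z = p ∨ z = r := fun z hz => by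
    rcases hs.fix_le hx1 hxp hxr hz with e | e | e
    exacts [absurd e hne, Or.inr e.symm, Or.inl e.symm]
  set C := Subgroup.centralizer ({x} : Set ↥(Cfsg.Sz F m)) with hC
  set N := Subgroup.normalizer (C : Set ↥(Cfsg.Sz F m)) with hN
  let P : Finset ↥(Cfsg.Sz F m) := Finset.univ.filter fun y => y • p = p
  let R : Finset ↥(Cfsg.Sz F m) := Finset.univ.filter fun y => y • r = r
  let NN : Finset ↥(Cfsg.Sz F m) := Finset.univ.filter fun y => y ∈ N
  have hiff : ∀ y, Group.IsSolvable ↥(Subgroup.closure ({x, y} : Set ↥(Cfsg.Sz F m))) ↔ y ∈ P ∪ R ∪ NN := by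
    intro y
    rw [hs.closure_solvable_iff]
    simp only [P, R, NN, Finset.mem_union, Finset.mem_filter, Finset.mem_univ, true_and]
    constructor
    · rintro (⟨z, hz, hy⟩ | ⟨D, hD, hxD, hyD⟩)
      · rcases honly z hz with rfl | rfl
        · exact Or.inl (Or.inl hy)
        · exact Or.inl (Or.inr hy)
      · refine Or.inr ?_
        have := hs.odd_mem_tor hD hxD (hs.spl_odd ⟨k, s, hs1, hk⟩)
        rw [hN, hC, ((hs.tor_info hD).2.1 x this hx1).2]
        exact hyD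
    · rintro ((h | h) | h)
      · exact Or.inl ⟨p, hxp, h⟩
      · exact Or.inl ⟨r, hxr, h⟩
      · exact Or.inr ⟨C, htor, Subgroup.le_normalizer (Subgroup.mem_centralizer_singleton_iff.mpr rfl), h⟩
  have hPR : (P ∩ R).card = Q - 1 := by
    rw [← hs.stab_pair hne, Nat.card_eq_fintype_card, Fintype.card_subtype]
    refine congrArg Finset.card (Finset.ext fun y => ?_)
    simp [P, R]
  have hPRC : ∀ y, y ∈ C ↔ y • p = p ∧ y • r = r := by
    obtain ⟨-, hc⟩ := hs.spl_centralizer ⟨k, s, hs1, hk⟩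
    have hsub : (Finset.univ.filter fun y => y ∈ C) ⊆ P ∩ R := by
      intro y hy
      have hcm : y * x = x * y := Subgroup.mem_centralizer_singleton_iff.mp (Finset.mem_filter.mp hy).2
      have hyo : Odd (orderOf y) := Odd.of_dvd_nat (hs.odd_of_dvd dvd_rfl)
        (hc ▸ (Subgroup.orderOf_mk y (Finset.mem_filter.mp hy).2) ▸ orderOf_dvd_natCard (⟨y, (Finset.mem_filter.mp hy).2⟩ : ↥C))
      simp only [P, R, Finset.mem_inter, Finset.mem_filter, Finset.mem_univ, true_and]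
      exact ⟨hs.fix_of_commute hyo hx1 hcm hxp, hs.fix_of_commute hyo hx1 hcm hxr⟩
    have heq := Finset.eq_of_subset_of_card_le hsub (by
      rw [hPR, ← hc, Nat.card_eq_fintype_card, Fintype.card_subtype])
    intro y
    have := Finset.ext_iff.mp heq y
    simpa [P, R] using this
  have hcardP : ∀ z, (Finset.univ.filter fun y : ↥(Cfsg.Sz F m) => y • z = z).card = Q ^ 2 * (Q - 1) := fun z => by
    rw [← hs.stab_omega z, Nat.card_eq_fintype_card, Fintype.card_subtype]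
    rfl
  have hswap : ∀ y ∈ N, y • p = p → y • r = r := by
    intro y hy hyp
    have hm' : y⁻¹ * x * y ∈ C := (Subgroup.mem_normalizer_iff.mp hy _).mpr (by
      rw [show y * (y⁻¹ * x * y) * y⁻¹ = x by group]; exact Subgroup.mem_centralizer_singleton_iff.mpr rfl)
    have h2 : x • (y • r) = y • r := by
      calc x • (y • r) = y • ((y⁻¹ * x * y) • r) := by simp only [mul_smul, smul_inv_smul]
        _ = _ := by rw [((hPRC _).mp hm').2]
    rcases honly _ h2 with e | e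
    · exact absurd (MulAction.injective y (hyp.trans e.symm)) hne
    · exact e
  have hswap' : ∀ y ∈ N, y • r = r → y • p = p := by
    intro y hy hyr
    have hm' : y⁻¹ * x * y ∈ C := (Subgroup.mem_normalizer_iff.mp hy _).mpr (by
      rw [show y * (y⁻¹ * x * y) * y⁻¹ = x by group]; exact Subgroup.mem_centralizer_singleton_iff.mpr rfl)
    have h2 : x • (y • p) = y • p := by
      calc x • (y • p) = y • ((y⁻¹ * x * y) • p) := by simp only [mul_smul, smul_inv_smul]
        _ = _ := by rw [((hPRC _).mp hm').1]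
    rcases honly _ h2 with e | e
    · exact e
    · exact absurd (MulAction.injective y (e.trans hyr.symm)) hne
  have hinter : (P ∪ R) ∩ NN = P ∩ R := by
    ext y
    simp only [P, R, NN, Finset.mem_inter, Finset.mem_union, Finset.mem_filter, Finset.mem_univ, true_and]
    constructor
    · rintro ⟨h | h, hy⟩
      · exact ⟨h, hswap y hy h⟩
      · exact ⟨hswap' y hy h, h⟩
    · exact fun h => ⟨Or.inl h.1, Subgroup.le_normalizer ((hPRC y).mpr h)⟩
  have hNN : NN.card = 2 * (Q - 1) := by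
    rw [← hs.spl_normalizer ⟨k, s, hs1, hk⟩, Nat.card_eq_fintype_card, Fintype.card_subtype]
  rw [Nat.card_congr (Equiv.subtypeEquivRight hiff), Nat.card_eq_fintype_card, Fintype.card_coe]
  have h1 := Finset.card_union_add_card_inter P R
  have h2 := Finset.card_union_add_card_inter (P ∪ R) NN
  have hPc : P.card = Q ^ 2 * (Q - 1) := hcardP p
  have hRc : R.card = Q ^ 2 * (Q - 1) := hcardP r
  rw [hinter] at h2
  rw [mul_assoc]
  omega

theorem centralizer_le_stab {x : ↥(Cfsg.Sz F m)} (hx1 : x ≠ 1) {k : ↥(Cfsg.Sz F m)} (hk : k * x * k⁻¹ ∈ hs.tSub) :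
    ∀ z ∈ Subgroup.centralizer ({x} : Set ↥(Cfsg.Sz F m)), z • (k⁻¹ • infPt F m) = k⁻¹ • infPt F m := by
  intro z hz
  obtain ⟨hfix, huniq⟩ := hs.uni_fix hx1 hk
  refine huniq _ ?_
  rw [← mul_smul, ← Subgroup.mem_centralizer_singleton_iff.mp hz, mul_smul, hfix]

theorem centralizer_tS (a b : F) (h : hs.tS a b ≠ 1) (z : ↥(Cfsg.Sz F m)) :
    z ∈ Subgroup.centralizer ({hs.tS a b} : Set ↥(Cfsg.Sz F m)) ↔
      ∃ c d, z = hs.tS c d ∧ sg m c * a = sg m a * c := by
  constructor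
  · intro hz
    have hzu : hs.Uni z := by
      obtain ⟨j, hj⟩ := hs.uni_centralizer h ⟨1, by simpa using hs.tS_mem a b⟩ ⟨z, hz⟩
      refine hs.uni_iff.mpr ?_
      by_contra hc
      push Not at hc
      obtain ⟨i, -, hi⟩ := (Nat.dvd_prime_pow Nat.prime_two).mp (orderOf_dvd_of_pow_eq_one (congrArg Subtype.val hj))
      rcases Nat.eq_zero_or_pos i with rfl | hip
      · exact hc.2 (orderOf_eq_one_iff.mp hi)
      · rw [hi] at hc
        exact (Nat.not_even_iff_odd.mpr hc.1) ((Nat.even_pow' hip.ne').mpr even_two)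
    have hzB : z • infPt F m = infPt F m := by
      have := hs.centralizer_le_stab h (k := 1) (by simpa using hs.tS_mem a b) z hz
      simpa using this
    obtain ⟨c, d, s, rfl⟩ := hs.decompB (congrArg Subtype.val hzB)
    rcases eq_or_ne s 1 with rfl | hs1
    · have he : hs.tS c d * hs.dS 1 = hs.tS c d := by
        rw [show hs.dS (1 : Fˣ) = 1 from map_one hs.dHom, mul_one]
      refine ⟨c, d, he, ?_⟩
      rw [Subgroup.mem_centralizer_singleton_iff, he, hs.tS_mul, hs.tS_mul] at hz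
      have := (hs.tS_inj hz).2
      linear_combination this
    · exfalso
      have hmem : (hs.tS c d * hs.dS s) ^ 4 = 1 := hs.two_pow_of_uni hzu
      have hT : ∀ n : ℕ, ∃ e f, (hs.tS c d * hs.dS s) ^ n = hs.tS e f * hs.dS (s ^ n) := by
        intro n
        induction n with
        | zero => exact ⟨0, 0, by rw [pow_zero, pow_zero, hs.tS_zero, show hs.dS (1 : Fˣ) = 1 from map_one hs.dHom, mul_one]⟩
        | succ n ih =>
          obtain ⟨e, f, he⟩ := ih
          refine ⟨e + ((s ^ n : Fˣ) : F) ^ 2 * c, f + sg m ((s ^ n : Fˣ) : F) ^ 2 * ((s ^ n : Fˣ) : F) ^ 2 * d +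
            sg m e * (((s ^ n : Fˣ) : F) ^ 2 * c), ?_⟩
          rw [pow_succ (hs.tS c d * hs.dS s) n, he, pow_succ s n, hs.dS_mul, show hs.tS e f * hs.dS (s ^ n) * (hs.tS c d * hs.dS s) =
            hs.tS e f * (hs.dS (s ^ n) * hs.tS c d * (hs.dS (s ^ n))⁻¹) * (hs.dS (s ^ n) * hs.dS s) by group,
            hs.dS_conj_tS, mul_inv_cancel_right, hs.tS_mul]
      obtain ⟨e, f, hef⟩ := hT 4
      rw [hmem] at hef
      have h0 : hs.dS (s ^ 4) = hs.tS e (f + sg m e * e) := by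
        rw [← hs.tS_inv]
        exact eq_inv_of_mul_eq_one_right hef.symm
      have h4 : (hs.dS (s ^ 4)) ^ 4 = 1 :=
        hs.two_pow_of_uni ⟨1, by rw [h0]; simpa using hs.tS_mem e (f + sg m e * e)⟩
      rw [hs.dS_pow, ← pow_mul] at h4
      have h16 : s ^ (4 * 4) = 1 := hs.dG_injective ((congrArg Subtype.val h4).trans dG_one.symm)
      have hd := Nat.dvd_gcd (orderOf_dvd_of_pow_eq_one h16) (orderOf_dvd_natCard s)
      have hcop : Nat.Coprime (2 ^ 4) (Nat.card Fˣ) := by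
        rw [hs.card_units]
        exact (Nat.prime_two.coprime_iff_not_dvd.mpr fun h =>
          (Nat.not_even_iff_odd.mpr (hs.odd_of_dvd dvd_rfl)) (even_iff_two_dvd.mpr h)).pow_left 4
      norm_num at hd hcop
      rw [hcop, Nat.dvd_one] at hd
      exact hs1 (orderOf_eq_one_iff.mp hd)
  · rintro ⟨c, d, rfl, he⟩
    rw [Subgroup.mem_centralizer_singleton_iff, hs.tS_mul, hs.tS_mul]
    congr 1
    · ring
    · linear_combination he

theorem card_centralizer_inv {b : F} (hb : b ≠ 0) :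
    Nat.card ↥(Subgroup.centralizer ({hs.tS 0 b} : Set ↥(Cfsg.Sz F m))) = Q ^ 2 := by
  rw [← hs.card_tSub]
  refine congrArg (fun H : Subgroup ↥(Cfsg.Sz F m) => Nat.card ↥H) (Subgroup.ext fun z => ?_)
  rw [hs.centralizer_tS 0 b (fun e => hb (hs.tS_eq_one.mp e).2), hs.mem_tSub]
  simp [sg_zero]

theorem card_centralizer_four (b : F) :
    Nat.card ↥(Subgroup.centralizer ({hs.tS 1 b} : Set ↥(Cfsg.Sz F m))) = 2 * Q := by
  classical
  have hne : hs.tS 1 b ≠ 1 := fun e => one_ne_zero (hs.tS_eq_one.mp e).1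
  let f : Bool × F → ↥(Subgroup.centralizer ({hs.tS 1 b} : Set ↥(Cfsg.Sz F m))) := fun z =>
    ⟨hs.tS (if z.1 then 1 else 0) z.2, (hs.centralizer_tS 1 b hne _).mpr ⟨_, _, rfl, by
      cases z.1 <;> simp [sg_zero, sg_one]⟩⟩
  have hf : Function.Bijective f := by
    constructor
    · rintro ⟨u, c⟩ ⟨u', c'⟩ e
      obtain ⟨e1, e2⟩ := hs.tS_inj (congrArg Subtype.val e)
      have e2' : c = c' := e2
      subst e2'
      cases u <;> cases u' <;> simp_all
    · rintro ⟨z, hz⟩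
      obtain ⟨c, d, rfl, he⟩ := (hs.centralizer_tS 1 b hne z).mp hz
      rw [sg_one, mul_one, one_mul] at he
      rcases hs.eq_zero_or_one_of_sg he with rfl | rfl
      · exact ⟨(false, d), Subtype.ext (by simp [f])⟩
      · exact ⟨(true, d), Subtype.ext (by simp [f])⟩
  rw [← Nat.card_congr (Equiv.ofBijective f hf), Nat.card_prod, hs.card_eq, Nat.card_eq_fintype_card, Fintype.card_bool]

/-- Conjugacy of unipotent elements into standard forms. -/
theorem uni_std {x : ↥(Cfsg.Sz F m)} (hx : hs.Uni x) (hx1 : x ≠ 1) (b1 : F) :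
    (orderOf x = 2 ∧ IsConj x (hs.tS 0 1)) ∨
      (orderOf x = 4 ∧ (IsConj x (hs.tS 1 b1) ∨ IsConj x (hs.tS 1 b1)⁻¹)) := by
  classical
  obtain ⟨k, hk⟩ := hx
  obtain ⟨a, b, hab⟩ := hk
  have hc : IsConj x (hs.tS a b) := isConj_iff.mpr ⟨k, hab⟩
  have hord : orderOf x = orderOf (hs.tS a b) := by
    rw [← hab]
    exact (MulEquiv.orderOf_eq (MulAut.conj k) x).symm
  have hne : hs.tS a b ≠ 1 := fun e => hx1 (by
    have := congrArg (fun w => k⁻¹ * w * k) (hab.trans e)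
    simpa [mul_assoc] using this)
  by_cases ha : a = 0
  · subst ha
    have hb : b ≠ 0 := fun e => hne (by rw [e, hs.tS_zero])
    refine Or.inl ⟨hord.trans (orderOf_eq_prime (by rw [sq, hs.sq_tS, sg_zero, zero_mul, hs.tS_zero]) hne), hc.trans ?_⟩
    obtain ⟨s, hs'⟩ := hs.exists_dS_zero (Units.mk0 b hb)⁻¹
    refine isConj_iff.mpr ⟨hs.dS s, ?_⟩
    rw [hs' b, Units.val_inv_eq_inv_val, Units.val_mk0, inv_mul_cancel₀ hb]
  · refine Or.inr ⟨by rw [hord, hs.orderOf_tS ha]; norm_num, ?_⟩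
    obtain ⟨r, hr⟩ := hs.exists_sq a⁻¹
    have hr0 : r ≠ 0 := fun e => inv_ne_zero ha (by rw [← hr, e]; simp)
    have h1 : ∃ b2, IsConj x (hs.tS 1 b2) := by
      refine ⟨sg m r ^ 2 * r ^ 2 * b, hc.trans (isConj_iff.mpr ⟨hs.dS (Units.mk0 r hr0), ?_⟩)⟩
      rw [hs.dS_conj_tS, mul_inv_cancel_right, Units.val_mk0, hr, inv_mul_cancel₀ ha]
    obtain ⟨b2, hb2⟩ := h1
    let φ : F →+ F := AddMonoidHom.mk' (fun c => c + sg m c) (fun u v => by rw [hs.sg_add]; ring)
    have hker : ∀ c, φ c = 0 → c = 0 ∨ c = 1 := fun c h => hs.eq_zero_or_one_of_sg (hs.add_eq_zero_iff.mp h).symm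
    have hone : ∀ c, φ c ≠ 1 := by
      intro c hc1
      have h2 : sg m c = c + 1 := by
        have : c + sg m c = 1 := hc1
        rw [← hs.add_eq_zero_iff]
        linear_combination this + hs.two_eq_zero
      have h3 : c ^ 2 = c := by
        rw [← hs.sg_sg (x := c), h2, hs.sg_add, sg_one, h2, add_assoc, hs.add_self, add_zero]
      rcases mul_eq_zero.mp (show c * (c - 1) = 0 by linear_combination h3) with h6 | h6
      · rw [h6, sg_zero, zero_add] at h2
        exact zero_ne_one h2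
      · rw [sub_eq_zero] at h6
        rw [h6, sg_one, hs.add_self] at h2
        exact one_ne_zero h2
    have hcover : ∀ d : F, ∃ c, φ c = d ∨ φ c = d + 1 := by
      intro d
      let im := Finset.univ.image φ
      have himg : 2 * im.card ≥ Fintype.card F := by
        rw [← Finset.card_univ (α := F)]
        refine Finset.card_le_mul_card_image_of_maps_to (f := φ) (fun c _ => Finset.mem_image_of_mem _ (Finset.mem_univ c)) 2 ?_
        intro e he
        obtain ⟨c0, -, rfl⟩ := Finset.mem_image.mp he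
        refine (Finset.card_le_card (fun c hc => ?_)).trans (Finset.card_le_two (a := c0) (b := c0 + 1))
        have he' : φ (c + c0) = 0 := by
          rw [map_add, (Finset.mem_filter.mp hc).2, hs.add_self]
        rcases hker _ he' with e | e
        · simp [hs.add_eq_zero_iff.mp e]
        · refine Finset.mem_insert_of_mem (Finset.mem_singleton.mpr ?_)
          linear_combination e - c0 * hs.two_eq_zero
      have hdisj : Disjoint im (im.image (· + 1)) := by
        refine Finset.disjoint_left.mpr fun e he he' => ?_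
        obtain ⟨u, -, rfl⟩ := Finset.mem_image.mp he
        obtain ⟨w, hw, hwe⟩ := Finset.mem_image.mp he'
        obtain ⟨v, -, rfl⟩ := Finset.mem_image.mp hw
        exact hone (u + v) (by rw [map_add, ← hwe]; linear_combination φ v * hs.two_eq_zero)
      have htot : im ∪ im.image (· + 1) = Finset.univ := Finset.eq_univ_of_card _ (le_antisymm
        (Finset.card_le_univ _) (by
          rw [Finset.card_union_of_disjoint hdisj, Finset.card_image_of_injective _ (add_left_injective 1)]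
          omega))
      rcases Finset.mem_union.mp (htot ▸ Finset.mem_univ d) with h | h
      · obtain ⟨c, -, hc⟩ := Finset.mem_image.mp h
        exact ⟨c, Or.inl hc⟩
      · obtain ⟨w, hw, hwe⟩ := Finset.mem_image.mp h
        obtain ⟨c, -, hc⟩ := Finset.mem_image.mp hw
        refine ⟨c, Or.inr ?_⟩
        rw [hc, ← hwe, add_assoc, hs.add_self, add_zero]
    obtain ⟨c, hc'⟩ := hcover (b1 + b2)
    have hconj : hs.tS c 0 * hs.tS 1 b2 * (hs.tS c 0)⁻¹ = hs.tS 1 (b2 + φ c) := by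
      have := hs.conj_eq c 0 1 b2 1
      rw [show hs.dS (1 : Fˣ) = 1 from map_one hs.dHom, mul_one] at this
      rw [this]
      simp [φ, sg_one]
      congr 1
      ring
    rcases hc' with e | e
    · refine Or.inl (hb2.trans (isConj_iff.mpr ⟨hs.tS c 0, ?_⟩))
      rw [hconj, e]
      congr 1
      linear_combination b2 * hs.two_eq_zero
    · refine Or.inr (hb2.trans (isConj_iff.mpr ⟨hs.tS c 0, ?_⟩))
      rw [hconj, e, hs.tS_inv]
      congr 1
      rw [sg_one, mul_one]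
      linear_combination b2 * hs.two_eq_zero

theorem card_centralizer_uni {x : ↥(Cfsg.Sz F m)} (hx : hs.Uni x) (hx1 : x ≠ 1) :
    (orderOf x = 2 ∧ Nat.card ↥(Subgroup.centralizer ({x} : Set ↥(Cfsg.Sz F m))) = Q ^ 2) ∨
      (orderOf x = 4 ∧ Nat.card ↥(Subgroup.centralizer ({x} : Set ↥(Cfsg.Sz F m))) = 2 * Q) := by
  have tr : ∀ {u : ↥(Cfsg.Sz F m)}, IsConj x u →
      Nat.card ↥(Subgroup.centralizer ({x} : Set ↥(Cfsg.Sz F m))) = Nat.card ↥(Subgroup.centralizer ({u} : Set ↥(Cfsg.Sz F m))) := by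
    intro u hu
    obtain ⟨k, rfl⟩ := isConj_iff.mp hu
    rw [conjC, Subgroup.card_map_of_injective (MulEquiv.injective _)]
  rcases hs.uni_std hx hx1 0 with ⟨ho, hc⟩ | ⟨ho, hc | hc⟩
  · exact Or.inl ⟨ho, (tr hc).trans (hs.card_centralizer_inv one_ne_zero)⟩
  · exact Or.inr ⟨ho, (tr hc).trans (hs.card_centralizer_four 0)⟩
  · refine Or.inr ⟨ho, (tr hc).trans ?_⟩
    rw [hs.tS_inv]
    exact hs.card_centralizer_four _

/-- A unipotent element normalising a torus lies in a cyclic Sylow subgroup of the normaliser, the part fixing its point. -/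
theorem syl_info {x : ↥(Cfsg.Sz F m)} (hx : hs.Uni x) (hx1 : x ≠ 1) {p0 : ↥(Cfsg.suzukiOvoid F m)} (hp0 : x • p0 = p0)
    {C : Subgroup ↥(Cfsg.Sz F m)} (hC : hs.Tor C) (hxN : x ∈ Subgroup.normalizer (C : Set ↥(Cfsg.Sz F m))) {j : ℕ} (hj : j = 1 ∨ j = 2)
    (hcardN0 : Nat.card ↥(Subgroup.normalizer (C : Set ↥(Cfsg.Sz F m))) = 2 ^ j * Nat.card ↥C) :
    ∃ P : Subgroup ↥(Cfsg.Sz F m), x ∈ P ∧ P ≤ Subgroup.normalizer (C : Set ↥(Cfsg.Sz F m)) ∧ Nat.card ↥P = 2 ^ j ∧
      (∀ z ∈ Subgroup.normalizer (C : Set ↥(Cfsg.Sz F m)), z • p0 = p0 ↔ z ∈ P) ∧ IsCyclic ↥P := by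
  classical
  haveI := Fact.mk Nat.prime_two
  haveI : Fintype ↥(Cfsg.Sz F m) := Fintype.ofFinite _
  obtain ⟨k, hk⟩ := hx
  obtain ⟨-, huniq⟩ := hs.uni_fix hx1 hk
  have hp0' : ∀ z, x • z = z → z = p0 := fun z hz => (huniq z hz).trans (huniq p0 hp0).symm
  obtain ⟨hcy, hTI, hodd, h3, hNc⟩ := hs.tor_info hC
  set N := Subgroup.normalizer (C : Set ↥(Cfsg.Sz F m)) with hN
  have hcardN : Nat.card ↥N = 2 ^ j * Nat.card ↥C := hcardN0
  have hxp : IsPGroup 2 ↥(Subgroup.zpowers (⟨x, hxN⟩ : ↥N)) := by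
    obtain ⟨i, -, hi⟩ := (Nat.dvd_prime_pow Nat.prime_two).mp
      (orderOf_dvd_of_pow_eq_one (show x ^ 2 ^ 2 = 1 from hs.two_pow_of_uni ⟨k, hk⟩))
    exact IsPGroup.of_card (n := i) (by rw [Nat.card_zpowers, Subgroup.orderOf_mk, hi])
  obtain ⟨S, hS⟩ := hxp.exists_le_sylow
  let P : Subgroup ↥(Cfsg.Sz F m) := (S : Subgroup ↥N).map N.subtype
  have hPN : P ≤ N := Subgroup.map_subtype_le _
  have hxP : x ∈ P := Subgroup.mem_map.mpr ⟨_, hS (Subgroup.mem_zpowers _), rfl⟩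
  have hPcard : Nat.card ↥P = 2 ^ j := by
    rw [Subgroup.card_map_of_injective N.subtype_injective, Sylow.card_eq_multiplicity, hcardN,
      Nat.factorization_mul (by positivity) (by omega), Finsupp.add_apply, Nat.prime_two.factorization_pow,
      Finsupp.single_eq_same, Nat.factorization_eq_zero_of_not_dvd (fun h => (Nat.not_even_iff_odd.mpr hodd) (even_iff_two_dvd.mpr h)),
      add_zero]
  have hPp : IsPGroup 2 ↥P := IsPGroup.of_card (n := j) hPcard
  obtain ⟨p1, hp1⟩ := hs.two_group_fix hPp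
  have hp10 : p1 = p0 := hp0' p1 (hp1 x hxP)
  rw [hp10] at hp1
  have hNB : ∀ z ∈ N, z • p0 = p0 → hs.Uni z := by
    intro z hz hzp
    by_contra hu
    obtain ⟨hz1, hz2⟩ := hs.not_uni hu
    rcases hz2 with e | e
    · exact e p0 hzp
    · have hzC := hs.odd_mem_tor hC hz (hs.spl_odd e)
      obtain ⟨k', s, hs1, hk'⟩ := e
      -- x permutes the two points fixed by z
      have hxzC : x⁻¹ * z * x ∈ C := (Subgroup.mem_normalizer_iff.mp hxN _).mpr (by
        rw [show x * (x⁻¹ * z * x) * x⁻¹ = z by group]; exact hzC)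
      have hzfix : ∀ q : ↥(Cfsg.suzukiOvoid F m), z • q = q → z • (x • q) = x • q := by
        intro q hq
        have : (x⁻¹ * z * x) • q = q := by
          refine hs.fix_of_commute (Odd.of_dvd_nat hodd ((Subgroup.orderOf_mk _ hxzC) ▸
            orderOf_dvd_natCard (⟨_, hxzC⟩ : ↥C))) hz1 ?_ hq
          letI := IsCyclic.commGroup (α := ↥C)
          exact congrArg Subtype.val (mul_comm (⟨_, hxzC⟩ : ↥C) ⟨z, hzC⟩)
        calc z • (x • q) = x • ((x⁻¹ * z * x) • q) := by simp only [mul_smul, smul_inv_smul]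
          _ = _ := by rw [this]
      have q1 : z • (k'⁻¹ • infPt F m) = k'⁻¹ • infPt F m := by
        rw [show z = k'⁻¹ * hs.dS s * k' by rw [← hk']; group, mul_smul, mul_smul, smul_inv_smul]
        exact congrArg _ (Subtype.ext (dG_infty s))
      have q2 : z • (k'⁻¹ • finPt m (0 : F) 0) = k'⁻¹ • finPt m (0 : F) 0 := by
        rw [show z = k'⁻¹ * hs.dS s * k' by rw [← hk']; group, mul_smul, mul_smul, smul_inv_smul]
        refine congrArg _ (Subtype.ext ?_)
        rw [hs.coe_smul', Subgroup.smul_def]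
        show dG m s • ptSz m (0 : F) 0 = _
        rw [hs.dG_point, mul_zero, mul_zero]
        rfl
      have hne : (finPt m (0 : F) 0) ≠ infPt F m := fun e => ptSz_ne_infty 0 0 (congrArg Subtype.val e)
      have other : ∀ q, q ≠ p0 → z • q = q → False := fun q hq hzq => by
        rcases hs.fix_le hz1 hzp hzq (hzfix q hzq) with e | e | e
        · exact hq e.symm
        · exact hq (hp0' q e.symm)
        · exact hq (MulAction.injective x (e.symm.trans hp0.symm))
      rcases eq_or_ne (k'⁻¹ • infPt F m) p0 with e | e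
      · exact other _ (fun e' => hne (MulAction.injective k'⁻¹ (e'.trans e.symm))) q2
      · exact other _ e q1
  have hchar : ∀ z ∈ N, z • p0 = p0 ↔ z ∈ P := by
    intro z hz
    refine ⟨fun hzp => ?_, fun hzP => hp1 z hzP⟩
    have hp' : IsPGroup 2 ↥((N ⊓ MulAction.stabilizer ↥(Cfsg.Sz F m) p0).subgroupOf N) := fun w =>
      ⟨2, Subtype.ext (Subtype.ext (hs.two_pow_of_uni (hNB w.1.1 w.1.2 w.2.2)))⟩
    have hle : (S : Subgroup ↥N) ≤ (N ⊓ MulAction.stabilizer ↥(Cfsg.Sz F m) p0).subgroupOf N := fun w hw =>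
      ⟨w.2, hp1 w.1 (Subgroup.mem_map.mpr ⟨w, hw, rfl⟩)⟩
    have := S.is_maximal' hp' hle
    exact Subgroup.mem_map.mpr ⟨⟨z, hz⟩, this ▸ (show (⟨z, hz⟩ : ↥N) ∈ (N ⊓ MulAction.stabilizer ↥(Cfsg.Sz F m) p0).subgroupOf N from ⟨hz, hzp⟩), rfl⟩
  refine ⟨P, hxP, hPN, hPcard, hchar, ?_⟩
  rcases hj with rfl | rfl
  · exact isCyclic_of_prime_card (p := 2) hPcard
  · -- two commuting involutions cannot both act without fixed points
    by_contra hnc
    have hexp : ∀ z ∈ P, z * z = 1 := by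
      intro z hz
      have hd : orderOf (⟨z, hz⟩ : ↥P) ∣ 2 ^ 2 := hPcard ▸ orderOf_dvd_natCard _
      obtain ⟨i, hi2, hi⟩ := (Nat.dvd_prime_pow Nat.prime_two).mp hd
      have hi1 : i ≤ 1 := by
        by_contra h
        have : i = 2 := by omega
        subst this
        exact hnc (isCyclic_of_orderOf_eq_card (⟨z, hz⟩ : ↥P) (hi.trans hPcard.symm))
      have h2 : (⟨z, hz⟩ : ↥P) ^ 2 = 1 := orderOf_dvd_iff_pow_eq_one.mp (hi ▸ (pow_dvd_pow 2 hi1).trans (dvd_of_eq (pow_one 2)))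
      have := congrArg Subtype.val h2
      rwa [SubmonoidClass.coe_pow, sq] at this
    letI := IsCyclic.commGroup (α := ↥C)
    have hinv : ∀ z ∈ P, z ≠ 1 → ∀ u ∈ C, z * u * z = u⁻¹ := by
      intro z hz hz1 u hu
      have hzi : z⁻¹ = z := inv_eq_of_mul_eq_one_right (hexp z hz)
      have hv : z * u * z ∈ C := by
        have := (Subgroup.mem_normalizer_iff.mp (hPN hz) u).mp hu
        rwa [hzi] at this
      by_contra hne
      have hw : u * (z * u * z) ∈ C := mul_mem hu hv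
      have hw1 : u * (z * u * z) ≠ 1 := fun e => hne (eq_inv_of_mul_eq_one_right e)
      have hfixw : z * (u * (z * u * z)) = u * (z * u * z) * z := by
        have hcm : (z * u * z) * u = u * (z * u * z) := congrArg Subtype.val (mul_comm (⟨_, hv⟩ : ↥C) ⟨u, hu⟩)
        calc z * (u * (z * u * z)) = (z * u * z) * (u * z) := by simp only [mul_assoc]
          _ = u * (z * u * z) * z := by rw [← mul_assoc, hcm]
      obtain ⟨hnu, hCw⟩ := hTI _ hw hw1
      have hzC : z ∈ C := hCw ▸ Subgroup.mem_centralizer_singleton_iff.mpr hfixw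
      exact (hTI z hzC hz1).1 (hs.uni_iff.mpr (Or.inl (by
        rw [orderOf_eq_prime (by rw [sq]; exact hexp z hz) hz1]; decide)))
    obtain ⟨z, hz, hz1, hzx⟩ : ∃ z ∈ P, z ≠ 1 ∧ z ≠ x := by
      by_contra hc
      push Not at hc
      haveI : Fintype ↥P := Fintype.ofFinite _
      have hle : Fintype.card ↥P ≤ 2 := le_trans
        (Finset.card_le_card (show Finset.univ ⊆ ({1, ⟨x, hxP⟩} : Finset ↥P) from fun z _ => by
          by_cases h : z = 1
          · simp [h]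
          · simp [show z = (⟨x, hxP⟩ : ↥P) from Subtype.ext (hc z.1 z.2 (fun e => h (Subtype.ext e)))])) Finset.card_le_two
      rw [← Nat.card_eq_fintype_card, hPcard] at hle
      norm_num at hle
    obtain ⟨u, hu, hu1⟩ : ∃ u ∈ C, u ≠ 1 := by
      haveI : Nontrivial ↥C := Finite.one_lt_card_iff_nontrivial.mp (by omega)
      obtain ⟨u, hu⟩ := exists_ne (1 : ↥C)
      exact ⟨u.1, u.2, fun e => hu (Subtype.ext e)⟩
    have hzx1 : z * x ≠ 1 := fun e => hzx (by
      rw [← mul_one z, ← hexp x hxP, ← mul_assoc, e, one_mul])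
    have h1 := hinv z hz hz1 u hu
    have h2 := hinv x hxP hx1 u hu
    have h3 := hinv _ (mul_mem hz hxP) hzx1 u hu
    have hcomm : z * x = x * z := by
      have := inv_eq_of_mul_eq_one_right (hexp _ (mul_mem hz hxP))
      rw [_root_.mul_inv_rev, inv_eq_of_mul_eq_one_right (hexp z hz), inv_eq_of_mul_eq_one_right (hexp x hxP)] at this
      exact this.symm
    have h4 : z * x * u * (z * x) = u := by
      have h5 : z * x * u * (z * x) = z * (x * u * x) * z := by
        calc z * x * u * (z * x) = z * x * u * (x * z) := by rw [hcomm]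
          _ = z * (x * u * x) * z := by simp only [mul_assoc]
      rw [h5, h2, hinv z hz hz1 u⁻¹ (inv_mem hu), inv_inv]
    rw [h4] at h3
    have : orderOf u ∣ 2 := orderOf_dvd_of_pow_eq_one (by rw [sq]; nth_rw 2 [h3]; exact mul_inv_cancel u)
    have ho : Odd (orderOf u) := Odd.of_dvd_nat hodd ((Subgroup.orderOf_mk u hu) ▸ orderOf_dvd_natCard (⟨u, hu⟩ : ↥C))
    rcases (Nat.dvd_prime Nat.prime_two).mp this with e | e
    · exact hu1 (orderOf_eq_one_iff.mp e)
    · rw [e] at ho; exact absurd ho (by decide)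

/-- The tori of one kind normalised by a unipotent element contribute as much as its centraliser times their order less one. -/
theorem tor_count {x : ↥(Cfsg.Sz F m)} (hx : hs.Uni x) (hx1 : x ≠ 1) {C0 : Subgroup ↥(Cfsg.Sz F m)} (hC0 : hs.Tor C0)
    {p0 : ↥(Cfsg.suzukiOvoid F m)} (hp0 : x • p0 = p0) :
    Nat.card {y : ↥(Cfsg.Sz F m) // y • p0 ≠ p0 ∧ ∃ C : Subgroup ↥(Cfsg.Sz F m), hs.Tor C ∧ Nat.card ↥C = Nat.card ↥C0 ∧
        x ∈ Subgroup.normalizer (C : Set ↥(Cfsg.Sz F m)) ∧ y ∈ Subgroup.normalizer (C : Set ↥(Cfsg.Sz F m))} =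
      if orderOf x = 4 ∧ Nat.card ↥C0 = Q - 1 then 0
      else Nat.card ↥(Subgroup.centralizer ({x} : Set ↥(Cfsg.Sz F m))) * (Nat.card ↥C0 - 1) := by
  classical
  haveI := Fact.mk Nat.prime_two
  haveI : Fintype ↥(Cfsg.Sz F m) := Fintype.ofFinite _
  obtain ⟨hc12, hc13, -⟩ := hs.coprime_orders
  obtain ⟨-, -, -, h8, -⟩ := hs.arith
  obtain ⟨hcy0, hTI0, hodd0, h30, hN0⟩ := hs.tor_info hC0
  set n := Nat.card ↥C0 with hn
  obtain ⟨j, hj, hj1⟩ : ∃ j, Nat.card ↥(Subgroup.normalizer (C0 : Set ↥(Cfsg.Sz F m))) = 2 ^ j * n ∧ (j = 1 ∧ n = Q - 1 ∨ j = 2 ∧ n ≠ Q - 1) := by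
    rcases hN0 with ⟨h1, h2⟩ | ⟨h1, h2⟩
    · exact ⟨1, h2, Or.inl ⟨rfl, h1⟩⟩
    · refine ⟨2, h2, Or.inr ⟨rfl, fun e => ?_⟩⟩
      rcases h1 with h | h <;> rw [e] at h
      · rw [h, Nat.coprime_self] at hc12; omega
      · rw [h, Nat.coprime_self] at hc13; omega
  obtain ⟨k, hk⟩ := hx
  obtain ⟨-, huniq⟩ := hs.uni_fix hx1 hk
  have hp0' : ∀ z, x • z = z → z = p0 := fun z hz => (huniq z hz).trans (huniq p0 hp0).symm
  -- a torus of this kind normalised by x: the normalised 2-subgroup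
  have hjj : j = 1 ∨ j = 2 := hj1.imp (fun h => h.1) (fun h => h.1)
  have hcardC : ∀ C : Subgroup ↥(Cfsg.Sz F m), hs.Tor C → Nat.card ↥C = n →
      Nat.card ↥(Subgroup.normalizer (C : Set ↥(Cfsg.Sz F m))) = 2 ^ j * Nat.card ↥C := fun C hC hCn => by
    obtain ⟨l, hl⟩ := hs.tor_conj hC0 hC hCn.symm
    rw [hCn, hl, card_normalizer_map, hj]
  have hsyl : ∀ C : Subgroup ↥(Cfsg.Sz F m), hs.Tor C → Nat.card ↥C = n → x ∈ Subgroup.normalizer (C : Set ↥(Cfsg.Sz F m)) →
      ∃ P : Subgroup ↥(Cfsg.Sz F m), x ∈ P ∧ P ≤ Subgroup.normalizer (C : Set ↥(Cfsg.Sz F m)) ∧ Nat.card ↥P = 2 ^ j ∧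
        (∀ z ∈ Subgroup.normalizer (C : Set ↥(Cfsg.Sz F m)), z • p0 = p0 ↔ z ∈ P) ∧ IsCyclic ↥P := fun C hC hCn hxN =>
    hs.syl_info ⟨k, hk⟩ hx1 hp0 hC hxN hjj (hcardC C hC hCn)
  -- order four elements normalise no split torus
  split_ifs with h4
  · rw [Nat.card_eq_zero]
    refine Or.inl ⟨fun ⟨y, _, C, hC, hCn, hxN, _⟩ => ?_⟩
    obtain ⟨P, hxP, -, hP, -⟩ := hsyl C hC hCn hxN
    rcases hj1 with ⟨rfl, -⟩ | ⟨-, h⟩
    · have := (Subgroup.orderOf_mk x hxP) ▸ orderOf_dvd_natCard (⟨x, hxP⟩ : ↥P)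
      rw [hP, h4.1] at this
      norm_num at this
    · exact h h4.2
  -- one torus of this kind normalised by x
  obtain ⟨C1, hC1, hC1n, hxC1⟩ : ∃ C, hs.Tor C ∧ Nat.card ↥C = n ∧ x ∈ Subgroup.normalizer (C : Set ↥(Cfsg.Sz F m)) := by
    haveI : Fintype ↥(Subgroup.normalizer (C0 : Set ↥(Cfsg.Sz F m))) := Fintype.ofFinite _
    obtain ⟨y, hy, hy2⟩ : ∃ y ∈ Subgroup.normalizer (C0 : Set ↥(Cfsg.Sz F m)), orderOf y = 2 := by
      have h2 : 2 ∣ Nat.card ↥(Subgroup.normalizer (C0 : Set ↥(Cfsg.Sz F m))) := by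
        rw [hj]
        rcases hj1 with ⟨rfl, -⟩ | ⟨rfl, -⟩ <;> exact dvd_mul_of_dvd_left (by norm_num) _
      obtain ⟨y, hy⟩ := exists_prime_orderOf_dvd_card' 2 h2
      exact ⟨y.1, y.2, by rw [← hy, Subgroup.orderOf_coe]⟩
    have move : ∀ {y : ↥(Cfsg.Sz F m)}, y ∈ Subgroup.normalizer (C0 : Set ↥(Cfsg.Sz F m)) → IsConj x y →
        ∃ C, hs.Tor C ∧ Nat.card ↥C = n ∧ x ∈ Subgroup.normalizer (C : Set ↥(Cfsg.Sz F m)) := by
      intro y hy hc
      obtain ⟨g, hg⟩ := isConj_iff.mp hc.symm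
      obtain ⟨a, ha, hCa⟩ := hC0
      refine ⟨C0.map (MulAut.conj g).toMonoidHom, ⟨g * a * g⁻¹, fun h => ha ?_, by rw [hCa, conjC]⟩,
        Subgroup.card_map_of_injective (MulEquiv.injective _), ?_⟩
      · obtain ⟨l, hl⟩ := h
        exact ⟨l * g, by simpa [mul_assoc] using hl⟩
      · rw [← Subgroup.map_equiv_normalizer_eq, Subgroup.mem_map_equiv, MulAut.conj_symm_apply, ← hg]
        simpa [mul_assoc] using hy
    have hy1 : y ≠ 1 := fun e => by rw [e, orderOf_one] at hy2; omega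
    have hyu : hs.Uni y := hs.uni_iff.mpr (Or.inl (by rw [hy2]; decide))
    rcases hs.uni_std ⟨k, hk⟩ hx1 0 with ⟨-, hxc⟩ | ⟨ho, hxc⟩
    · rcases hs.uni_std hyu hy1 0 with ⟨-, hyc⟩ | ⟨ho', -⟩
      · exact move hy (hxc.trans hyc.symm)
      · omega
    · obtain ⟨rfl, -⟩ : j = 2 ∧ n ≠ Q - 1 := by
        rcases hj1 with ⟨-, h⟩ | h
        · exact absurd ⟨ho, h⟩ h4
        · exact h
      obtain ⟨w, hwN, hw⟩ : ∃ w ∈ Subgroup.normalizer (C0 : Set ↥(Cfsg.Sz F m)), orderOf w = 4 := by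
        by_contra hc
        push Not at hc
        obtain ⟨k', hk'⟩ := hyu
        obtain ⟨hyfix, -⟩ := hs.uni_fix hy1 hk'
        obtain ⟨P, hyP, hPle, hPc, -, hPcyc⟩ := hs.syl_info ⟨k', hk'⟩ hy1 hyfix hC0 hy (Or.inr rfl) (by rw [hj])
        obtain ⟨g, hg⟩ := IsCyclic.exists_ofOrder_eq_natCard (α := ↥P)
        refine hc g.1 (hPle g.2) ?_
        rw [Subgroup.orderOf_coe, hg, hPc]
        norm_num
      have hw1 : w ≠ 1 := fun e => by rw [e, orderOf_one] at hw; omega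
      have hwu : hs.Uni w := hs.uni_iff.mpr (Or.inl (by rw [hw]; decide))
      rcases hs.uni_std hwu hw1 0 with ⟨ho', -⟩ | ⟨-, hwc⟩
      · omega
      rcases hxc with h | h <;> rcases hwc with h' | h'
      · exact move hwN (h.trans h'.symm)
      · refine move (inv_mem hwN) (h.trans ?_)
        obtain ⟨g, hg⟩ := isConj_iff.mp h'.symm
        exact isConj_iff.mpr ⟨g, by rw [← hg]; group⟩
      · refine move (inv_mem hwN) (h.trans ?_)
        obtain ⟨g, hg⟩ := isConj_iff.mp h'.symm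
        exact isConj_iff.mpr ⟨g, by rw [← hg]; group⟩
      · exact move hwN (h.trans h'.symm)
  obtain ⟨P, hxP, hPN, hPc, hPchar, hPcyc⟩ := hsyl C1 hC1 hC1n hxC1
  -- the tori in question form one orbit of the centraliser
  set Z := Subgroup.centralizer ({x} : Set ↥(Cfsg.Sz F m)) with hZ
  have horb : ∀ C, hs.Tor C → Nat.card ↥C = n → x ∈ Subgroup.normalizer (C : Set ↥(Cfsg.Sz F m)) →
      ∃ c ∈ Z, C = C1.map (MulAut.conj c).toMonoidHom := by
    intro C hC hCn hxN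
    obtain ⟨g, hg⟩ := hs.tor_conj hC1 hC (hC1n.trans hCn.symm)
    have hx' : g⁻¹ * x * g ∈ Subgroup.normalizer (C1 : Set ↥(Cfsg.Sz F m)) := by
      rw [hg, ← Subgroup.map_equiv_normalizer_eq, Subgroup.mem_map_equiv, MulAut.conj_symm_apply] at hxN
      exact hxN
    set N1 := Subgroup.normalizer (C1 : Set ↥(Cfsg.Sz F m)) with hN1
    have hxp : IsPGroup 2 ↥(Subgroup.zpowers (⟨g⁻¹ * x * g, hx'⟩ : ↥N1)) := by
      obtain ⟨i, -, hi⟩ := (Nat.dvd_prime_pow Nat.prime_two).mp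
        (orderOf_dvd_of_pow_eq_one (show x ^ 2 ^ 2 = 1 from hs.two_pow_of_uni ⟨k, hk⟩))
      refine IsPGroup.of_card (n := i) ?_
      rw [Nat.card_zpowers, Subgroup.orderOf_mk, ← hi, show g⁻¹ * x * g = MulAut.conj g⁻¹ x by simp]
      exact MulEquiv.orderOf_eq _ _
    obtain ⟨S, hS⟩ := hxp.exists_le_sylow
    have hcardN1 : Nat.card ↥N1 = 2 ^ j * n := by
      obtain ⟨l, hl⟩ := hs.tor_conj hC0 hC1 hC1n.symm
      rw [hN1, hl, card_normalizer_map, hj]
    have hPS : Nat.card ↥(P.subgroupOf N1) = 2 ^ (Nat.card ↥N1).factorization 2 := by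
      rw [Nat.card_congr (Subgroup.subgroupOfEquivOfLe hPN).toEquiv, hPc, hcardN1,
        Nat.factorization_mul (by positivity) (by omega), Finsupp.add_apply, Nat.prime_two.factorization_pow,
        Finsupp.single_eq_same, Nat.factorization_eq_zero_of_not_dvd (fun h => (Nat.not_even_iff_odd.mpr hodd0) (even_iff_two_dvd.mpr h)),
        add_zero]
    obtain ⟨w, hw⟩ := MulAction.exists_smul_eq ↥N1 S (Sylow.ofCard _ hPS)
    have hxw : (w : ↥(Cfsg.Sz F m)) * (g⁻¹ * x * g) * (w : ↥(Cfsg.Sz F m))⁻¹ ∈ P := by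
      have hm' : w * ⟨g⁻¹ * x * g, hx'⟩ * w⁻¹ ∈ ((Sylow.ofCard _ hPS : Sylow 2 ↥N1) : Subgroup ↥N1) := by
        rw [← hw, Sylow.coe_subgroup_smul]
        exact ⟨_, hS (Subgroup.mem_zpowers _), by simp⟩
      exact Subgroup.mem_subgroupOf.mp hm'
    set x' := (w : ↥(Cfsg.Sz F m)) * (g⁻¹ * x * g) * (w : ↥(Cfsg.Sz F m))⁻¹ with hx'def
    have hconj : x' = MulAut.conj ((w : ↥(Cfsg.Sz F m)) * g⁻¹) x := by rw [hx'def, MulAut.conj_apply]; group
    have hoo : orderOf x' = orderOf x := by rw [hconj]; exact MulEquiv.orderOf_eq _ _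
    have hxx : x' = x ∨ x' = x⁻¹ := by
      obtain ⟨t, ht⟩ := IsCyclic.exists_ofOrder_eq_natCard (α := ↥P)
      have htop : ∀ z : ↥P, ∃ i : ℕ, i < 2 ^ j ∧ t ^ i = z := fun z => by
        have hz : z ∈ Subgroup.zpowers t := by
          have : Subgroup.zpowers t = ⊤ := Subgroup.eq_top_of_card_eq _ (by rw [Nat.card_zpowers, ht])
          rw [this]; exact Subgroup.mem_top z
        obtain ⟨i, hi⟩ := mem_powers_iff_mem_zpowers.mpr hz
        refine ⟨i % orderOf t, ?_, by rw [pow_mod_orderOf]; exact hi⟩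
        rw [← hPc, ← ht]
        exact Nat.mod_lt _ (orderOf_pos t)
      obtain ⟨i, hi, hix⟩ := htop ⟨x, hxP⟩
      obtain ⟨i', hi', hix'⟩ := htop ⟨x', hxw⟩
      have e1 : orderOf (t ^ i) = orderOf x := by rw [hix, Subgroup.orderOf_mk]
      have e2 : orderOf (t ^ i') = orderOf x := by rw [hix', Subgroup.orderOf_mk, hoo]
      have et : orderOf t = 2 ^ j := ht.trans hPc
      have hxne : orderOf x ≠ 1 := fun e => hx1 (orderOf_eq_one_iff.mp e)
      have hi0 : i ≠ 0 := fun e => hxne (by rw [← e1, e, pow_zero, orderOf_one])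
      have hi'0 : i' ≠ 0 := fun e => hxne (by rw [← e2, e, pow_zero, orderOf_one])
      rw [orderOf_pow, et] at e1 e2
      have hcases : i' = i ∨ i' + i = 2 ^ j := by
        rcases hj1 with ⟨rfl, -⟩ | ⟨rfl, -⟩
        · omega
        · norm_num at hi hi' e1 e2
          interval_cases i <;> interval_cases i' <;> norm_num at e1 e2 ⊢ <;> omega
      rcases hcases with e | e
      · exact Or.inl (congrArg Subtype.val (hix'.symm.trans (e ▸ hix)))
      · refine Or.inr ?_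
        have : t ^ i' * t ^ i = 1 := by rw [← pow_add, e, ← et, pow_orderOf_eq_one]
        rw [hix, hix'] at this
        exact eq_inv_of_mul_eq_one_left (congrArg Subtype.val this)
    have hxe : x' = x := by
      rcases hxx with e | e
      · exact e
      · haveI := Fact.mk Nat.prime_two
        have hc : IsConj x x⁻¹ := isConj_iff.mpr ⟨(w : ↥(Cfsg.Sz F m)) * g⁻¹, by rw [← e, hconj]; rfl⟩
        obtain ⟨S2, hS2⟩ := (IsPGroup.of_card (n := j) hPc).exists_le_sylow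
        have h2 := (hs.isConj_inv_iff S2 x (hS2 hxP) hx1).mp hc
        rw [e]
        exact inv_eq_of_mul_eq_one_right (by rw [← sq, ← h2, pow_orderOf_eq_one])
    refine ⟨g * (w : ↥(Cfsg.Sz F m))⁻¹, Subgroup.mem_centralizer_singleton_iff.mpr ?_, ?_⟩
    · have h := hxe
      rw [hx'def] at h
      calc g * (w : ↥(Cfsg.Sz F m))⁻¹ * x = g * (w : ↥(Cfsg.Sz F m))⁻¹ * ((w : ↥(Cfsg.Sz F m)) * (g⁻¹ * x * g) * (w : ↥(Cfsg.Sz F m))⁻¹) := by rw [h]
        _ = x * (g * (w : ↥(Cfsg.Sz F m))⁻¹) := by group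
    · have hwn : C1.map (MulAut.conj (w : ↥(Cfsg.Sz F m))⁻¹).toMonoidHom = C1 := by
        ext z
        rw [Subgroup.mem_map_equiv, MulAut.conj_symm_apply, inv_inv]
        exact (Subgroup.mem_normalizer_iff.mp w.2 z).symm
      conv_lhs => rw [hg, ← hwn]
      rw [Subgroup.map_map]
      refine congrArg (fun f : ↥(Cfsg.Sz F m) →* ↥(Cfsg.Sz F m) => C1.map f) (MonoidHom.ext fun z => ?_)
      simp [mul_assoc]
  -- count
  haveI : Fintype ↥Z := Fintype.ofFinite _
  haveI : Fintype ↥C1 := Fintype.ofFinite _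
  set N1 := Subgroup.normalizer (C1 : Set ↥(Cfsg.Sz F m)) with hN1
  have hcardN1 : Nat.card ↥N1 = 2 ^ j * n := by
    obtain ⟨l, hl⟩ := hs.tor_conj hC0 hC1 hC1n.symm
    rw [hN1, hl, card_normalizer_map, hj]
  let T := {y : ↥(Cfsg.Sz F m) // y ∈ N1 ∧ y • p0 ≠ p0}
  let f : ↥Z × T → {y : ↥(Cfsg.Sz F m) // y • p0 ≠ p0 ∧ ∃ C : Subgroup ↥(Cfsg.Sz F m), hs.Tor C ∧ Nat.card ↥C = n ∧
        x ∈ Subgroup.normalizer (C : Set ↥(Cfsg.Sz F m)) ∧ y ∈ Subgroup.normalizer (C : Set ↥(Cfsg.Sz F m))} := fun z =>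
    ⟨(z.1 : ↥(Cfsg.Sz F m)) * z.2.1 * (z.1 : ↥(Cfsg.Sz F m))⁻¹, fun e => z.2.2.2 (by
        have hz := hs.centralizer_le_stab hx1 hk _ z.1.2
        rw [← (huniq p0 hp0)] at hz
        rw [mul_smul, mul_smul, inv_smul_eq_iff.mpr hz.symm, ← eq_inv_smul_iff, inv_smul_eq_iff.mpr hz.symm] at e
        exact e),
      C1.map (MulAut.conj (z.1 : ↥(Cfsg.Sz F m))).toMonoidHom, by
        obtain ⟨a, ha, hCa⟩ := hC1
        refine ⟨(z.1 : ↥(Cfsg.Sz F m)) * a * (z.1 : ↥(Cfsg.Sz F m))⁻¹, fun h => ha ?_, by rw [hCa, conjC]⟩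
        obtain ⟨l, hl⟩ := h
        exact ⟨l * z.1, by simpa [mul_assoc] using hl⟩,
      (Subgroup.card_map_of_injective (MulEquiv.injective _)).trans hC1n, by
        rw [← Subgroup.map_equiv_normalizer_eq, Subgroup.mem_map_equiv, MulAut.conj_symm_apply]
        have hz := Subgroup.mem_centralizer_singleton_iff.mp z.1.2
        rwa [show (z.1 : ↥(Cfsg.Sz F m))⁻¹ * x * z.1 = x by rw [mul_assoc, ← hz, ← mul_assoc, inv_mul_cancel, one_mul]], by
        rw [← Subgroup.map_equiv_normalizer_eq]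
        exact ⟨_, z.2.2.1, rfl⟩⟩
  have hPZ : P ≤ Z := fun z hz => by
    letI := IsCyclic.commGroup (α := ↥P)
    exact Subgroup.mem_centralizer_singleton_iff.mpr (congrArg Subtype.val (mul_comm (⟨z, hz⟩ : ↥P) ⟨x, hxP⟩))
  haveI : Fintype T := Fintype.ofFinite _
  have hfib : ∀ y, Nat.card {z : ↥Z × T // f z = y} = 2 ^ j := by
    intro y
    obtain ⟨hy1, C, hC, hCn, hxN, hyN⟩ := y.2
    obtain ⟨c, hc, hCc⟩ := horb C hC hCn hxN
    rw [hCc, ← Subgroup.map_equiv_normalizer_eq, Subgroup.mem_map_equiv, MulAut.conj_symm_apply] at hyN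
    have hmv : ∀ c ∈ Z, c • p0 = p0 := fun c hc => by
      have := hs.centralizer_le_stab hx1 hk c hc
      rwa [← huniq p0 hp0] at this
    rw [← hPc]
    refine Nat.card_congr ?_
    refine
      { toFun := fun z => ⟨c⁻¹ * (z.1.1 : ↥(Cfsg.Sz F m)), ?_⟩
        invFun := fun w => ⟨(⟨c * w.1, mul_mem hc (hPZ w.2)⟩,
          ⟨w.1⁻¹ * (c⁻¹ * y.1 * c) * w.1, mul_mem (mul_mem (inv_mem (hPN w.2)) hyN) (hPN w.2), ?_⟩), ?_⟩
        left_inv := ?_
        right_inv := fun w => Subtype.ext (by simp) }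
    · obtain ⟨⟨d, t⟩, hz⟩ := z
      have hd : c⁻¹ * (d : ↥(Cfsg.Sz F m)) ∈ Z := mul_mem (inv_mem hc) d.2
      show c⁻¹ * (d : ↥(Cfsg.Sz F m)) ∈ P
      have hy : (d : ↥(Cfsg.Sz F m)) * t.1 * (d : ↥(Cfsg.Sz F m))⁻¹ = y.1 := congrArg Subtype.val hz
      -- both conjugates of C1 are normalised by x and y, hence equal
      have hsame : C1.map (MulAut.conj (d : ↥(Cfsg.Sz F m))).toMonoidHom = C1.map (MulAut.conj c).toMonoidHom := by
        have htor : ∀ e : ↥(Cfsg.Sz F m), hs.Tor (C1.map (MulAut.conj e).toMonoidHom) := fun e => by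
          obtain ⟨a, ha, hCa⟩ := hC1
          refine ⟨e * a * e⁻¹, fun h => ha ?_, by rw [hCa, conjC]⟩
          obtain ⟨l, hl⟩ := h
          exact ⟨l * e, by simpa [mul_assoc] using hl⟩
        set M := Subgroup.closure ({x, y.1} : Set ↥(Cfsg.Sz F m)) with hM
        have hnp : ¬ IsPGroup 2 ↥M := fun h => by
          obtain ⟨q, hq⟩ := hs.two_group_fix h
          have hq0 := hp0' q (hq x (Subgroup.subset_closure (by simp)))
          exact hy1 (hq0 ▸ hq y.1 (Subgroup.subset_closure (by simp)))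
        obtain ⟨u, hu, huu⟩ := hs.not_isPGroup hnp
        have huo : Odd (orderOf u) := by
          rcases (hs.not_uni huu).2 with e | e
          exacts [(hs.elliptic_of_no_fix e).2.1, hs.spl_odd e]
        have hle : ∀ e : ↥(Cfsg.Sz F m), x ∈ Subgroup.normalizer ((C1.map (MulAut.conj e).toMonoidHom : Subgroup ↥(Cfsg.Sz F m)) : Set ↥(Cfsg.Sz F m)) →
            y.1 ∈ Subgroup.normalizer ((C1.map (MulAut.conj e).toMonoidHom : Subgroup ↥(Cfsg.Sz F m)) : Set ↥(Cfsg.Sz F m)) →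
            Subgroup.centralizer ({u} : Set ↥(Cfsg.Sz F m)) = C1.map (MulAut.conj e).toMonoidHom := by
          intro e h1 h2
          have hM' : M ≤ Subgroup.normalizer ((C1.map (MulAut.conj e).toMonoidHom : Subgroup ↥(Cfsg.Sz F m)) : Set ↥(Cfsg.Sz F m)) :=
            (Subgroup.closure_le _).mpr (by rintro w (rfl | rfl) <;> assumption)
          exact ((hs.tor_info (htor e)).2.1 u (hs.odd_mem_tor (htor e) (hM' hu) huo) (hs.not_uni huu).1).2
        have nx : ∀ e ∈ Z, x ∈ Subgroup.normalizer ((C1.map (MulAut.conj e).toMonoidHom : Subgroup ↥(Cfsg.Sz F m)) : Set ↥(Cfsg.Sz F m)) := by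
          intro e he
          rw [← Subgroup.map_equiv_normalizer_eq, Subgroup.mem_map_equiv, MulAut.conj_symm_apply]
          have hz := Subgroup.mem_centralizer_singleton_iff.mp he
          rwa [show e⁻¹ * x * e = x by rw [mul_assoc, ← hz, ← mul_assoc, inv_mul_cancel, one_mul]]
        refine (hle _ (nx _ d.2) ?_).symm.trans (hle _ (nx _ hc) ?_)
        · rw [← Subgroup.map_equiv_normalizer_eq]
          exact ⟨_, t.2.1, hy⟩
        · rw [← Subgroup.map_equiv_normalizer_eq, Subgroup.mem_map_equiv, MulAut.conj_symm_apply]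
          exact hyN
      have hnorm : c⁻¹ * (d : ↥(Cfsg.Sz F m)) ∈ N1 := by
        refine Subgroup.mem_normalizer_iff.mpr fun u => ?_
        have h1 := Subgroup.ext_iff.mp hsame ((d : ↥(Cfsg.Sz F m)) * u * (d : ↥(Cfsg.Sz F m))⁻¹)
        rw [Subgroup.mem_map_equiv, Subgroup.mem_map_equiv, MulAut.conj_symm_apply, MulAut.conj_symm_apply] at h1
        simpa [mul_assoc] using h1
      exact (hPchar _ hnorm).mp (hmv _ hd)
    · intro e
      refine hy1 ?_
      have h1 := hmv _ (hPZ w.2)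
      have h2 := hmv _ hc
      rw [mul_smul, mul_smul, mul_smul, mul_smul, h1, inv_smul_eq_iff, h1, inv_smul_eq_iff, h2] at e
      exact e
    · exact Subtype.ext (by simp [f, mul_assoc])
    · rintro ⟨⟨d, t⟩, hz⟩
      have hy : (d : ↥(Cfsg.Sz F m)) * t.1 * (d : ↥(Cfsg.Sz F m))⁻¹ = y.1 := congrArg Subtype.val hz
      refine Subtype.ext (Prod.ext (Subtype.ext (by simp)) (Subtype.ext ?_))
      show (c⁻¹ * (d : ↥(Cfsg.Sz F m)))⁻¹ * (c⁻¹ * y.1 * c) * (c⁻¹ * (d : ↥(Cfsg.Sz F m))) = t.1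
      rw [← hy]
      group
  have hT : Nat.card T = 2 ^ j * n - 2 ^ j := by
    rw [← hcardN1, ← hPc, Nat.card_eq_fintype_card, Fintype.card_subtype, Nat.card_eq_fintype_card,
      Fintype.card_subtype, Nat.card_eq_fintype_card, Fintype.card_subtype]
    rw [← Finset.card_sdiff_of_subset (fun z hz => Finset.mem_filter.mpr ⟨Finset.mem_univ _, hPN (Finset.mem_filter.mp hz).2⟩)]
    refine congrArg Finset.card (Finset.ext fun z => ?_)
    simp only [Finset.mem_sdiff, Finset.mem_filter, Finset.mem_univ, true_and]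
    exact ⟨fun h => ⟨h.1, fun h' => h.2 ((hPchar z h.1).mpr h')⟩, fun h => ⟨h.1, fun h' => h.2 ((hPchar z h.1).mp h')⟩⟩
  have htot : Nat.card (↥Z × T) = Nat.card {y : ↥(Cfsg.Sz F m) // y • p0 ≠ p0 ∧ ∃ C : Subgroup ↥(Cfsg.Sz F m), hs.Tor C ∧ Nat.card ↥C = n ∧
        x ∈ Subgroup.normalizer (C : Set ↥(Cfsg.Sz F m)) ∧ y ∈ Subgroup.normalizer (C : Set ↥(Cfsg.Sz F m))} * 2 ^ j := by
    rw [Nat.card_congr (Equiv.sigmaFiberEquiv f).symm, Nat.card_sigma, Finset.sum_congr rfl fun y _ => hfib y,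
      Finset.sum_const, Finset.card_univ, smul_eq_mul, Nat.card_eq_fintype_card]
  rw [Nat.card_prod, hT, ← Nat.mul_sub_one, mul_comm (2 ^ j), ← mul_assoc] at htot
  exact (Nat.eq_of_mul_eq_mul_right (by positivity) htot).symm

/-- The solubilizer of a unipotent element. -/
theorem sol_uni {x : ↥(Cfsg.Sz F m)} (hx : hs.Uni x) (hx1 : x ≠ 1) :
    Nat.card {y : ↥(Cfsg.Sz F m) // Group.IsSolvable ↥(Subgroup.closure ({x, y} : Set ↥(Cfsg.Sz F m)))} =
      if orderOf x = 4 then Q ^ 2 * (Q + 3) else Q ^ 2 * (4 * Q - 3) := by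
  classical
  haveI : Fintype ↥(Cfsg.Sz F m) := Fintype.ofFinite _
  obtain ⟨k, hk⟩ := hx
  obtain ⟨hfix, huniq⟩ := hs.uni_fix hx1 hk
  set p0 := k⁻¹ • infPt F m with hp0
  obtain ⟨g, g', hg, hg', -, hcg, hcg', -, -⟩ := hs.two_classes
  obtain ⟨hc12, hc13, hc23⟩ := hs.coprime_orders
  obtain ⟨hsq, hθ, hθ4, h8, -, hab⟩ := hs.arith
  have hnu : ∀ {g}, hs.Ell g → ¬ hs.Uni g := fun hg h => by
    rcases hs.uni_iff.mp h with e | e
    · exact e (hs.elliptic_of_no_fix hg).2.1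
    · exact (hs.elliptic_of_no_fix hg).1 e
  obtain ⟨s, hs1⟩ := hs.exists_unit
  have hspl : hs.Spl (hs.dS s) := ⟨1, s, hs1, by simp⟩
  have hdu : ¬ hs.Uni (hs.dS s) := fun h => by
    rcases hs.uni_iff.mp h with e | e
    · exact e (hs.spl_odd hspl)
    · exact hs1 (hs.dG_injective ((congrArg Subtype.val e).trans dG_one.symm))
  let W : ℕ → Finset ↥(Cfsg.Sz F m) := fun n => Finset.univ.filter fun y =>
    y • p0 ≠ p0 ∧ ∃ C : Subgroup ↥(Cfsg.Sz F m), hs.Tor C ∧ Nat.card ↥C = n ∧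
        x ∈ Subgroup.normalizer (C : Set ↥(Cfsg.Sz F m)) ∧ y ∈ Subgroup.normalizer (C : Set ↥(Cfsg.Sz F m))
  have hW : ∀ {C0 : Subgroup ↥(Cfsg.Sz F m)}, hs.Tor C0 → (W (Nat.card ↥C0)).card =
      if orderOf x = 4 ∧ Nat.card ↥C0 = Q - 1 then 0
      else Nat.card ↥(Subgroup.centralizer ({x} : Set ↥(Cfsg.Sz F m))) * (Nat.card ↥C0 - 1) := fun hC0 => by
    rw [← hs.tor_count ⟨k, hk⟩ hx1 hC0 hfix]
    exact (Fintype.card_subtype _).symm.trans Nat.card_eq_fintype_card.symm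
  let B : Finset ↥(Cfsg.Sz F m) := Finset.univ.filter fun y => y • p0 = p0
  have hiff : ∀ y, Group.IsSolvable ↥(Subgroup.closure ({x, y} : Set ↥(Cfsg.Sz F m))) ↔
      y ∈ B ∪ (W (Q - 1) ∪ (W (Q + θ + 1) ∪ W (Q - θ + 1))) := by
    intro y
    rw [hs.closure_solvable_iff]
    simp only [B, W, Finset.mem_union, Finset.mem_filter, Finset.mem_univ, true_and]
    constructor
    · rintro (⟨p, hxp, hyp⟩ | ⟨C, hC, hxC, hyC⟩)
      · exact Or.inl (huniq p hxp ▸ hyp)
      · by_cases hy : y • p0 = p0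
        · exact Or.inl hy
        refine Or.inr ?_
        obtain ⟨-, -, -, -, ⟨h, -⟩ | ⟨h | h, -⟩⟩ := hs.tor_info hC
        · exact Or.inl ⟨hy, C, hC, h, hxC, hyC⟩
        · exact Or.inr (Or.inl ⟨hy, C, hC, h, hxC, hyC⟩)
        · exact Or.inr (Or.inr ⟨hy, C, hC, h, hxC, hyC⟩)
    · rintro (h | ⟨-, C, hC, -, hxC, hyC⟩ | ⟨-, C, hC, -, hxC, hyC⟩ | ⟨-, C, hC, -, hxC, hyC⟩)
      · exact Or.inl ⟨p0, hfix, h⟩
      all_goals exact Or.inr ⟨C, hC, hxC, hyC⟩
  have huniqC : ∀ {y n n'}, y ∈ W n → y ∈ W n' → n = n' := by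
    intro y n n' h h'
    simp only [W, Finset.mem_filter, Finset.mem_univ, true_and] at h h'
    obtain ⟨hy, C, hC, hn, hxC, hyC⟩ := h
    obtain ⟨-, C', hC', hn', hxC', hyC'⟩ := h'
    obtain ⟨u, hu, huu⟩ := hs.not_isPGroup (M := Subgroup.closure ({x, y} : Set ↥(Cfsg.Sz F m))) fun h => by
      obtain ⟨q, hq⟩ := hs.two_group_fix h
      exact hy (huniq q (hq x (Subgroup.subset_closure (by simp))) ▸ hq y (Subgroup.subset_closure (by simp)))
    have huo : Odd (orderOf u) := by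
      rcases (hs.not_uni huu).2 with e | e
      exacts [(hs.elliptic_of_no_fix e).2.1, hs.spl_odd e]
    have key : ∀ {C : Subgroup ↥(Cfsg.Sz F m)}, hs.Tor C → x ∈ Subgroup.normalizer (C : Set ↥(Cfsg.Sz F m)) →
        y ∈ Subgroup.normalizer (C : Set ↥(Cfsg.Sz F m)) → Subgroup.centralizer ({u} : Set ↥(Cfsg.Sz F m)) = C := fun hC h1 h2 =>
      ((hs.tor_info hC).2.1 u (hs.odd_mem_tor hC ((Subgroup.closure_le _).mpr (by rintro w (rfl | rfl) <;> assumption) hu) huo)
        (hs.not_uni huu).1).2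
    rw [← hn, ← hn', ← key hC hxC hyC, key hC' hxC' hyC']
  have hdW : ∀ {n n'}, n ≠ n' → Disjoint (W n) (W n') := fun hne =>
    Finset.disjoint_left.mpr fun y h h' => hne (huniqC h h')
  have hdB : Disjoint B (W (Q - 1) ∪ (W (Q + θ + 1) ∪ W (Q - θ + 1))) := by
    refine Finset.disjoint_left.mpr fun y h h' => ?_
    simp only [B, W, Finset.mem_union, Finset.mem_filter, Finset.mem_univ, true_and] at h h'
    rcases h' with ⟨h', -⟩ | ⟨h', -⟩ | ⟨h', -⟩ <;> exact h' h
  have hB : B.card = Q ^ 2 * (Q - 1) := by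
    rw [← hs.stab_omega p0, Nat.card_eq_fintype_card, Fintype.card_subtype]
    rfl
  rw [Nat.card_congr (Equiv.subtypeEquivRight hiff), Nat.card_eq_fintype_card, Fintype.card_coe,
    Finset.card_union_of_disjoint hdB, Finset.card_union_of_disjoint
      (Finset.disjoint_union_right.mpr ⟨hdW (by omega), hdW (by omega)⟩),
    Finset.card_union_of_disjoint (hdW (by omega)), hB]
  have e1 := hW (C0 := Subgroup.centralizer ({hs.dS s} : Set ↥(Cfsg.Sz F m))) ⟨_, hdu, rfl⟩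
  have e2 := hW (C0 := Subgroup.centralizer ({g} : Set ↥(Cfsg.Sz F m))) ⟨_, hnu hg, rfl⟩
  have e3 := hW (C0 := Subgroup.centralizer ({g'} : Set ↥(Cfsg.Sz F m))) ⟨_, hnu hg', rfl⟩
  rw [(hs.spl_centralizer hspl).2] at e1
  rw [hcg] at e2
  rw [hcg'] at e3
  rw [e1, e2, e3]
  rw [if_neg (show ¬ (orderOf x = 4 ∧ Q + θ + 1 = Q - 1) by omega),
    if_neg (show ¬ (orderOf x = 4 ∧ Q - θ + 1 = Q - 1) by omega)]
  have hsum : Q + θ + 1 - 1 + (Q - θ + 1 - 1) = 2 * Q := by omega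
  rcases hs.card_centralizer_uni ⟨k, hk⟩ hx1 with ⟨ho, hc⟩ | ⟨ho, hc⟩
  · rw [hc, if_neg (by omega), if_neg (by omega), ← Nat.mul_add, hsum, ← Nat.mul_add, ← Nat.mul_add]
    congr 1
    omega
  · rw [hc, if_pos ⟨ho, rfl⟩, if_pos ho, zero_add, ← Nat.mul_add, hsum]
    obtain ⟨r, hr⟩ : ∃ r, Q = r + 1 := ⟨Q - 1, by omega⟩
    rw [hr, Nat.add_sub_cancel]
    ring

theorem solubilizer (x : ↥(Cfsg.Sz F m)) :
    (orderOf x = 2 → Nat.card {y : ↥(Cfsg.Sz F m) // Group.IsSolvable ↥(Subgroup.closure ({x, y} : Set ↥(Cfsg.Sz F m)))} = Q ^ 2 * (4 * Q - 3)) ∧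
    (orderOf x = 4 → Nat.card {y : ↥(Cfsg.Sz F m) // Group.IsSolvable ↥(Subgroup.closure ({x, y} : Set ↥(Cfsg.Sz F m)))} = Q ^ 2 * (Q + 3)) ∧
    (x ≠ 1 → orderOf x ∣ Q - 1 →
      Nat.card {y : ↥(Cfsg.Sz F m) // Group.IsSolvable ↥(Subgroup.closure ({x, y} : Set ↥(Cfsg.Sz F m)))} = 2 * Q ^ 2 * (Q - 1)) ∧
    (x ≠ 1 → orderOf x ∣ Q + θ + 1 →
      Nat.card {y : ↥(Cfsg.Sz F m) // Group.IsSolvable ↥(Subgroup.closure ({x, y} : Set ↥(Cfsg.Sz F m)))} = 4 * (Q + θ + 1)) ∧
    (x ≠ 1 → orderOf x ∣ Q - θ + 1 →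
      Nat.card {y : ↥(Cfsg.Sz F m) // Group.IsSolvable ↥(Subgroup.closure ({x, y} : Set ↥(Cfsg.Sz F m)))} = 4 * (Q - θ + 1)) := by
  obtain ⟨hc12, hc13, hc23⟩ := hs.coprime_orders
  obtain ⟨-, -, -, h8, -, hab⟩ := hs.arith
  have huni : ∀ {i : ℕ}, orderOf x = 2 ^ i → hs.Uni x := fun {i} h => hs.uni_iff.mpr (by
    rcases Nat.eq_zero_or_pos i with rfl | hi
    · exact Or.inr (orderOf_eq_one_iff.mp h)
    · exact Or.inl (by rw [h]; exact Nat.not_odd_iff_even.mpr ((Nat.even_pow' hi.ne').mpr even_two)))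
  have hodd : x ≠ 1 → Odd (orderOf x) → hs.Ell x ∨ hs.Spl x := fun h1 ho => (hs.not_uni fun h => by
    rcases hs.uni_iff.mp h with e | e
    · exact e ho
    · exact h1 e).2
  have hell : x ≠ 1 → hs.Ell x → orderOf x ∣ Nat.card ↥(Subgroup.centralizer ({x} : Set ↥(Cfsg.Sz F m))) := fun _ _ =>
    (Subgroup.orderOf_mk x (Subgroup.mem_centralizer_singleton_iff.mpr rfl)) ▸
      orderOf_dvd_natCard (⟨x, Subgroup.mem_centralizer_singleton_iff.mpr rfl⟩ : ↥(Subgroup.centralizer ({x} : Set ↥(Cfsg.Sz F m))))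
  have hone : ∀ {u v : ℕ}, Nat.Coprime u v → orderOf x ∣ u → orderOf x ∣ v → x = 1 := fun h h1 h2 => by
    have := Nat.dvd_gcd h1 h2
    rw [h, Nat.dvd_one] at this
    exact orderOf_eq_one_iff.mp this
  have hQodd : Odd (Q ^ 2 + 1) :=
    (((even_iff_two_dvd.mpr (dvd_pow_self 2 (by omega)) : Even Q)).pow_of_ne_zero two_ne_zero).add_one
  rw [← hab] at hQodd
  refine ⟨fun h => ?_, fun h => ?_, fun h1 hd => ?_, fun h1 hd => ?_, fun h1 hd => ?_⟩
  · rw [hs.sol_uni (huni (i := 1) h) (fun e => by rw [e, orderOf_one] at h; omega), if_neg (by omega)]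
  · rw [hs.sol_uni (huni (i := 2) h) (fun e => by rw [e, orderOf_one] at h; omega), if_pos h]
  · refine hs.sol_spl ((hodd h1 (hs.odd_of_dvd hd)).resolve_left fun e => h1 ?_)
    rcases hs.card_centralizer_ell e with h | h
    · exact hone hc12 hd (h ▸ hell h1 e)
    · exact hone hc13 hd (h ▸ hell h1 e)
  · have e := (hodd h1 (Odd.of_dvd_nat (Nat.odd_mul.mp hQodd).1 hd)).resolve_right fun e =>
      h1 (hone hc12 (orderOf_dvd_of_pow_eq_one (hs.spl_pow e)) hd)
    rw [hs.sol_ell e]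
    rcases hs.card_centralizer_ell e with h | h
    · rw [h]
    · exact absurd (hone hc23 hd (h ▸ hell h1 e)) h1
  · have e := (hodd h1 (Odd.of_dvd_nat (Nat.odd_mul.mp hQodd).2 hd)).resolve_right fun e =>
      h1 (hone hc13 (orderOf_dvd_of_pow_eq_one (hs.spl_pow e)) hd)
    rw [hs.sol_ell e]
    rcases hs.card_centralizer_ell e with h | h
    · exact absurd (hone hc23 (h ▸ hell h1 e) hd) h1
    · rw [h]

end SzHyp

end Cfsg.Agent.Suzuki
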