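import Cfsg.Agent.Lib.Suzuki.Eigen
import Mathlib.GroupTheory.GroupAction.CardCommute
import Mathlib.GroupTheory.Perm.Cycle.Type

/-!
The cyclic tori of orders q + θ + 1 and q - θ + 1 of the Suzuki groups, their normalisers, and the
trichotomy of the elements by fixed points on the ovoid.
-/

set_option autoImplicit false

open Matrix

namespace Cfsg.Agent.Suzuki

variable {F : Type*} [Field F] [Fintype F] {m : ℕ}

local notation "Q" => 2 ^ (2 * m + 1)
local notation "θ" => 2 ^ (m + 1)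

theorem ab_mixed {A B u v : ℕ} (hu : 0 < u) (hv : 0 < v) (hu' : u ≤ A) (hv' : v ≤ B)
    (h : A * B * (u + v) = (A + B) * (u * v)) : u = A ∧ v = B := by
  have hA : 0 < A := by omega
  have hB : 0 < B := by omega
  have e1 := Nat.mul_le_mul_left (A * u) hv'
  have e2 := Nat.mul_le_mul_left (B * v) hu'
  have h' : A * u * B + B * v * A = A * u * v + B * v * u := by linear_combination h
  exact ⟨Nat.eq_of_mul_eq_mul_left (Nat.mul_pos hB hv) (by omega),
    Nat.eq_of_mul_eq_mul_left (Nat.mul_pos hA hu) (by omega)⟩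

theorem ab_same_small {A B u v : ℕ} (hu : 0 < u) (hv : 0 < v) (hAB : B < A) (hu' : u ≤ B) (hv' : v ≤ B)
    (h : A * B * (u + v) = (A + B) * (u * v)) : False := by
  have e1 := Nat.mul_le_mul_left (A * u) hv'
  have e2 := Nat.mul_le_mul_left (A * v) hu'
  have e3 := Nat.mul_lt_mul_of_pos_right hAB (Nat.mul_pos hu hv)
  have h' : A * u * B + A * v * B = A * u * v + B * (u * v) := by linear_combination h
  rw [show A * v * u = A * u * v by ring] at e2
  rw [show A * (u * v) = A * u * v by ring] at e3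
  omega

theorem ab_same_big {A B u v : ℕ} (hA : 0 < A) (hu : 5 ≤ u) (hv : 5 ≤ v) (h4 : A < 4 * B) (hAB : B < A)
    (hu' : u = A ∨ 5 * u ≤ A) (hv' : v = A ∨ 5 * v ≤ A) (h : A * B * (u + v) = (A + B) * (u * v)) : False := by
  have key : ∀ {x y : ℕ}, 5 * x ≤ A → 0 < x → 0 < y → A * B * (x + y) = (A + B) * (x * y) → False := by
    intro x y hx hx0 hy0 h
    have e1 := Nat.mul_le_mul_left (B * y) hx
    have e2 := Nat.mul_lt_mul_of_pos_right h4 (Nat.mul_pos hx0 hy0)
    have e3 : A * B * y ≤ A * B * (x + y) := Nat.mul_le_mul_left _ (by omega)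
    rw [h] at e3
    nlinarith [e1, e2, e3]
  rcases hu' with rfl | hu'
  · rcases hv' with rfl | hv'
    · have : v * v * (2 * B) = v * v * (v + B) := by linear_combination h
      have := Nat.eq_of_mul_eq_mul_left (Nat.mul_pos hA hA) this
      omega
    · exact key hv' (by omega) hA (by linear_combination h)
  · exact key hu' (by omega) (by omega) h

namespace SzHyp

variable (hs : SzHyp F m)

include hs

theorem arith : θ ^ 2 = 2 * Q ∧ θ + 4 ≤ Q ∧ 4 ≤ θ ∧ 8 ≤ Q ∧ Q % 3 = 2 ∧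
    (Q + θ + 1) * (Q - θ + 1) = Q ^ 2 + 1 := by
  have hm := hs.hm
  have hT : 4 ≤ θ := by
    calc 4 = 2 ^ 2 := by norm_num
      _ ≤ θ := Nat.pow_le_pow_right two_pos (by omega)
  have hsq : θ ^ 2 = 2 * Q := by rw [← pow_mul, ← pow_succ']; congr 1; ring
  have hle : 2 * θ ≤ Q := by
    rw [← pow_succ']
    exact Nat.pow_le_pow_right two_pos (by omega)
  have h3 : Q % 3 = 2 := by
    rw [pow_succ, pow_mul, Nat.mul_mod, Nat.pow_mod]
    norm_num
  refine ⟨hsq, by omega, hT, by omega, h3, ?_⟩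
  obtain ⟨k, hk⟩ := Nat.exists_eq_add_of_le (show θ ≤ Q by omega)
  rw [hk, Nat.add_sub_cancel_left]
  rw [hk] at hsq
  nlinarith [hsq]

theorem no_three : ¬ 3 ∣ Nat.card ↥(Cfsg.Sz F m) := by
  obtain ⟨-, -, -, h8, h3, -⟩ := hs.arith
  rw [hs.card_sz, Nat.prime_three.dvd_mul, Nat.prime_three.dvd_mul]
  rintro ((h | h) | h)
  · have := Nat.prime_three.dvd_of_dvd_pow h
    omega
  · rw [Nat.dvd_iff_mod_eq_zero, Nat.add_mod, Nat.pow_mod, h3] at h
    norm_num at h
  · omega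

/-- The matrix over the algebraic closure. -/
noncomputable def tK (_ : SzHyp F m) (g : ↥(Cfsg.Sz F m)) : Matrix (Fin 4) (Fin 4) (AlgebraicClosure F) :=
  ((g : Matrix.SpecialLinearGroup (Fin 4) F) : Matrix (Fin 4) (Fin 4) F).map (algebraMap F (AlgebraicClosure F))

theorem tK_mul (g h : ↥(Cfsg.Sz F m)) : hs.tK (g * h) = hs.tK g * hs.tK h := Matrix.map_mul

theorem tK_one : hs.tK (1 : ↥(Cfsg.Sz F m)) = 1 := Matrix.map_one _ (map_zero _) (map_one _)

theorem tK_pow (g : ↥(Cfsg.Sz F m)) (n : ℕ) : hs.tK (g ^ n) = hs.tK g ^ n := by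
  induction n with
  | zero => rw [pow_zero, pow_zero, hs.tK_one]
  | succ n ih => rw [pow_succ, pow_succ, hs.tK_mul, ih]

theorem tK_inj {g h : ↥(Cfsg.Sz F m)} (e : hs.tK g = hs.tK h) : g = h :=
  Subtype.ext (Subtype.ext (Matrix.map_injective (FaithfulSMul.algebraMap_injective _ _) e))

theorem charK : CharP (AlgebraicClosure F) 2 := by
  haveI : CharP F 2 := CharTwo.of_one_ne_zero_of_two_eq_zero one_ne_zero hs.two_eq_zero
  exact charP_of_injective_algebraMap (FaithfulSMul.algebraMap_injective F (AlgebraicClosure F)) 2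

theorem tK_fixed (g : ↥(Cfsg.Sz F m)) (i j : Fin 4) : hs.tK g i j ^ Q = hs.tK g i j := by
  show (algebraMap F (AlgebraicClosure F) _) ^ Q = _
  rw [← map_pow, ← hs.card, FiniteField.pow_card]
  rfl

theorem odd_cases {g : ↥(Cfsg.Sz F m)} (ho : Odd (orderOf g)) :
    g ^ (Q - 1) = 1 ∨ g ^ (Q + θ + 1) = 1 ∨ g ^ (Q - θ + 1) = 1 := by
  haveI := hs.charK
  obtain ⟨hsq, -⟩ := hs.arith
  set M := ((g : Matrix.SpecialLinearGroup (Fin 4) F) : Matrix (Fin 4) (Fin 4) F) with hM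
  have hform : M.transpose * Cfsg.suzukiForm F * M = Cfsg.suzukiForm F := hs.form_preserved g.2
  have hJ : Cfsg.suzukiForm F * Cfsg.suzukiForm F = 1 := by
    ext i j
    fin_cases i <;> fin_cases j <;> simp [Cfsg.suzukiForm, Matrix.mul_apply, Fin.sum_univ_succ]
  have hrow : M * Cfsg.suzukiForm F * M.transpose = Cfsg.suzukiForm F := by
    have h1 : (Cfsg.suzukiForm F * M.transpose * Cfsg.suzukiForm F) * M = 1 := by
      rw [mul_assoc (Cfsg.suzukiForm F), mul_assoc (Cfsg.suzukiForm F), hform, hJ]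
    have h2 := mul_eq_one_comm.mp h1
    calc M * Cfsg.suzukiForm F * M.transpose
        = M * (Cfsg.suzukiForm F * M.transpose * Cfsg.suzukiForm F) * Cfsg.suzukiForm F := by
          simp only [mul_assoc, hJ, mul_one]
      _ = _ := by rw [h2, one_mul]
  have res := eigen_cases (T := hs.tK g) (m := m) hs.hm (fun x => by rw [← pow_mul, ← sq θ, hsq, ← pow_mul, mul_comm Q 2])
    (hs.tK_fixed g) ?_ ?_ ?_ ho (by rw [← hs.tK_pow, pow_orderOf_eq_one, hs.tK_one])
    (fun h => hs.no_three (h.trans (orderOf_dvd_natCard g)))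
  · have back : ∀ n, hs.tK g ^ n = 1 → g ^ n = 1 := fun n h => hs.tK_inj (by rw [hs.tK_pow, h, hs.tK_one])
    exact res.imp (back _) (Or.imp (back _) (back _))
  · intro u v
    have e : ∀ i j, (Cfsg.suzukiForm (AlgebraicClosure F)) i j =
        algebraMap F (AlgebraicClosure F) (Cfsg.suzukiForm F i j) := by
      intro i j; fin_cases i <;> fin_cases j <;> simp [Cfsg.suzukiForm]
    have hbf : ∀ a b : Fin 4 → AlgebraicClosure F, bf a b = a ⬝ᵥ (Cfsg.suzukiForm (AlgebraicClosure F) *ᵥ b) := by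
      intro a b
      simp [bf, Cfsg.suzukiForm, Matrix.mulVec, dotProduct, Fin.sum_univ_four]
    have hK : (hs.tK g).transpose * Cfsg.suzukiForm (AlgebraicClosure F) * hs.tK g =
        Cfsg.suzukiForm (AlgebraicClosure F) := by
      rw [show Cfsg.suzukiForm (AlgebraicClosure F) = (Cfsg.suzukiForm F).map (algebraMap F (AlgebraicClosure F)) from
        Matrix.ext fun i j => e i j]
      rw [tK, ← Matrix.transpose_map, ← Matrix.map_mul, ← Matrix.map_mul]
      exact congrArg (fun A : Matrix (Fin 4) (Fin 4) F => A.map (algebraMap F (AlgebraicClosure F))) hform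
    rw [hbf, hbf, Matrix.mulVec_mulVec, Matrix.dotProduct_mulVec, ← Matrix.vecMul_transpose, Matrix.vecMul_vecMul,
      ← Matrix.mul_assoc, hK, ← Matrix.dotProduct_mulVec]
  · intro p
    have h0 : Cfsg.suzukiForm F (Cfsg.Lie.pairOf p).1 (Cfsg.Lie.pairOf p).2 = 0 := by
      fin_cases p <;> simp [Cfsg.suzukiForm, Cfsg.Lie.pairOf]
    have := congrArg (algebraMap F (AlgebraicClosure F))
      ((congrFun (congrFun hrow (Cfsg.Lie.pairOf p).1) (Cfsg.Lie.pairOf p).2).trans h0)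
    generalize (Cfsg.Lie.pairOf p).1 = k at *
    generalize (Cfsg.Lie.pairOf p).2 = l at *
    simp [Matrix.mul_apply, Fin.sum_univ_four, Cfsg.suzukiForm] at this
    simp only [tK, Matrix.map_apply, ← hM]
    linear_combination this
  · ext p r
    have h : Cfsg.Lie.star4 M p r = sg m (M p r) := congrFun (congrFun (hs.good_of_mem g).1.2 p) r
    show Cfsg.Lie.star4 (hs.tK g) p r = (algebraMap F (AlgebraicClosure F) (M p r)) ^ θ
    rw [← map_pow, show M p r ^ θ = sg m (M p r) from rfl, ← h]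
    simp [tK, Cfsg.Lie.star4, hM]

/-- The action on the points of the ovoid. -/
theorem card_omega : Nat.card ↥(Cfsg.suzukiOvoid F m) = Q ^ 2 + 1 := by rw [card_ovoid, hs.card_eq]

theorem stab_omega (p : ↥(Cfsg.suzukiOvoid F m)) :
    Nat.card ↥(MulAction.stabilizer (↥(Cfsg.Sz F m)) p) = Q ^ 2 * (Q - 1) := by
  haveI : MulAction.IsMultiplyPretransitive (↥(Cfsg.Sz F m)) (↥(Cfsg.suzukiOvoid F m)) 2 := hs.isMultiplyPretransitive
  haveI : MulAction.IsPretransitive (↥(Cfsg.Sz F m)) (↥(Cfsg.suzukiOvoid F m)) :=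
    MulAction.isPretransitive_of_is_two_pretransitive
  have h := Subgroup.card_mul_index (MulAction.stabilizer (↥(Cfsg.Sz F m)) p)
  rw [MulAction.index_stabilizer_of_transitive, hs.card_omega, hs.card_sz] at h
  exact Nat.eq_of_mul_eq_mul_right (by positivity : 0 < Q ^ 2 + 1) (by rw [h]; ring)

theorem stab_pair {p r : ↥(Cfsg.suzukiOvoid F m)} (hne : p ≠ r) :
    Nat.card {g : ↥(Cfsg.Sz F m) // g • p = p ∧ g • r = r} = Q - 1 := by
  obtain ⟨k, kp, kr⟩ := hs.exists_move p.2 r.2 (fun e => hne (Subtype.ext e))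
  have h0 : ∀ s : Fˣ, hs.dS s • ptSz m (0 : F) 0 = ptSz m 0 0 := fun s => by
    rw [Subgroup.smul_def]
    show dG m s • ptSz m (0 : F) 0 = _
    rw [hs.dG_point, mul_zero, mul_zero]
  have e1 : ∀ (s : Fˣ), (k⁻¹ * hs.dS s * k) • p = p := fun s => Subtype.ext (by
    rw [hs.coe_smul', mul_smul, mul_smul, kp,
      show hs.dS s • Cfsg.suzukiPointInfinity F = Cfsg.suzukiPointInfinity F from dG_infty s, ← kp, inv_smul_smul])
  have e2 : ∀ (s : Fˣ), (k⁻¹ * hs.dS s * k) • r = r := fun s => Subtype.ext (by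
    rw [hs.coe_smul', mul_smul, mul_smul, kr, h0, ← kr, inv_smul_smul])
  let f : Fˣ → {g : ↥(Cfsg.Sz F m) // g • p = p ∧ g • r = r} := fun s => ⟨k⁻¹ * hs.dS s * k, e1 s, e2 s⟩
  have hf : Function.Bijective f := by
    constructor
    · intro s t e
      have := mul_left_cancel (mul_right_cancel (congrArg Subtype.val e))
      exact hs.dG_injective (congrArg Subtype.val this)
    · rintro ⟨g, gp, gr⟩
      have gp' : g • (p : Projectivization F (Fin 4 → F)) = p := congrArg Subtype.val gp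
      have gr' : g • (r : Projectivization F (Fin 4 → F)) = r := congrArg Subtype.val gr
      obtain ⟨s, e⟩ := hs.exists_dG (k * g * k⁻¹).2
        (show (k * g * k⁻¹) • Cfsg.suzukiPointInfinity F = _ by
          rw [← kp, mul_smul, mul_smul, inv_smul_smul, gp'])
        (show (k * g * k⁻¹) • ptSz m (0 : F) 0 = _ by rw [← kr, mul_smul, mul_smul, inv_smul_smul, gr'])
      refine ⟨s, Subtype.ext ?_⟩
      show k⁻¹ * hs.dS s * k = g
      rw [show hs.dS s = k * g * k⁻¹ from Subtype.ext e.symm]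
      group
  rw [← Nat.card_congr (Equiv.ofBijective f hf), Nat.card_units, hs.card_eq]

theorem fix_le {g : ↥(Cfsg.Sz F m)} (hg : g ≠ 1) {a b c : ↥(Cfsg.suzukiOvoid F m)} (ha : g • a = a) (hb : g • b = b)
    (hc : g • c = c) : a = b ∨ b = c ∨ a = c := by
  by_contra h
  push Not at h
  exact hg (hs.fix_three a.2 b.2 c.2 (fun e => h.1 (Subtype.ext e)) (fun e => h.2.1 (Subtype.ext e))
    (fun e => h.2.2 (Subtype.ext e)) (congrArg Subtype.val ha) (congrArg Subtype.val hb) (congrArg Subtype.val hc))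

/-- An element of odd order permuting at most two points fixes them. -/
theorem fix_of_commute {g h : ↥(Cfsg.Sz F m)} (ho : Odd (orderOf g)) (h1 : h ≠ 1) (hc : Commute g h)
    {p : ↥(Cfsg.suzukiOvoid F m)} (hp : h • p = p) : g • p = p := by
  have hmove : ∀ x : ↥(Cfsg.suzukiOvoid F m), h • x = x → h • (g • x) = g • x := fun x hx => by
    rw [← mul_smul, ← hc.eq, mul_smul, hx]
  rcases hs.fix_le h1 hp (hmove p hp) (hmove _ (hmove p hp)) with e | e | e
  · exact e.symm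
  · exact MulAction.injective g e.symm
  · obtain ⟨k, hk⟩ := ho
    have h2 : (g ^ 2) • p = p := by rw [sq, mul_smul]; exact e.symm
    have h2k : ∀ j : ℕ, ((g ^ 2) ^ j) • p = p := fun j => by
      induction j with
      | zero => simp
      | succ j ih => rw [pow_succ, mul_smul, h2, ih]
    have := congrArg (· • p) (pow_orderOf_eq_one g)
    simp only [one_smul] at this
    rw [hk, pow_succ', mul_smul, pow_mul, h2k] at this
    exact this

theorem coprime_point : Nat.Coprime (Q ^ 2 + 1) (Q ^ 2 * (Q - 1)) := by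
  refine Nat.Coprime.mul_right ?_ (coprime_sq_add_one_pred (dvd_pow_self 2 (by omega)))
  exact (Nat.coprime_self_add_left).mpr (Nat.coprime_one_left _)

theorem not_elliptic_of_fix {g : ↥(Cfsg.Sz F m)} (hg : g ≠ 1) (h : g ^ (Q ^ 2 + 1) = 1)
    (p : ↥(Cfsg.suzukiOvoid F m)) : g • p ≠ p := by
  intro hp
  have h1 : orderOf g ∣ Q ^ 2 * (Q - 1) := by
    rw [← hs.stab_omega p]
    exact (Subgroup.orderOf_mk (H := MulAction.stabilizer (↥(Cfsg.Sz F m)) p) g hp) ▸ orderOf_dvd_natCard (⟨g, hp⟩ : ↥(MulAction.stabilizer (↥(Cfsg.Sz F m)) p))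
  have := Nat.dvd_gcd (orderOf_dvd_of_pow_eq_one h) h1
  rw [hs.coprime_point, Nat.dvd_one] at this
  exact hg (orderOf_eq_one_iff.mp this)

theorem elliptic_of_no_fix {g : ↥(Cfsg.Sz F m)} (hno : ∀ p : ↥(Cfsg.suzukiOvoid F m), g • p ≠ p) :
    g ≠ 1 ∧ Odd (orderOf g) ∧ g ^ (Q ^ 2 + 1) = 1 ∧ (g ^ (Q + θ + 1) = 1 ∨ g ^ (Q - θ + 1) = 1) := by
  haveI := Fact.mk Nat.prime_two
  have hg : g ≠ 1 := fun e => hno (infPt F m) (by rw [e, one_smul])
  have hpos : 0 < orderOf g := orderOf_pos g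
  have hodd : Odd (orderOf g) := by
    by_contra he
    obtain ⟨j, hj⟩ := Nat.not_odd_iff_even.mp he
    have hu : orderOf (g ^ j) = 2 := by
      rw [orderOf_pow' _ (by omega), hj, ← two_mul, Nat.gcd_mul_left_left]
      exact Nat.mul_div_cancel _ (by omega)
    have hu1 : g ^ j ≠ 1 := fun e => by rw [e, orderOf_one] at hu; omega
    have hp : IsPGroup 2 ↥(Subgroup.zpowers (g ^ j)) := IsPGroup.of_card (n := 1) (by rw [Nat.card_zpowers, hu, pow_one])
    obtain ⟨P, hP⟩ := hp.exists_le_sylow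
    obtain ⟨k, hk⟩ := hs.exists_conj P
    obtain ⟨t, ⟨a, b, rfl⟩, ht⟩ := Subgroup.mem_map.mp (hk.symm ▸ hP (Subgroup.mem_zpowers (g ^ j)))
    have ht1 : hs.tS a b ≠ 1 := fun e => hu1 (by rw [← ht, e, map_one])
    have hfix : (g ^ j) • (k • infPt F m) = k • infPt F m := by
      rw [← ht]
      show (k * hs.tS a b * k⁻¹) • (k • infPt F m) = _
      rw [mul_smul, mul_smul, inv_smul_smul]
      exact congrArg _ (Subtype.ext (tG_infty a b))
    have huniq : ∀ x, (g ^ j) • x = x → x = k • infPt F m := fun x hx => by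
      rw [← ht] at hx
      have hx' : hs.tS a b • (k⁻¹ • x) = k⁻¹ • x := by
        have := congrArg (k⁻¹ • ·) hx
        simpa [mul_smul] using this
      rw [← inv_smul_eq_iff]
      exact Subtype.ext (hs.fix_of_tS ht1 (k⁻¹ • x).2 (congrArg Subtype.val hx'))
    refine hno _ (huniq _ ?_)
    rw [← mul_smul, ← (Commute.self_pow g j).eq, mul_smul, hfix]
  rcases hs.odd_cases hodd with h | h | h
  · exfalso
    obtain ⟨p, hp, hpd⟩ := Nat.exists_prime_and_dvd (fun e => hg (orderOf_eq_one_iff.mp e))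
    haveI := Fact.mk hp
    have hp2 : p ≠ 2 := by
      rintro rfl
      exact (Nat.not_even_iff_odd.mpr hodd) (even_iff_two_dvd.mpr hpd)
    have hu : orderOf (g ^ (orderOf g / p)) = p := orderOf_pow_orderOf_div hpos.ne' hpd
    have hu1 : g ^ (orderOf g / p) ≠ 1 := fun e => by rw [e, orderOf_one] at hu; exact hp.one_lt.ne hu
    have hpgrp : IsPGroup p ↥(Subgroup.zpowers (g ^ (orderOf g / p))) :=
      IsPGroup.of_card (n := 1) (by rw [Nat.card_zpowers, hu, pow_one])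
    obtain ⟨x, hx⟩ := hpgrp.nonempty_fixed_point_of_prime_not_dvd_card ↥(Cfsg.suzukiOvoid F m) (by
      rw [hs.card_omega]
      intro hd
      have hd' : p ∣ Q - 1 := (hpd.trans (orderOf_dvd_of_pow_eq_one h))
      have hg2 := Nat.dvd_gcd hd hd'
      rw [coprime_sq_add_one_pred (dvd_pow_self 2 (by omega))] at hg2
      exact hp.not_dvd_one hg2)
    exact hno x (hs.fix_of_commute hodd hu1 (Commute.self_pow g _) (hx ⟨_, Subgroup.mem_zpowers _⟩))
  all_goals
    refine ⟨hg, hodd, ?_, ?_⟩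
    · rw [← hs.arith.2.2.2.2.2]
      first
      | rw [pow_mul, h, one_pow]
      | rw [mul_comm, pow_mul, h, one_pow]
    · first | exact Or.inl h | exact Or.inr h

/-- Elements without fixed points on the ovoid. -/
def Ell (_ : SzHyp F m) (g : ↥(Cfsg.Sz F m)) : Prop := ∀ p : ↥(Cfsg.suzukiOvoid F m), g • p ≠ p

theorem ell_comm {g h : ↥(Cfsg.Sz F m)} (hg : hs.Ell g) (h1 : h ≠ 1) (hc : Commute g h) : hs.Ell h :=
  fun p hp => hg p (hs.fix_of_commute (hs.elliptic_of_no_fix hg).2.1 h1 hc hp)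

theorem centralizer_facts {g : ↥(Cfsg.Sz F m)} (hg : hs.Ell g) :
    IsCyclic ↥(Subgroup.centralizer ({g} : Set ↥(Cfsg.Sz F m))) ∧
    (Nat.card ↥(Subgroup.centralizer ({g} : Set ↥(Cfsg.Sz F m))) ∣ Q + θ + 1 ∨
      Nat.card ↥(Subgroup.centralizer ({g} : Set ↥(Cfsg.Sz F m))) ∣ Q - θ + 1) ∧
    (Subgroup.centralizer ({g} : Set ↥(Cfsg.Sz F m))).relIndex
      (Subgroup.normalizer (Subgroup.centralizer ({g} : Set ↥(Cfsg.Sz F m)) : Set ↥(Cfsg.Sz F m))) ≤ 4 := by
  classical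
  haveI := hs.charK
  set C := Subgroup.centralizer ({g} : Set ↥(Cfsg.Sz F m)) with hC
  obtain ⟨hg1, -, hgN, -⟩ := hs.elliptic_of_no_fix hg
  obtain ⟨l, v, hv0, hv, hconj, hinj, hli⟩ := conjugates (T := hs.tK g) (m := m) (hs.tK_fixed g)
    (by rw [← hs.tK_pow, hgN, hs.tK_one]) (fun e => hg1 (hs.tK_inj (e.trans hs.tK_one.symm)))
  set vi : Fin 4 → (Fin 4 → AlgebraicClosure F) := fun i j => v j ^ Q ^ (i : ℕ) with hvi
  have hspan : ⊤ ≤ Submodule.span (AlgebraicClosure F) (Set.range vi) :=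
    (hli.span_eq_top_of_card_eq_finrank (by rw [Fintype.card_fin, Module.finrank_fin_fun])).ge
  have heigen : ∀ (r : AlgebraicClosure F) u, u ≠ 0 → hs.tK g *ᵥ u = r • u →
      ∃ i : Fin 4, r = l ^ Q ^ (i : ℕ) ∧ ∃ c : AlgebraicClosure F, u = c • vi i := by
    intro r u hu he
    obtain ⟨c, hc⟩ := (Submodule.mem_span_range_iff_exists_fun _).mp (hspan (Submodule.mem_top (x := u)))
    have h2 : ∑ i, (c i * (l ^ Q ^ (i : ℕ) - r)) • vi i = 0 := by
      have : hs.tK g *ᵥ u = r • u := he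
      rw [← hc, Matrix.mulVec_sum, Finset.smul_sum] at this
      rw [← sub_eq_zero] at this
      rw [← this, ← Finset.sum_sub_distrib]
      refine Finset.sum_congr rfl fun i _ => ?_
      rw [Matrix.mulVec_smul, hconj i, smul_smul, smul_smul, mul_sub, sub_smul, mul_comm r]
    have h3 := Fintype.linearIndependent_iff.mp hli _ h2
    obtain ⟨i, hi⟩ : ∃ i, c i ≠ 0 := by
      by_contra hn
      push Not at hn
      exact hu (hc.symm.trans (Finset.sum_eq_zero fun i _ => by rw [hn i, zero_smul]))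
    have hr : r = l ^ Q ^ (i : ℕ) := (sub_eq_zero.mp ((mul_eq_zero.mp (h3 i)).resolve_left hi)).symm
    refine ⟨i, hr, c i, ?_⟩
    rw [← hc]
    refine Finset.sum_eq_single i (fun j _ hj => ?_) (fun h => absurd (Finset.mem_univ i) h)
    rw [(mul_eq_zero.mp (h3 j)).resolve_right (sub_ne_zero.mpr (fun e => hj (hinj (e.trans hr)))), zero_smul]
  have hv' : vi 0 = v := funext fun j => by simp [hvi]
  have hsc : ∀ x : ↥C, ∃ s : AlgebraicClosure F, hs.tK x.1 *ᵥ v = s • v := by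
    intro x
    by_cases h0 : hs.tK x.1 *ᵥ v = 0
    · exact ⟨0, by rw [h0, zero_smul]⟩
    have hx : g * x.1 = x.1 * g := Subgroup.mem_centralizer_singleton_iff.mp x.2 |>.symm
    have he : hs.tK g *ᵥ (hs.tK x.1 *ᵥ v) = l • (hs.tK x.1 *ᵥ v) := by
      rw [Matrix.mulVec_mulVec, ← hs.tK_mul, hx, hs.tK_mul, ← Matrix.mulVec_mulVec, hv, Matrix.mulVec_smul]
    obtain ⟨i, hi, c, hc⟩ := heigen l _ h0 he
    have : i = 0 := hinj (by simpa using hi.symm)
    rw [this, hv'] at hc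
    exact ⟨c, hc⟩
  choose χ hχ using hsc
  have huniq : ∀ {s t : AlgebraicClosure F}, s • v = t • v → s = t := fun h => smul_left_injective _ hv0 h
  let f : ↥C →* AlgebraicClosure F :=
    { toFun := χ
      map_one' := huniq (by rw [← hχ, show ((1 : ↥C) : ↥(Cfsg.Sz F m)) = 1 from rfl, hs.tK_one, Matrix.one_mulVec, one_smul])
      map_mul' := fun x y => huniq (by
        rw [← hχ, show ((x * y : ↥C) : ↥(Cfsg.Sz F m)) = x.1 * y.1 from rfl, hs.tK_mul, ← Matrix.mulVec_mulVec, hχ,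
          Matrix.mulVec_smul, hχ, smul_smul, mul_comm]) }
  have hker : ∀ x : ↥C, χ x = 1 → x = 1 := by
    intro x hx
    have hfix : ∀ i : Fin 4, hs.tK x.1 *ᵥ vi i = vi i := by
      intro i
      funext r
      have := congrArg (iterateFrobenius (AlgebraicClosure F) 2 ((2 * m + 1) * (i : ℕ))) (congrFun (hχ x) r)
      simp only [hx, one_smul, Matrix.mulVec, dotProduct, map_sum, map_mul, iterateFrobenius_def, pow_mul] at this
      simp only [Matrix.mulVec, dotProduct, hvi]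
      rw [← this]
      refine Finset.sum_congr rfl fun j _ => ?_
      congr 1
      have : ∀ n : ℕ, hs.tK x.1 r j ^ Q ^ n = hs.tK x.1 r j := fun n => by
        induction n with
        | zero => simp
        | succ n ih => rw [pow_succ, pow_mul, ih, hs.tK_fixed]
      exact (this i).symm
    refine Subtype.ext (hs.tK_inj (Eq.trans ?_ hs.tK_one.symm))
    refine Matrix.ext_iff_mulVec.mpr fun u => ?_
    obtain ⟨c, hc⟩ := (Submodule.mem_span_range_iff_exists_fun _).mp (hspan (Submodule.mem_top (x := u)))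
    rw [Matrix.one_mulVec, ← hc, Matrix.mulVec_sum]
    exact Finset.sum_congr rfl fun i _ => by rw [Matrix.mulVec_smul, hfix]
  have hf : Function.Injective f := (injective_iff_map_eq_one f).mpr hker
  haveI hcyc : IsCyclic ↥C := isCyclic_of_injective_ringHom f hf
  refine ⟨hcyc, ?_, ?_⟩
  · obtain ⟨x, hx⟩ := IsCyclic.exists_ofOrder_eq_natCard (α := ↥C)
    rw [← hx, ← Subgroup.orderOf_coe]
    rcases eq_or_ne x.1 1 with e | e
    · rw [e, orderOf_one]; exact Or.inl (one_dvd _)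
    · have := (hs.elliptic_of_no_fix (hs.ell_comm hg e (Subgroup.mem_centralizer_singleton_iff.mp x.2).symm)).2.2.2
      exact this.imp orderOf_dvd_of_pow_eq_one orderOf_dvd_of_pow_eq_one
  · set N := Subgroup.normalizer (C : Set ↥(Cfsg.Sz F m)) with hN
    have hgC : g ∈ C := Subgroup.mem_centralizer_singleton_iff.mpr rfl
    have hmem : ∀ x : ↥N, x.1 * g * x.1⁻¹ ∈ C := fun x => (Subgroup.mem_normalizer_iff.mp x.2 g).mp hgC
    have hidx : ∀ x : ↥N, ∃ i : Fin 4, χ ⟨_, hmem x⟩ = l ^ Q ^ (i : ℕ) := by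
      intro x
      have he : hs.tK g *ᵥ (hs.tK x.1⁻¹ *ᵥ v) = χ ⟨_, hmem x⟩ • (hs.tK x.1⁻¹ *ᵥ v) := by
        rw [Matrix.mulVec_mulVec, ← hs.tK_mul, show g * x.1⁻¹ = x.1⁻¹ * (x.1 * g * x.1⁻¹) by group, hs.tK_mul,
          ← Matrix.mulVec_mulVec, hχ ⟨_, hmem x⟩, Matrix.mulVec_smul]
      obtain ⟨i, hi, -⟩ := heigen _ _ (fun h0 => hv0 (by
        have := congrArg (hs.tK x.1 *ᵥ ·) h0
        rwa [Matrix.mulVec_mulVec, ← hs.tK_mul, mul_inv_cancel, hs.tK_one, Matrix.one_mulVec, Matrix.mulVec_zero] at this)) he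
      exact ⟨i, hi⟩
    choose idx hidx using hidx
    have hclass : ∀ x y : ↥N, idx x = idx y → (QuotientGroup.mk x : ↥N ⧸ C.subgroupOf N) = QuotientGroup.mk y := by
      intro x y e
      have := hf (show f ⟨_, hmem x⟩ = f ⟨_, hmem y⟩ from ((hidx x).trans (by rw [e])).trans (hidx y).symm)
      have h2 : x.1 * g * x.1⁻¹ = y.1 * g * y.1⁻¹ := congrArg Subtype.val this
      rw [QuotientGroup.eq, Subgroup.mem_subgroupOf, Subgroup.coe_mul, Subgroup.coe_inv,
        Subgroup.mem_centralizer_singleton_iff]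
      calc x.1⁻¹ * y.1 * g = x.1⁻¹ * (y.1 * g * y.1⁻¹) * y.1 := by group
        _ = x.1⁻¹ * (x.1 * g * x.1⁻¹) * y.1 := by rw [h2]
        _ = g * (x.1⁻¹ * y.1) := by group
    show (C.subgroupOf N).index ≤ 4
    rw [Subgroup.index]
    refine le_of_le_of_eq (Nat.card_le_card_of_injective (fun q => idx q.out) fun a b e => ?_) (Nat.card_fin 4)
    rw [← QuotientGroup.out_eq' a, ← QuotientGroup.out_eq' b]
    exact hclass _ _ e

theorem centralizer_eq {g h : ↥(Cfsg.Sz F m)} (hg : hs.Ell g)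
    (hh : h ∈ Subgroup.centralizer ({g} : Set ↥(Cfsg.Sz F m))) (h1 : h ≠ 1) :
    hs.Ell h ∧ Subgroup.centralizer ({h} : Set ↥(Cfsg.Sz F m)) = Subgroup.centralizer {g} := by
  have hE : hs.Ell h := hs.ell_comm hg h1 (Subgroup.mem_centralizer_singleton_iff.mp hh).symm
  refine ⟨hE, ?_⟩
  have key : ∀ {a b : ↥(Cfsg.Sz F m)}, hs.Ell a → b ∈ Subgroup.centralizer ({a} : Set ↥(Cfsg.Sz F m)) →
      Subgroup.centralizer ({a} : Set ↥(Cfsg.Sz F m)) ≤ Subgroup.centralizer {b} := by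
    intro a b ha hb x hx
    haveI := (hs.centralizer_facts ha).1
    letI := IsCyclic.commGroup (α := ↥(Subgroup.centralizer ({a} : Set ↥(Cfsg.Sz F m))))
    exact Subgroup.mem_centralizer_singleton_iff.mpr
      (congrArg Subtype.val (mul_comm (⟨x, hx⟩ : ↥(Subgroup.centralizer ({a} : Set ↥(Cfsg.Sz F m)))) ⟨b, hb⟩))
  exact le_antisymm (key hE (Subgroup.mem_centralizer_singleton_iff.mpr (Subgroup.mem_centralizer_singleton_iff.mp hh).symm))
    (key hg hh)

theorem index_cases {g : ↥(Cfsg.Sz F m)} (hg : hs.Ell g) :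
    ∃ k ∈ ({1, 2, 4} : Finset ℕ),
      Nat.card ↥(Subgroup.normalizer (Subgroup.centralizer ({g} : Set ↥(Cfsg.Sz F m)) : Set ↥(Cfsg.Sz F m))) =
        k * Nat.card ↥(Subgroup.centralizer ({g} : Set ↥(Cfsg.Sz F m))) := by
  set C := Subgroup.centralizer ({g} : Set ↥(Cfsg.Sz F m))
  set N := Subgroup.normalizer (C : Set ↥(Cfsg.Sz F m))
  have h4 : C.relIndex N ≤ 4 := (hs.centralizer_facts hg).2.2
  have hmul := Subgroup.card_mul_index (C.subgroupOf N)
  rw [Nat.card_congr (Subgroup.subgroupOfEquivOfLe (Subgroup.le_normalizer (H := C))).toEquiv] at hmul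
  refine ⟨C.relIndex N, ?_, by rw [← hmul, mul_comm]; rfl⟩
  have hd : C.relIndex N ∣ Nat.card ↥(Cfsg.Sz F m) :=
    (Subgroup.index_dvd_card (C.subgroupOf N)).trans (Subgroup.card_subgroup_dvd_card N)
  have h0 : C.relIndex N ≠ 0 := Subgroup.index_ne_zero_of_finite
  have h3 : C.relIndex N ≠ 3 := fun e => hs.no_three (e ▸ hd)
  simp only [Finset.mem_insert, Finset.mem_singleton]
  omega

theorem card_fixing : 2 * Nat.card {g : ↥(Cfsg.Sz F m) // hs.Ell g} = Q ^ 3 * (Q - 1) ^ 2 := by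
  classical
  haveI : Fintype ↥(Cfsg.suzukiOvoid F m) := Fintype.ofFinite _
  haveI : Fintype ↥(Cfsg.Sz F m) := Fintype.ofFinite _
  let Ω := ↥(Cfsg.suzukiOvoid F m)
  let fx : ↥(Cfsg.Sz F m) → Finset Ω := fun g => Finset.univ.filter fun p => g • p = p
  set S : Finset ↥(Cfsg.Sz F m) := Finset.univ.erase 1
  have hn : Fintype.card Ω = Q ^ 2 + 1 := by rw [← Nat.card_eq_fintype_card]; exact hs.card_omega
  have s1 : ∑ g ∈ S, (fx g).card = (Q ^ 2 + 1) * (Q ^ 2 * (Q - 1) - 1) := by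
    have e : ∀ g, (fx g).card = ∑ p : Ω, if g • p = p then 1 else 0 := fun g => by
      rw [Finset.sum_boole, Nat.cast_id]
    simp only [e]
    rw [Finset.sum_comm]
    have e2 : ∀ p : Ω, (∑ g ∈ S, if g • p = p then 1 else 0) = Q ^ 2 * (Q - 1) - 1 := by
      intro p
      rw [Finset.sum_boole, Nat.cast_id, ← hs.stab_omega p, Nat.card_eq_fintype_card, Fintype.card_subtype,
        show S.filter (fun g => g • p = p) = (Finset.univ.filter fun g => g • p = p).erase 1 by
          simp [S, Finset.filter_erase],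
        Finset.card_erase_of_mem (by simp)]
      rfl
    simp only [e2, Finset.sum_const, Finset.card_univ, hn, smul_eq_mul]
  have s2 : ∑ g ∈ S, (fx g).offDiag.card = (Q ^ 2 + 1) * Q ^ 2 * (Q - 1 - 1) := by
    have e : ∀ g, (fx g).offDiag.card =
        ∑ z ∈ (Finset.univ : Finset Ω).offDiag, if g • z.1 = z.1 ∧ g • z.2 = z.2 then 1 else 0 := fun g => by
      rw [Finset.sum_boole, Nat.cast_id]
      refine congrArg Finset.card (Finset.ext fun z => ?_)
      simp only [fx, Finset.mem_offDiag, Finset.mem_filter, Finset.mem_univ, true_and]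
      tauto
    simp only [e]
    rw [Finset.sum_comm]
    have e2 : ∀ z ∈ (Finset.univ : Finset Ω).offDiag,
        (∑ g ∈ S, if g • z.1 = z.1 ∧ g • z.2 = z.2 then 1 else 0) = Q - 1 - 1 := by
      intro z hz
      rw [Finset.sum_boole, Nat.cast_id, ← hs.stab_pair (Finset.mem_offDiag.mp hz).2.2, Nat.card_eq_fintype_card,
        Fintype.card_subtype,
        show S.filter (fun g => g • z.1 = z.1 ∧ g • z.2 = z.2) =
          (Finset.univ.filter fun g => g • z.1 = z.1 ∧ g • z.2 = z.2).erase 1 by simp [S, Finset.filter_erase],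
        Finset.card_erase_of_mem (by simp)]
    rw [Finset.sum_congr rfl e2, Finset.sum_const, Finset.offDiag_card, Finset.card_univ, hn, smul_eq_mul]
    congr 1
    exact Nat.sub_eq_of_eq_add (by ring)
  have hle : ∀ g ∈ S, 2 * (fx g).card = 2 * (if hs.Ell g then 0 else 1) + (fx g).offDiag.card := by
    intro g hg
    have hg1 := (Finset.mem_erase.mp hg).1
    have h2 : (fx g).card ≤ 2 := by
      by_contra h
      obtain ⟨a, ha, b, hb, c, hc, hab, hac, hbc⟩ := Finset.two_lt_card.mp (not_le.mp h)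
      simp only [fx, Finset.mem_filter, Finset.mem_univ, true_and] at ha hb hc
      rcases hs.fix_le hg1 ha hb hc with e | e | e
      exacts [hab e, hbc e, hac e]
    have he : hs.Ell g ↔ (fx g).card = 0 := by
      rw [Finset.card_eq_zero, Finset.filter_eq_empty_iff]
      exact ⟨fun h p _ => h p, fun h p => h (Finset.mem_univ p)⟩
    rw [Finset.offDiag_card]
    rcases (show (fx g).card = 0 ∨ (fx g).card = 1 ∨ (fx g).card = 2 by omega) with h | h | h <;>
      simp [he, h]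
  have hsum := Finset.sum_congr rfl hle
  rw [← Finset.mul_sum, Finset.sum_add_distrib, ← Finset.mul_sum, s1, s2] at hsum
  have hne : ∑ g ∈ S, (if hs.Ell g then 0 else 1) = S.card - Nat.card {g : ↥(Cfsg.Sz F m) // hs.Ell g} := by
    have hsplit : ∑ g ∈ S, (if hs.Ell g then 0 else 1) + (S.filter fun g => hs.Ell g).card = S.card := by
      rw [Finset.card_filter, ← Finset.sum_add_distrib, Finset.card_eq_sum_ones]
      exact Finset.sum_congr rfl fun g _ => by split <;> simp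
    have hEc : (S.filter fun g => hs.Ell g).card = Nat.card {g : ↥(Cfsg.Sz F m) // hs.Ell g} := by
      rw [Nat.card_eq_fintype_card, Fintype.card_subtype]
      refine congrArg Finset.card (Finset.ext fun g => ?_)
      simp only [S, Finset.mem_filter, Finset.mem_erase, Finset.mem_univ, and_true, true_and, and_iff_right_iff_imp]
      exact fun h => (hs.elliptic_of_no_fix h).1
    omega
  have hle2 : Nat.card {g : ↥(Cfsg.Sz F m) // hs.Ell g} ≤ S.card := by
    rw [Nat.card_eq_fintype_card, Fintype.card_subtype]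
    refine Finset.card_le_card fun g hg => Finset.mem_erase.mpr ⟨?_, Finset.mem_univ g⟩
    exact (hs.elliptic_of_no_fix (Finset.mem_filter.mp hg).2).1
  have hS : S.card = Q ^ 2 * (Q ^ 2 + 1) * (Q - 1) - 1 := by
    rw [Finset.card_erase_of_mem (Finset.mem_univ _), Finset.card_univ, ← Nat.card_eq_fintype_card, hs.card_sz]
  rw [hne] at hsum
  obtain ⟨-, -, -, h8, -⟩ := hs.arith
  generalize Nat.card {g : ↥(Cfsg.Sz F m) // hs.Ell g} = E at *
  generalize S.card = s at *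
  generalize (2 : ℕ) ^ (2 * m + 1) = q at *
  obtain ⟨r, rfl⟩ : ∃ r, q = r + 2 := ⟨q - 2, by omega⟩
  simp only [show r + 2 - 1 = r + 1 by omega, Nat.add_sub_cancel] at *
  have p1 : 1 ≤ (r + 2) ^ 2 * ((r + 2) ^ 2 + 1) * (r + 1) := Nat.one_le_iff_ne_zero.mpr (by positivity)
  have p2 : 1 ≤ (r + 2) ^ 2 * (r + 1) := Nat.one_le_iff_ne_zero.mpr (by positivity)
  zify [p1, p2, hle2] at hsum hS ⊢
  linear_combination hsum + 2 * hS

/-- The elements lying in some conjugate of the centraliser of `g`, other than the identity. -/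
noncomputable def torClass (_ : SzHyp F m) (g : ↥(Cfsg.Sz F m)) : Finset ↥(Cfsg.Sz F m) :=
  haveI : Fintype ↥(Cfsg.Sz F m) := Fintype.ofFinite _
  haveI := Classical.decPred fun e : ↥(Cfsg.Sz F m) =>
    e ≠ 1 ∧ ∃ x, x⁻¹ * e * x ∈ Subgroup.centralizer ({g} : Set ↥(Cfsg.Sz F m))
  Finset.univ.filter fun e => e ≠ 1 ∧ ∃ x, x⁻¹ * e * x ∈ Subgroup.centralizer ({g} : Set ↥(Cfsg.Sz F m))

theorem mem_torClass {g e : ↥(Cfsg.Sz F m)} : e ∈ hs.torClass g ↔
    e ≠ 1 ∧ ∃ x, x⁻¹ * e * x ∈ Subgroup.centralizer ({g} : Set ↥(Cfsg.Sz F m)) := by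
  simp [torClass]

theorem torClass_ell {g e : ↥(Cfsg.Sz F m)} (hg : hs.Ell g) (he : e ∈ hs.torClass g) : hs.Ell e := by
  obtain ⟨he1, x, hx⟩ := hs.mem_torClass.mp he
  have hne : x⁻¹ * e * x ≠ 1 := fun h => he1 (by
    have := congrArg (fun z => x * z * x⁻¹) h
    simpa [mul_assoc] using this)
  intro p hp
  refine (hs.centralizer_eq hg hx hne).1 (x⁻¹ • p) ?_
  rw [mul_smul, mul_smul, smul_inv_smul, hp]

theorem card_torClass {g : ↥(Cfsg.Sz F m)} (hg : hs.Ell g) :
    (hs.torClass g).card *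
      Nat.card ↥(Subgroup.normalizer (Subgroup.centralizer ({g} : Set ↥(Cfsg.Sz F m)) : Set ↥(Cfsg.Sz F m))) =
      Nat.card ↥(Cfsg.Sz F m) * (Nat.card ↥(Subgroup.centralizer ({g} : Set ↥(Cfsg.Sz F m))) - 1) := by
  classical
  haveI : Fintype ↥(Cfsg.Sz F m) := Fintype.ofFinite _
  set C := Subgroup.centralizer ({g} : Set ↥(Cfsg.Sz F m)) with hC
  set N := Subgroup.normalizer (C : Set ↥(Cfsg.Sz F m)) with hN
  haveI : Fintype (↥(Cfsg.Sz F m) ⧸ N) := Fintype.ofFinite _
  let part : ↥(Cfsg.Sz F m) ⧸ N → Finset ↥(Cfsg.Sz F m) := fun c =>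
    ((Finset.univ.filter fun u => u ∈ C).erase 1).image fun u => c.out * u * c.out⁻¹
  have hpart : ∀ c e, e ∈ part c ↔ e ≠ 1 ∧ c.out⁻¹ * e * c.out ∈ C := by
    intro c e
    simp only [part, Finset.mem_image, Finset.mem_erase, Finset.mem_filter, Finset.mem_univ, true_and]
    constructor
    · rintro ⟨u, ⟨hu1, hu⟩, rfl⟩
      refine ⟨fun h => hu1 ?_, by simpa [mul_assoc] using hu⟩
      have := congrArg (fun z => c.out⁻¹ * z * c.out) h
      simpa [mul_assoc] using this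
    · rintro ⟨he, hu⟩
      refine ⟨_, ⟨fun h => he ?_, hu⟩, by simp [mul_assoc]⟩
      have := congrArg (fun z => c.out * z * c.out⁻¹) h
      simpa [mul_assoc] using this
  have hdisj : ((Finset.univ : Finset (↥(Cfsg.Sz F m) ⧸ N)) : Set (↥(Cfsg.Sz F m) ⧸ N)).PairwiseDisjoint part := by
    intro a _ b _ hab
    refine Finset.disjoint_left.mpr fun e ha hb => hab ?_
    obtain ⟨he, ha⟩ := (hpart a e).mp ha
    obtain ⟨-, hb⟩ := (hpart b e).mp hb
    have hne : ∀ x : ↥(Cfsg.Sz F m), x⁻¹ * e * x ≠ 1 := fun x h => he (by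
      have := congrArg (fun z => x * z * x⁻¹) h
      simpa [mul_assoc] using this)
    have ca := (hs.centralizer_eq hg ha (hne _)).2
    have cb := (hs.centralizer_eq hg hb (hne _)).2
    rw [← QuotientGroup.out_eq' a, ← QuotientGroup.out_eq' b, QuotientGroup.eq]
    refine Subgroup.mem_normalizer_iff.mpr fun z => ?_
    show z ∈ C ↔ a.out⁻¹ * b.out * z * (a.out⁻¹ * b.out)⁻¹ ∈ C
    rw [← hC] at ca cb
    nth_rw 1 [← cb]
    nth_rw 1 [← ca]
    rw [Subgroup.mem_centralizer_singleton_iff, Subgroup.mem_centralizer_singleton_iff]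
    constructor <;> intro h
    · calc a.out⁻¹ * b.out * z * (a.out⁻¹ * b.out)⁻¹ * (a.out⁻¹ * e * a.out)
          = a.out⁻¹ * b.out * (z * (b.out⁻¹ * e * b.out)) * b.out⁻¹ * a.out := by group
        _ = a.out⁻¹ * b.out * ((b.out⁻¹ * e * b.out) * z) * b.out⁻¹ * a.out := by rw [h]
        _ = a.out⁻¹ * e * a.out * (a.out⁻¹ * b.out * z * (a.out⁻¹ * b.out)⁻¹) := by group
    · calc z * (b.out⁻¹ * e * b.out)
          = b.out⁻¹ * a.out * (a.out⁻¹ * b.out * z * (a.out⁻¹ * b.out)⁻¹ * (a.out⁻¹ * e * a.out)) * a.out⁻¹ * b.out := by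
            group
        _ = b.out⁻¹ * a.out * ((a.out⁻¹ * e * a.out) * (a.out⁻¹ * b.out * z * (a.out⁻¹ * b.out)⁻¹)) * a.out⁻¹ * b.out := by
            rw [h]
        _ = b.out⁻¹ * e * b.out * z := by group
  have hU : hs.torClass g = Finset.univ.disjiUnion part hdisj := by
    ext e
    rw [hs.mem_torClass, Finset.mem_disjiUnion]
    constructor
    · rintro ⟨he, x, hx⟩
      refine ⟨QuotientGroup.mk x, Finset.mem_univ _, (hpart _ e).mpr ⟨he, ?_⟩⟩
      obtain ⟨n, hn⟩ : ∃ n : ↥N, (QuotientGroup.mk (s := N) x).out = x * n := QuotientGroup.mk_out_eq_mul N x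
      rw [hn, show (x * (n : ↥(Cfsg.Sz F m)))⁻¹ * e * (x * n) = (n : ↥(Cfsg.Sz F m))⁻¹ * (x⁻¹ * e * x) * ((n : ↥(Cfsg.Sz F m))⁻¹)⁻¹ by group]
      exact (Subgroup.mem_normalizer_iff.mp (N.inv_mem n.2) _).mp hx
    · rintro ⟨c, -, hc⟩
      obtain ⟨he, hx⟩ := (hpart c e).mp hc
      exact ⟨he, _, hx⟩
  have hcard : ∀ c, (part c).card = Nat.card ↥C - 1 := by
    intro c
    rw [Finset.card_image_of_injective _ (fun u u' h => mul_left_cancel (mul_right_cancel h)),
      Finset.card_erase_of_mem (by simp), Nat.card_eq_fintype_card, Fintype.card_subtype]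
  rw [hU, Finset.card_disjiUnion, Finset.sum_congr rfl fun c _ => hcard c, Finset.sum_const, Finset.card_univ,
    smul_eq_mul, ← Nat.card_eq_fintype_card, ← Subgroup.index, ← Subgroup.card_mul_index N]
  ring

theorem torClass_disjoint {g h : ↥(Cfsg.Sz F m)} (hg : hs.Ell g) (hh : hs.Ell h) (hn : h ∉ hs.torClass g) :
    Disjoint (hs.torClass g) (hs.torClass h) := by
  refine Finset.disjoint_left.mpr fun e he he' => hn ?_
  obtain ⟨he1, x, hx⟩ := hs.mem_torClass.mp he
  obtain ⟨-, y, hy⟩ := hs.mem_torClass.mp he'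
  have hne : ∀ x : ↥(Cfsg.Sz F m), x⁻¹ * e * x ≠ 1 := fun x h => he1 (by
    have := congrArg (fun z => x * z * x⁻¹) h
    simpa [mul_assoc] using this)
  have cx := (hs.centralizer_eq hg hx (hne _)).2
  have cy := (hs.centralizer_eq hh hy (hne _)).2
  have hmem : h ∈ Subgroup.centralizer ({y⁻¹ * e * y} : Set ↥(Cfsg.Sz F m)) :=
    cy ▸ Subgroup.mem_centralizer_singleton_iff.mpr rfl
  refine hs.mem_torClass.mpr ⟨(hs.elliptic_of_no_fix hh).1, y⁻¹ * x, ?_⟩
  rw [← cx, Subgroup.mem_centralizer_singleton_iff]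
  rw [Subgroup.mem_centralizer_singleton_iff] at hmem
  calc (y⁻¹ * x)⁻¹ * h * (y⁻¹ * x) * (x⁻¹ * e * x) = x⁻¹ * y * (h * (y⁻¹ * e * y)) * y⁻¹ * x := by group
    _ = x⁻¹ * y * ((y⁻¹ * e * y) * h) * y⁻¹ * x := by rw [hmem]
    _ = x⁻¹ * e * x * ((y⁻¹ * x)⁻¹ * h * (y⁻¹ * x)) := by group

theorem self_mem_torClass {g : ↥(Cfsg.Sz F m)} (hg : hs.Ell g) : g ∈ hs.torClass g :=
  hs.mem_torClass.mpr ⟨(hs.elliptic_of_no_fix hg).1, 1, by
    simp [Subgroup.mem_centralizer_singleton_iff]⟩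

theorem five_le {u : ℕ} (hu : u ∣ Q + θ + 1 ∨ u ∣ Q - θ + 1) (h1 : u ≠ 1) :
    5 ≤ u ∧ (u ∣ Q + θ + 1 → u = Q + θ + 1 ∨ 5 * u ≤ Q + θ + 1) ∧ (u ∣ Q - θ + 1 → u ≤ Q - θ + 1) := by
  obtain ⟨-, hθ, h4, h8, h3, hab⟩ := hs.arith
  have he : 2 ∣ Q := dvd_pow_self 2 (by omega)
  have he' : 2 ∣ θ := dvd_pow_self 2 (by omega)
  have hsmall : ∀ v, v ∣ Q ^ 2 + 1 → v = 0 ∨ v = 1 ∨ 5 ≤ v := by
    intro v hv
    by_contra hc
    push Not at hc
    obtain ⟨c0, c1, c5⟩ := hc
    have h2 : ¬ 2 ∣ Q ^ 2 + 1 := by have := dvd_pow he two_ne_zero; omega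
    interval_cases v
    · omega
    · omega
    · exact h2 hv
    · rw [Nat.dvd_iff_mod_eq_zero, Nat.add_mod, Nat.pow_mod, h3] at hv
      norm_num at hv
    · exact h2 (dvd_trans (by norm_num) hv)
  have hu2 : u ∣ Q ^ 2 + 1 := by
    rw [← hab]
    rcases hu with h | h
    exacts [h.mul_right _, h.mul_left _]
  refine ⟨?_, fun h => ?_, fun h => Nat.le_of_dvd (by omega) h⟩
  · rcases hsmall u hu2 with e | e | e
    · subst e; rw [zero_dvd_iff] at hu2; omega
    · exact absurd e h1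
    · exact e
  · obtain ⟨c, hc⟩ := h
    rcases hsmall c (by rw [← hab]; exact (Dvd.intro_left u hc.symm).mul_right _) with e | e | e
    · subst e; omega
    · exact Or.inl (by rw [hc, e, mul_one])
    · exact Or.inr (by rw [hc, mul_comm]; exact Nat.mul_le_mul_left u e)

theorem count_arith {u v k l n : ℕ} {X Y : ℕ} (hk : k ∈ ({1, 2, 4} : Finset ℕ)) (hl : l ∈ ({1, 2, 4} : Finset ℕ))
    (hu : 5 ≤ u) (hv : 5 ≤ v) (hX : X * (k * u) = n * (u - 1)) (hY : Y * (l * v) = n * (v - 1))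
    (hn : n = Q ^ 2 * (Q ^ 2 + 1) * (Q - 1)) (hsum : 2 * (X + Y) = Q ^ 3 * (Q - 1) ^ 2) :
    k = 4 ∧ l = 4 ∧ (Q ^ 2 + 1) * (u + v) = 2 * (Q + 1) * (u * v) := by
  obtain ⟨-, -, -, h8, -⟩ := hs.arith
  generalize (2 : ℕ) ^ (2 * m + 1) = q at *
  obtain ⟨r, rfl⟩ : ∃ r, q = r + 1 := ⟨q - 1, by omega⟩
  rw [Nat.add_sub_cancel] at *
  have hn0 : 0 < n := by subst hn; have : 0 < r := (by omega); positivity
  have big : 2 * (X + Y) < n := by
    rw [hsum, hn]
    have h1 : 0 < r := by omega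
    calc (r + 1) ^ 3 * r ^ 2 = ((r + 1) ^ 2 * r) * ((r + 1) * r) := by ring
      _ < ((r + 1) ^ 2 * r) * ((r + 1) ^ 2 + 1) := Nat.mul_lt_mul_of_pos_left (by nlinarith) (by positivity)
      _ = _ := by ring
  have low : ∀ {x w j : ℕ}, 5 ≤ w → x * (j * w) = n * (w - 1) → 4 * n ≤ 5 * (x * j) := by
    intro x w j hw h
    obtain ⟨i, rfl⟩ : ∃ i, w = i + 5 := ⟨w - 5, by omega⟩
    rw [show i + 5 - 1 = i + 4 by omega] at h
    refine Nat.le_of_mul_le_mul_right ?_ (show 0 < i + 5 by omega)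
    calc 4 * n * (i + 5) ≤ 5 * (n * (i + 4)) := by nlinarith
      _ = 5 * (x * (j * (i + 5))) := by rw [h]
      _ = _ := by ring
  have hk4 : k = 4 ∧ l = 4 := by
    have a := low hu hX
    have b := low hv hY
    simp only [Finset.mem_insert, Finset.mem_singleton] at hk hl
    rcases hk with rfl | rfl | rfl <;> rcases hl with rfl | rfl | rfl <;> first | exact ⟨rfl, rfl⟩ | omega
  obtain ⟨rfl, rfl⟩ := hk4
  refine ⟨rfl, rfl, ?_⟩
  subst hn
  obtain ⟨i, rfl⟩ : ∃ i, u = i + 1 := ⟨u - 1, by omega⟩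
  obtain ⟨j, rfl⟩ : ∃ j, v = j + 1 := ⟨v - 1, by omega⟩
  rw [Nat.add_sub_cancel] at hX hY
  refine Nat.eq_of_mul_eq_mul_left (show 0 < (r + 1) ^ 2 * r by have : 0 < r := (by omega); positivity) ?_
  zify at hX hY hsum ⊢
  linear_combination ((j : ℤ) + 1) * hX + ((i : ℤ) + 1) * hY - 2 * ((i : ℤ) + 1) * ((j : ℤ) + 1) * hsum

theorem two_classes : ∃ g h : ↥(Cfsg.Sz F m), hs.Ell g ∧ hs.Ell h ∧ (∀ e, hs.Ell e → e ∈ hs.torClass g ∨ e ∈ hs.torClass h) ∧
    Nat.card ↥(Subgroup.centralizer ({g} : Set ↥(Cfsg.Sz F m))) = Q + θ + 1 ∧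
    Nat.card ↥(Subgroup.centralizer ({h} : Set ↥(Cfsg.Sz F m))) = Q - θ + 1 ∧
    Nat.card ↥(Subgroup.normalizer (Subgroup.centralizer ({g} : Set ↥(Cfsg.Sz F m)) : Set ↥(Cfsg.Sz F m))) = 4 * (Q + θ + 1) ∧
    Nat.card ↥(Subgroup.normalizer (Subgroup.centralizer ({h} : Set ↥(Cfsg.Sz F m)) : Set ↥(Cfsg.Sz F m))) = 4 * (Q - θ + 1) := by
  classical
  haveI : Fintype ↥(Cfsg.Sz F m) := Fintype.ofFinite _
  obtain ⟨hsq, hθ, hθ4, h8, -, hab⟩ := hs.arith
  set E : Finset ↥(Cfsg.Sz F m) := Finset.univ.filter fun e => hs.Ell e with hE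
  have hEcard : 2 * E.card = Q ^ 3 * (Q - 1) ^ 2 := by
    rw [← hs.card_fixing, Nat.card_eq_fintype_card, Fintype.card_subtype]
  have info : ∀ {g}, hs.Ell g → ∃ k u, k ∈ ({1, 2, 4} : Finset ℕ) ∧ 5 ≤ u ∧
      Nat.card ↥(Subgroup.centralizer ({g} : Set ↥(Cfsg.Sz F m))) = u ∧
      (hs.torClass g).card * (k * u) = Q ^ 2 * (Q ^ 2 + 1) * (Q - 1) * (u - 1) := by
    intro g hg
    obtain ⟨k, hk, hN⟩ := hs.index_cases hg
    refine ⟨k, _, hk, (hs.five_le (hs.centralizer_facts hg).2.1 fun e => ?_).1, rfl, ?_⟩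
    · rw [Subgroup.card_eq_one] at e
      exact (hs.elliptic_of_no_fix hg).1 ((Subgroup.mem_bot).mp (e ▸ Subgroup.mem_centralizer_singleton_iff.mpr rfl))
    · rw [← hN, hs.card_torClass hg, hs.card_sz]
  have hEne : E.Nonempty := Finset.card_pos.mp (by
    have : 0 < Q ^ 3 * (Q - 1) ^ 2 := Nat.mul_pos (by positivity) (pow_pos (by omega) 2)
    omega)
  obtain ⟨g, hg⟩ := hEne
  have hg' := (Finset.mem_filter.mp hg).2
  obtain ⟨k, u, hk, hu, huc, hX⟩ := info hg'
  have hsubg : hs.torClass g ⊆ E := fun e he => Finset.mem_filter.mpr ⟨Finset.mem_univ _, hs.torClass_ell hg' he⟩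
  by_cases hone : E ⊆ hs.torClass g
  · exfalso
    have heq := Finset.Subset.antisymm hsubg hone
    rw [heq] at hX
    obtain ⟨i, rfl⟩ : ∃ i, u = i + 5 := ⟨u - 5, by omega⟩
    rw [show i + 5 - 1 = i + 4 by omega] at hX
    generalize E.card = X at *
    have heven : 2 ∣ Q := dvd_pow_self 2 (by omega)
    generalize (2 : ℕ) ^ (2 * m + 1) = q at *
    obtain ⟨r, rfl⟩ : ∃ r, q = r + 1 := ⟨q - 1, by omega⟩
    rw [Nat.add_sub_cancel] at *
    have h' : (r + 1) * r * (k * (i + 5)) = 2 * ((r + 1) ^ 2 + 1) * (i + 4) :=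
      Nat.eq_of_mul_eq_mul_left (show 0 < (r + 1) ^ 2 * r by have : 0 < r := (by omega); positivity)
        (calc _ = ((r + 1) ^ 3 * r ^ 2) * (k * (i + 5)) := by ring
          _ = 2 * (X * (k * (i + 5))) := by rw [← hEcard]; ring
          _ = _ := by rw [hX]; ring)
    simp only [Finset.mem_insert, Finset.mem_singleton] at hk
    rcases hk with rfl | rfl | rfl
    · nlinarith
    · -- q + 1 would divide q² + 1
      have h2 : (r + 2) * (i + 5) = (r + 1) ^ 2 + 1 := by nlinarith [h']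
      exact Nat.not_coprime_of_dvd_of_dvd (show 1 < r + 2 by omega) (Dvd.intro _ h2) dvd_rfl
        (@coprime_sq_add_one_succ (r + 1) heven)
    · have hA : (r + 1) ^ 2 + 1 ≤ 2 * ((r + 1) * r) := by nlinarith
      have := Nat.mul_le_mul_right (i + 5) hA
      nlinarith [h']
  obtain ⟨h, hh, hhg⟩ := Finset.not_subset.mp hone
  have hh' := (Finset.mem_filter.mp hh).2
  obtain ⟨l, v, hl, hv, hvc, hY⟩ := info hh'
  have hsubh : hs.torClass h ⊆ E := fun e he => Finset.mem_filter.mpr ⟨Finset.mem_univ _, hs.torClass_ell hh' he⟩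
  have hd := hs.torClass_disjoint hg' hh' hhg
  have hall : E ⊆ hs.torClass g ∪ hs.torClass h := by
    intro e he
    by_contra hc
    rw [Finset.mem_union, not_or] at hc
    have he' := (Finset.mem_filter.mp he).2
    obtain ⟨j, w, hj, hw, -, hZ⟩ := info he'
    have d1 := hs.torClass_disjoint hg' he' hc.1
    have d2 := hs.torClass_disjoint hh' he' hc.2
    have hle : (hs.torClass g).card + (hs.torClass h).card + (hs.torClass e).card ≤ E.card := by
      rw [← Finset.card_union_of_disjoint hd, ← Finset.card_union_of_disjoint (Finset.disjoint_union_left.mpr ⟨d1, d2⟩)]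
      exact Finset.card_le_card (Finset.union_subset (Finset.union_subset hsubg hsubh)
        fun z hz => Finset.mem_filter.mpr ⟨Finset.mem_univ _, hs.torClass_ell he' hz⟩)
    set n := Q ^ 2 * (Q ^ 2 + 1) * (Q - 1) with hn
    have hbig : 2 * E.card < n := by
      rw [hEcard, hn, show Q ^ 3 * (Q - 1) ^ 2 = Q ^ 2 * (Q * (Q - 1)) * (Q - 1) by ring]
      refine Nat.mul_lt_mul_of_pos_right (Nat.mul_lt_mul_of_pos_left ?_ (by positivity)) (by omega)
      have : Q * (Q - 1) ≤ Q ^ 2 := by rw [sq]; exact Nat.mul_le_mul_left _ (Nat.sub_le _ _)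
      omega
    have low : ∀ {x w j : ℕ}, j ∈ ({1, 2, 4} : Finset ℕ) → 5 ≤ w → x * (j * w) = n * (w - 1) → n ≤ 5 * x := by
      intro x w j hj hw h
      obtain ⟨i, rfl⟩ : ∃ i, w = i + 5 := ⟨w - 5, by omega⟩
      rw [show i + 5 - 1 = i + 4 by omega] at h
      simp only [Finset.mem_insert, Finset.mem_singleton] at hj
      rcases hj with rfl | rfl | rfl <;> nlinarith
    have := low hk hu hX
    have := low hl hv hY
    have := low hj hw hZ
    omega
  have hEq : E.card = (hs.torClass g).card + (hs.torClass h).card := by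
    rw [← Finset.card_union_of_disjoint hd]
    exact le_antisymm (Finset.card_le_card hall) (Finset.card_le_card (Finset.union_subset hsubg hsubh))
  obtain ⟨rfl, rfl, hrel⟩ := hs.count_arith hk hl hu hv hX hY rfl (hEq ▸ hEcard)
  have hN : ∀ {e}, hs.Ell e → (hs.torClass e).card * (4 * Nat.card ↥(Subgroup.centralizer ({e} : Set ↥(Cfsg.Sz F m)))) =
      Q ^ 2 * (Q ^ 2 + 1) * (Q - 1) * (Nat.card ↥(Subgroup.centralizer ({e} : Set ↥(Cfsg.Sz F m))) - 1) →
      Nat.card ↥(Subgroup.normalizer (Subgroup.centralizer ({e} : Set ↥(Cfsg.Sz F m)) : Set ↥(Cfsg.Sz F m))) =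
        4 * Nat.card ↥(Subgroup.centralizer ({e} : Set ↥(Cfsg.Sz F m))) := by
    intro e he h
    have := hs.card_torClass he
    rw [hs.card_sz, ← h] at this
    exact Nat.eq_of_mul_eq_mul_left (Finset.card_pos.mpr ⟨e, hs.self_mem_torClass he⟩) this
  have hNg := hN hg' (by rw [huc]; exact hX)
  have hNh := hN hh' (by rw [hvc]; exact hY)
  rw [huc] at hNg
  rw [hvc] at hNh
  have key : ∀ {u v : ℕ}, 5 ≤ u → 5 ≤ v → (u ∣ Q + θ + 1 ∨ u ∣ Q - θ + 1) → (v ∣ Q + θ + 1 ∨ v ∣ Q - θ + 1) →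
      (Q ^ 2 + 1) * (u + v) = 2 * (Q + 1) * (u * v) →
      (u = Q + θ + 1 ∧ v = Q - θ + 1) ∨ (v = Q + θ + 1 ∧ u = Q - θ + 1) := by
    intro u v hu hv hud hvd hrel
    obtain ⟨-, ua, ub⟩ := hs.five_le hud (by omega)
    obtain ⟨-, va, vb⟩ := hs.five_le hvd (by omega)
    rw [← hab, show 2 * (Q + 1) = (Q + θ + 1) + (Q - θ + 1) by omega] at hrel
    have h4b : Q + θ + 1 < 4 * (Q - θ + 1) := by
      have : 2 * θ ≤ Q := by
        rw [← pow_succ']
        exact Nat.pow_le_pow_right two_pos (by have := hs.hm; omega)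
      omega
    have hAB : Q - θ + 1 < Q + θ + 1 := by omega
    generalize Q + θ + 1 = A at *
    generalize Q - θ + 1 = B at *
    rcases hud with h | h <;> rcases hvd with h' | h'
    · exact (ab_same_big (by omega) hu hv h4b hAB (ua h) (va h') hrel).elim
    · exact Or.inl (ab_mixed (by omega) (by omega) (by rcases ua h with e | e <;> omega) (vb h') hrel)
    · exact Or.inr (ab_mixed (by omega) (by omega) (by rcases va h' with e | e <;> omega) (ub h)
        (by rw [add_comm v, mul_comm v]; exact hrel))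
    · exact (ab_same_small (by omega) (by omega) hAB (ub h) (vb h') hrel).elim
  have hud := (hs.centralizer_facts hg').2.1
  have hvd := (hs.centralizer_facts hh').2.1
  rw [huc] at hud
  rw [hvc] at hvd
  have hcover : ∀ e, hs.Ell e → e ∈ hs.torClass g ∨ e ∈ hs.torClass h := fun e he =>
    Finset.mem_union.mp (hall (Finset.mem_filter.mpr ⟨Finset.mem_univ _, he⟩))
  rcases key hu hv hud hvd hrel with ⟨a, b⟩ | ⟨a, b⟩
  · exact ⟨g, h, hg', hh', hcover, huc.trans a, hvc.trans b, a ▸ hNg, b ▸ hNh⟩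
  · exact ⟨h, g, hh', hg', fun e he => (hcover e he).symm, hvc.trans a, huc.trans b, a ▸ hNh, b ▸ hNg⟩

theorem card_centralizer_ell {g : ↥(Cfsg.Sz F m)} (hg : hs.Ell g) :
    Nat.card ↥(Subgroup.centralizer ({g} : Set ↥(Cfsg.Sz F m))) = Q + θ + 1 ∨
      Nat.card ↥(Subgroup.centralizer ({g} : Set ↥(Cfsg.Sz F m))) = Q - θ + 1 := by
  obtain ⟨a, b, ha, hb, hall, hca, hcb, -, -⟩ := hs.two_classes
  have key : ∀ {a}, hs.Ell a → g ∈ hs.torClass a →
      Nat.card ↥(Subgroup.centralizer ({g} : Set ↥(Cfsg.Sz F m))) = Nat.card ↥(Subgroup.centralizer ({a} : Set ↥(Cfsg.Sz F m))) := by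
    intro a ha hga
    obtain ⟨hg1, x, hx⟩ := hs.mem_torClass.mp hga
    have hne : x⁻¹ * g * x ≠ 1 := fun h => hg1 (by
      have := congrArg (fun z => x * z * x⁻¹) h
      simpa [mul_assoc] using this)
    rw [← (hs.centralizer_eq ha hx hne).2]
    refine Nat.card_congr ((MulAut.conj x⁻¹).toEquiv.subtypeEquiv fun z => ?_)
    simp only [MulEquiv.toEquiv_eq_coe, EquivLike.coe_coe, MulAut.conj_apply, inv_inv,
      Subgroup.mem_centralizer_singleton_iff]
    constructor <;> intro h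
    · calc x⁻¹ * z * x * (x⁻¹ * g * x) = x⁻¹ * (z * g) * x := by group
        _ = x⁻¹ * (g * z) * x := by rw [h]
        _ = x⁻¹ * g * x * (x⁻¹ * z * x) := by group
    · calc z * g = x * (x⁻¹ * z * x * (x⁻¹ * g * x)) * x⁻¹ := by group
        _ = x * (x⁻¹ * g * x * (x⁻¹ * z * x)) * x⁻¹ := by rw [h]
        _ = g * z := by group
  rcases hall g hg with h | h
  · exact Or.inl ((key ha h).trans hca)
  · exact Or.inr ((key hb h).trans hcb)

theorem normalizer_ell_four_dvd {g : ↥(Cfsg.Sz F m)} (hg : hs.Ell g) :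
    4 ∣ Nat.card ↥(Subgroup.normalizer (Subgroup.centralizer ({g} : Set ↥(Cfsg.Sz F m)) : Set ↥(Cfsg.Sz F m))) := by
  obtain ⟨a, b, ha, hb, hall, -, -, hna, hnb⟩ := hs.two_classes
  have key : ∀ {a}, hs.Ell a → g ∈ hs.torClass a →
      Nat.card ↥(Subgroup.normalizer (Subgroup.centralizer ({g} : Set ↥(Cfsg.Sz F m)) : Set ↥(Cfsg.Sz F m))) =
        Nat.card ↥(Subgroup.normalizer (Subgroup.centralizer ({a} : Set ↥(Cfsg.Sz F m)) : Set ↥(Cfsg.Sz F m))) := by
    intro a ha hga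
    obtain ⟨hg1, x, hx⟩ := hs.mem_torClass.mp hga
    have hne : x⁻¹ * g * x ≠ 1 := fun h => hg1 (by
      have := congrArg (fun z => x * z * x⁻¹) h
      simpa [mul_assoc] using this)
    rw [← (hs.centralizer_eq ha hx hne).2]
    have hmap : Subgroup.centralizer ({x⁻¹ * g * x} : Set ↥(Cfsg.Sz F m)) =
        (Subgroup.centralizer ({g} : Set ↥(Cfsg.Sz F m))).map (MulAut.conj x⁻¹).toMonoidHom := by
      ext z
      rw [Subgroup.mem_map_equiv, MulAut.conj_symm_apply, inv_inv, Subgroup.mem_centralizer_singleton_iff,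
        Subgroup.mem_centralizer_singleton_iff]
      constructor <;> intro h
      · calc x * z * x⁻¹ * g = x * (z * (x⁻¹ * g * x)) * x⁻¹ := by group
          _ = x * ((x⁻¹ * g * x) * z) * x⁻¹ := by rw [h]
          _ = g * (x * z * x⁻¹) := by group
      · calc z * (x⁻¹ * g * x) = x⁻¹ * (x * z * x⁻¹ * g) * x := by group
          _ = x⁻¹ * (g * (x * z * x⁻¹)) * x := by rw [h]
          _ = x⁻¹ * g * x * z := by group
    rw [hmap, ← Subgroup.map_equiv_normalizer_eq, Subgroup.card_map_of_injective (MulEquiv.injective _)]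
  rcases hall g hg with h | h
  · rw [key ha h, hna]; exact dvd_mul_right 4 _
  · rw [key hb h, hnb]; exact dvd_mul_right 4 _

theorem exists_torus : ∀ k ∈ ({Q + θ + 1, Q - θ + 1} : Set ℕ),
    ∃ U : Subgroup ↥(Cfsg.Sz F m), IsCyclic U ∧ Nat.card U = k ∧
      (∀ u ∈ U, u ≠ 1 → Subgroup.centralizer {u} = U) ∧ Nat.card (Subgroup.normalizer (U : Set ↥(Cfsg.Sz F m))) = 4 * k := by
  obtain ⟨a, b, ha, hb, -, hca, hcb, hna, hnb⟩ := hs.two_classes
  rintro k (rfl | rfl)
  · exact ⟨_, (hs.centralizer_facts ha).1, hca, fun u hu h1 => (hs.centralizer_eq ha hu h1).2, hna⟩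
  · exact ⟨_, (hs.centralizer_facts hb).1, hcb, fun u hu h1 => (hs.centralizer_eq hb hu h1).2, hnb⟩

end SzHyp

end Cfsg.Agent.Suzuki
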